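import Cfsg.Agent.Lib.Known.CoverPSL.Det

/-!
# The two goals: nonscalar targets, and one scalar target
-/

set_option autoImplicit false
set_option linter.unusedSectionVars false
set_option linter.style.haveILetI false

open Matrix Polynomial CfsgLib.Ore

namespace CfsgLib.Known.CoverPSL

universe u

variable {F : Type u} [Field F]
variable {ι κ : Type*} [Fintype ι] [DecidableEq ι] [Fintype κ] [DecidableEq κ]

/-- every nonscalar matrix of the right determinant is a product of `m` conjugates -/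
def Good (X : Matrix ι ι F) (m : ℕ) : Prop :=
  ∀ G : Matrix ι ι F, Nonscalar G → G.det = X.det ^ m → SProds X m G

/-- every nonscalar matrix of the right determinant is a product of `m` similar matrices -/
def GoodP (X : Matrix ι ι F) (m : ℕ) : Prop :=
  ∀ G : Matrix ι ι F, Nonscalar G → G.det = X.det ^ m → Prods X m G

/-- some scalar matrix is a product of `m` conjugates -/
def GoodS (X : Matrix ι ι F) (m : ℕ) : Prop := ∃ z : F, SProds X m (z • 1)

theorem GoodP.good {X : Matrix ι ι F} {m : ℕ} (h : GoodP X m) (hX : Full X) : Good X m :=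
  fun G hG hd => (h G hG hd).sprods hX

theorem SProds.conj {X : Matrix κ κ F} {m : ℕ} {P : Matrix ι κ F} {Q : Matrix κ ι F} (h1 : P * Q = 1)
    (h2 : Q * P = 1) {G : Matrix ι ι F} (h : SProds X m (Q * G * P)) : SProds (P * X * Q) m G := by
  have := h.map h1 h2
  rwa [show P * (Q * G * P) * Q = G by
    calc P * (Q * G * P) * Q = P * Q * G * (P * Q) := by simp only [Matrix.mul_assoc]
      _ = G := by rw [h1, Matrix.one_mul, Matrix.mul_one]] at this

theorem Good.of_sim {X : Matrix ι ι F} {Y : Matrix κ κ F} (e : Sim X Y) {m : ℕ} (h : Good Y m) : Good X m := by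
  obtain ⟨P, Q, h1, h2, rfl⟩ := sim_exists e
  intro G hG hd
  refine SProds.conj h1 h2 (h _ (Nonscalar.of_sim (sim_conj h2 h1 G) hG) ?_)
  rw [det_conj_rect h2 h1, hd, det_conj_rect h1 h2]

theorem GoodS.of_sim {X : Matrix ι ι F} {Y : Matrix κ κ F} (e : Sim X Y) {m : ℕ} (h : GoodS Y m) : GoodS X m := by
  obtain ⟨P, Q, h1, h2, rfl⟩ := sim_exists e
  obtain ⟨z, hz⟩ := h
  refine ⟨z, SProds.conj h1 h2 ?_⟩
  rwa [Matrix.mul_smul, Matrix.mul_one, Matrix.smul_mul, h2]

theorem GoodS.smul {X : Matrix ι ι F} {m : ℕ} (h : GoodS X m) (t : F) : GoodS (t • X) m := by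
  obtain ⟨z, hz⟩ := h
  exact ⟨t ^ m * z, by simpa [smul_smul] using hz.smul t⟩

theorem Good.succ {X : Matrix ι ι F} (hX : IsUnit X.det) (hns : Nonscalar X) {m : ℕ} (h : Good X m) :
    Good X (m + 1) := by
  intro G _ hd
  obtain ⟨Y, G', hY, hG', rfl⟩ := exists_rest (G := G) hX hns (by rw [hd]; exact pow_ne_zero _ hX.ne_zero)
  refine (h G' hG' ?_).cons hY
  rw [det_mul, hY.sim.det_eq, pow_succ'] at hd
  exact mul_left_cancel₀ hX.ne_zero hd

theorem Good.extend {X : Matrix ι ι F} (hX : IsUnit X.det) (hns : Nonscalar X) {m₀ : ℕ} (h : Good X m₀) :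
    ∀ m, m₀ ≤ m → Good X m := by
  intro m hm
  induction m, hm using Nat.le_induction with
  | base => exact h
  | succ m _ ih => exact ih.succ hX hns

theorem GoodP.pa_ext {X : Matrix ι ι F} (hX : IsUnit X.det) (hns : Nonscalar X) {m₀ : ℕ} (h : GoodP X m₀) :
    ∀ m, m₀ ≤ m → GoodP X m := by
  intro m hm
  induction m, hm using Nat.le_induction with
  | base => exact h
  | succ m _ ih =>
    intro G _ hd
    obtain ⟨Y, G', hY, hG', rfl⟩ := exists_rest (G := G) hX hns (by rw [hd]; exact pow_ne_zero _ hX.ne_zero)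
    have hd' : G'.det = X.det ^ m := by
      rw [det_mul, hY.sim.det_eq, pow_succ'] at hd
      exact mul_left_cancel₀ hX.ne_zero hd
    obtain ⟨l, l1, l2, l3⟩ := ih G' hG' hd'
    exact ⟨Y :: l, by simp [l1], List.forall_mem_cons.2 ⟨hY.sim, l2⟩, by rw [List.prod_cons, l3]⟩

/-- the inverse as a product gives a scalar -/
theorem GoodS.of_good {X : Matrix ι ι F} (hX : X.det = 1) (hns : Nonscalar X) {m : ℕ} (h : Good X m) :
    GoodS X (m + 1) := by
  have hu : IsUnit X.det := by rw [hX]; exact isUnit_one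
  refine ⟨1, ?_⟩
  rw [one_smul, ← Matrix.mul_nonsing_inv X hu]
  refine (h X⁻¹ (fun c hc => ?_) ?_).cons (Conj1.refl X)
  · have e := Matrix.mul_nonsing_inv X hu
    rw [hc, Matrix.mul_smul, Matrix.mul_one] at e
    rcases eq_or_ne c 0 with rfl | hc0
    · rw [zero_smul] at e
      exact hns 0 (by rw [zero_smul, ← Matrix.mul_one X, ← e, Matrix.mul_zero])
    · exact hns c⁻¹ (by rw [← e, smul_smul, inv_mul_cancel₀ hc0, one_smul])
  · rw [Matrix.det_nonsing_inv, hX, Ring.inverse_one, one_pow]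

/-- inverses -/
theorem GoodS.inv {X : Matrix ι ι F} {m : ℕ} (h : GoodS X m) : GoodS X⁻¹ m := by
  obtain ⟨z, l, hl, hc, hp⟩ := h
  have hprod : ∀ l : List (Matrix ι ι F), (l.reverse.map fun Y => Y⁻¹).prod = l.prod⁻¹ := fun l => by
    induction l with
    | nil => simp
    | cons Y l ih => rw [List.reverse_cons, List.map_append, List.prod_append, ih, List.prod_cons, Matrix.mul_inv_rev]; simp
  refine ⟨Ring.inverse z, l.reverse.map fun Y => Y⁻¹, by simp [hl], ?_, ?_⟩
  · intro Z hZ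
    obtain ⟨Y, hY, rfl⟩ := List.mem_map.1 hZ
    obtain ⟨P, hP, hYP⟩ := hc Y (List.mem_reverse.1 hY)
    have hu : IsUnit P.det := by rw [hP]; exact isUnit_one
    refine ⟨P, hP, ?_⟩
    have e : Y = P * X * P⁻¹ := by rw [← hYP, Matrix.mul_nonsing_inv_cancel_right _ _ hu]
    rw [e, Matrix.mul_inv_rev, Matrix.mul_inv_rev, Matrix.nonsing_inv_nonsing_inv _ hu, Matrix.mul_assoc,
      Matrix.nonsing_inv_mul_cancel_right _ _ hu]
  · rw [hprod, hp]
    rcases eq_or_ne z 0 with rfl | hz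
    · simp
    · rw [Ring.inverse_eq_inv']
      refine Matrix.inv_eq_right_inv ?_
      rw [Matrix.smul_mul, Matrix.mul_smul, Matrix.one_mul, smul_smul, mul_inv_cancel₀ hz, one_smul]

/-- a product of two pairs with `β` invariant under `v ↦ z / v` gives a scalar -/
theorem goodS_four [Fintype F] [DecidableEq F] {n : ℕ} {X : Matrix (Fin n) (Fin n) F} {g : ℕ} (hg : Pow X g)
    {ρ r : F} {A H : Matrix (Fin n) (Fin n) F} {β : Fin n → F} (hP : HasPair X ρ A H) (hr : ρ = r ^ g)
    (hT : TPair A H β) (v : F) (hv : Nat.Coprime g (Finset.univ.filter fun i => β i = v).card)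
    (hX : X.det ≠ 0) {z : F} (hz : z ≠ 0) (e : Fin n ≃ Fin n) (he : ∀ i, β i * β (e i) = z) : GoodS X 4 := by
  obtain ⟨sA, sH⟩ := hP.sim
  have hd : (A * H).det ≠ 0 := by rw [det_mul, sA.det_eq, sH.det_eq]; exact mul_ne_zero hX hX
  have hu : IsUnit (A * H).det := isUnit_iff_ne_zero.2 hd
  have hβ : ∀ i, β i ≠ 0 := fun i => by
    have h := hT.spl.det_eq
    exact Finset.prod_ne_zero_iff.1 (h ▸ hd) i (Finset.mem_univ i)
  have h1 := sprods_pair hg hP hr hT v hv (Sim.refl (A * H))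
  have hinv : Spl (z • (A * H)⁻¹) β := by
    have h := (spl_smul_inv hT.low hT.diag hT.thin hβ hz).perm e
    have e2 : (fun i => z / β i) ∘ e = β := funext fun i => by
      rw [Function.comp_apply, ← he i, mul_div_assoc, div_self (hβ _), mul_one]
    rwa [e2] at h
  have hs : Sim (z • (A * H)⁻¹) (A * H) := Spl.sim hinv hT.spl (by
    rw [det_smul, Matrix.det_nonsing_inv, Ring.inverse_eq_inv']
    exact mul_ne_zero (pow_ne_zero _ hz) (inv_ne_zero hd)) hd
  refine ⟨z, ?_⟩
  have := h1.mul (sprods_pair hg hP hr hT v hv hs)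
  rwa [Matrix.mul_smul, Matrix.mul_nonsing_inv _ hu] at this

/-- four factors from one pair -/
theorem good_four [Fintype F] [DecidableEq F] (h4 : 4 ≤ Fintype.card F) {n : ℕ} (hn : 3 ≤ n)
    {X : Matrix (Fin n) (Fin n) F} {g : ℕ} (hg : Pow X g)
    {ρ r : F} {A H : Matrix (Fin n) (Fin n) F} {β : Fin n → F} (hP : HasPair X ρ A H) (hr : ρ = r ^ g)
    (hT : TPair A H β) (v : F) (hv : Nat.Coprime g (Finset.univ.filter fun i => β i = v).card)
    (hX : X.det ≠ 0) : Good X 4 := by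
  intro G hG hdet
  obtain ⟨sA, sH⟩ := hP.sim
  have hdZ : (A * H).det = X.det ^ 2 := by rw [det_mul, sA.det_eq, sH.det_eq, pow_two]
  have hdZ0 : (A * H).det ≠ 0 := by rw [hdZ]; exact pow_ne_zero _ hX
  have hβ : ∏ i, β i = X.det ^ 2 := hT.spl.det_eq ▸ hdZ
  have hβ0 : ∀ i, β i ≠ 0 := fun i => Finset.prod_ne_zero_iff.1 (hβ ▸ pow_ne_zero 2 hX) i (Finset.mem_univ i)
  obtain ⟨L, U, hL, hU, rfl⟩ := exists_split_mul h4 hn G β β hβ0 hβ0 (by rw [hdet, hβ]; ring) hG
  have hdL : L.det ≠ 0 := by rw [hL.det_eq, hβ]; exact pow_ne_zero 2 hX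
  have hdU : U.det ≠ 0 := by rw [hU.det_eq, hβ]; exact pow_ne_zero 2 hX
  exact (sprods_pair hg hP hr hT v hv (Spl.sim hL hT.spl hdL hdZ0)).mul
    (sprods_pair hg hP hr hT v hv (Spl.sim hU hT.spl hdU hdZ0))

end CfsgLib.Known.CoverPSL
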