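import Cfsg.Agent.Lib.Known.CoverPSL.Blocks
import Cfsg.Agent.Lib.Known.CoverPSL.Good

/-!
# Blocks all of whose exponents have a common divisor

If all exponents of the primary blocks are divisible by `g`, some pair has a quotient of conjugator
determinants in the `g`-th powers and a value whose multiplicity is prime to `g`.
-/

set_option autoImplicit false
set_option linter.unusedSectionVars false
set_option linter.style.haveILetI false

open Matrix Polynomial CfsgLib.Ore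

namespace CfsgLib.Known.CoverPSL

universe u

variable {F : Type u} [Field F]
variable {κ μ : Type*} [Fintype κ] [DecidableEq κ] [Fintype μ] [DecidableEq μ]

/-- the number of positions with value `v` -/
noncomputable def cnt {n : ℕ} (β : Fin n → F) (v : F) : ℕ := by
  classical exact (Finset.univ.filter fun i => β i = v).card

theorem cnt_eq [DecidableEq F] {n : ℕ} (β : Fin n → F) (v : F) :
    cnt β v = (Finset.univ.filter fun i => β i = v).card := by
  rw [cnt]; congr

theorem cnt_append {m n : ℕ} (β : Fin m → F) (γ : Fin n → F) (v : F) :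
    cnt (Fin.append β γ) v = cnt β v + cnt γ v := by
  classical
  simp only [cnt_eq, Finset.card_filter]
  rw [Fin.sum_univ_add]
  simp

theorem cnt_cons {n : ℕ} (a : F) (β : Fin n → F) (v : F) [DecidableEq F] :
    cnt (Fin.cons a β : Fin (n + 1) → F) v = (if a = v then 1 else 0) + cnt β v := by
  simp only [cnt_eq, Finset.card_filter]
  rw [Fin.sum_univ_succ]
  simp

theorem cnt_eq_zero {n : ℕ} {β : Fin n → F} {v : F} (h : ∀ i, β i ≠ v) : cnt β v = 0 := by
  classical
  rw [cnt_eq, Finset.card_eq_zero, Finset.filter_eq_empty_iff]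
  exact fun i _ => h i

theorem cnt_blockVals_head {m : ℕ} {c : Fin (m + 2) → F} {s : Fin (m + 1) → F}
    (h : ∀ j, s j ≠ blockVals c s 0) : cnt (blockVals c s) (blockVals c s 0) = 1 := by
  classical
  have e : cnt (blockVals c s) (blockVals c s 0) = (if blockVals c s 0 = blockVals c s 0 then 1 else 0) + cnt s (blockVals c s 0) :=
    cnt_cons _ s _
  rw [e, if_pos rfl, cnt_eq_zero h, add_zero]

/-- the `g`-th powers -/
def IsPow (g : ℕ) (v : F) : Prop := ∃ r : F, v = r ^ g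

theorem IsPow.one (g : ℕ) : IsPow g (1 : F) := ⟨1, (one_pow g).symm⟩

theorem IsPow.mul {g : ℕ} {a b : F} : IsPow g a → IsPow g b → IsPow g (a * b)
  | ⟨r, hr⟩, ⟨t, ht⟩ => ⟨r * t, by rw [hr, ht, mul_pow]⟩

theorem IsPow.inv {g : ℕ} {a : F} : IsPow g a → IsPow g a⁻¹
  | ⟨r, hr⟩ => ⟨r⁻¹, by rw [hr, inv_pow]⟩

theorem IsPow.neg_one {g : ℕ} (h : Odd g) : IsPow g (-1 : F) := ⟨-1, h.neg_one_pow.symm⟩

theorem IsPow.of_even {g : ℕ} {a : F} (h : Even g) : IsPow g a → IsSquare a
  | ⟨r, hr⟩ => by obtain ⟨k, rfl⟩ := h; exact ⟨r ^ k, by rw [hr, pow_add]⟩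

/-- the values which are counted -/
def Ex (g : ℕ) (v : F) : Prop := ¬ IsPow g v ∧ (v = -1 → 4 ∣ g)

/-- a pair whose counted values occur a multiple of `g` times -/
def Harm (g : ℕ) (P : F → Prop) (X : Matrix κ κ F) : Prop :=
  ∃ (n : ℕ) (A H : Matrix (Fin n) (Fin n) F) (ρ : F) (β : Fin n → F),
    HasPair X ρ A H ∧ IsPow g ρ ∧ TPair A H β ∧ LeftIn 0 A H ∧ ∀ v, P v → g ∣ cnt β v

/-- a pair with a counted value occurring a number of times prime to `g` -/
def Desig (g : ℕ) (P : F → Prop) (X : Matrix κ κ F) : Prop :=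
  ∃ (n : ℕ) (A H : Matrix (Fin n) (Fin n) F) (ρ : F) (β : Fin n → F) (v : F),
    HasPair X ρ A H ∧ IsPow g ρ ∧ TPair A H β ∧ P v ∧ Nat.Coprime g (cnt β v)

theorem Harm.congr {g : ℕ} {P : F → Prop} {X : Matrix κ κ F} {Y : Matrix μ μ F} (h : Harm g P X) (e : Sim X Y) :
    Harm g P Y := by
  obtain ⟨n, A, H, ρ, β, h1, h2, h3, h4, h5⟩ := h
  exact ⟨n, A, H, ρ, β, h1.congr e, h2, h3, h4, h5⟩

theorem Desig.congr {g : ℕ} {P : F → Prop} {X : Matrix κ κ F} {Y : Matrix μ μ F} (h : Desig g P X) (e : Sim X Y) :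
    Desig g P Y := by
  obtain ⟨n, A, H, ρ, β, v, h1, h2, h3, h4, h5⟩ := h
  exact ⟨n, A, H, ρ, β, v, h1.congr e, h2, h3, h4, h5⟩

/-- no common left eigenvector can have the eigenvalues zero -/
theorem LeftIn.none {n : ℕ} {X : Matrix κ κ F} {ρ : F} {A H : Matrix (Fin n) (Fin n) F} (hP : HasPair X ρ A H)
    (hd : X.det ≠ 0) (h : LeftIn 0 A H) (a b : F) (f : Fin n → F) (hf : f ≠ 0) (hA : f ᵥ* A = a • f)
    (hH : f ᵥ* H = b • f) : False := by
  obtain ⟨rfl, -⟩ := h a b f hf hA hH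
  rw [zero_smul] at hA
  exact hd (hP.sim.1.det_eq ▸ Matrix.exists_vecMul_eq_zero_iff.1 ⟨f, hf, hA⟩)

theorem leftIn_of_none {n : ℕ} {t : F} {A H : Matrix (Fin n) (Fin n) F}
    (h : ∀ (a b : F) (f : Fin n → F), f ≠ 0 → f ᵥ* A = a • f → f ᵥ* H = b • f → False) : LeftIn t A H :=
  fun a b f hf hA hH => (h a b f hf hA hH).elim

theorem Harm.append [Fintype F] {g : ℕ} {P : F → Prop} {X : Matrix κ κ F} {Y : Matrix μ μ F} (hX : Harm g P X)
    (hY : Harm g P Y) (hdX : X.det ≠ 0) (hdY : Y.det ≠ 0) : Harm g P (fromBlocks X 0 0 Y) := by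
  obtain ⟨n₁, A₁, H₁, ρ₁, β₁, a1, a2, a3, a4, a5⟩ := hX
  obtain ⟨n₂, A₂, H₂, ρ₂, β₂, b1, b2, b3, b4, b5⟩ := hY
  obtain ⟨A, H, c1, c2, -, c4⟩ := link a1 b1 a3 b3 hdX
    (fun a b w f _ _ _ hf hA hH => b4.none b1 hdY a b f hf hA hH)
  exact ⟨_, A, H, _, _, c1, a2.mul b2, c2, c4 0 a4 b4, fun v hv => by
    rw [cnt_append]; exact dvd_add (a5 v hv) (b5 v hv)⟩

theorem Desig.append [Fintype F] {g : ℕ} {P : F → Prop} {X : Matrix κ κ F} {Y : Matrix μ μ F} (hX : Desig g P X)
    (hY : Harm g P Y) (hdX : X.det ≠ 0) (hdY : Y.det ≠ 0) : Desig g P (fromBlocks X 0 0 Y) := by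
  obtain ⟨n₁, A₁, H₁, ρ₁, β₁, v, a1, a2, a3, a4, a5⟩ := hX
  obtain ⟨n₂, A₂, H₂, ρ₂, β₂, b1, b2, b3, b4, b5⟩ := hY
  obtain ⟨A, H, c1, c2, -, -⟩ := link a1 b1 a3 b3 hdX
    (fun a b w f _ _ _ hf hA hH => b4.none b1 hdY a b f hf hA hH)
  refine ⟨_, A, H, _, _, v, c1, a2.mul b2, c2, a4, ?_⟩
  rw [cnt_append]
  obtain ⟨k, hk⟩ := b5 v a4
  rw [hk]
  exact Nat.coprime_add_mul_left_right _ _ _ |>.2 a5

theorem det_blk_ne {L : List F[X]} (h : ∀ g ∈ L, g.Monic ∧ g.coeff 0 ≠ 0) : (blk L).det ≠ 0 := by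
  rw [det_blk L fun g hg => (h g hg).1]
  refine List.prod_ne_zero fun e => ?_
  obtain ⟨g, hg, hg0⟩ := List.mem_map.1 e
  rw [dd] at hg0
  exact (mul_ne_zero (pow_ne_zero _ (by norm_num)) (h g hg).2) hg0

theorem Harm.blk [Fintype F] {g : ℕ} {P : F → Prop} :
    ∀ L : List F[X], (∀ h ∈ L, h.Monic ∧ h.coeff 0 ≠ 0) → (∀ h ∈ L, Harm g P (CfsgLib.Ore.comp (cof h))) →
      Harm g P (CfsgLib.Ore.blk L)
  | [], _, _ => by
    haveI : IsEmpty (Fin (sz ([] : List F[X]))) := Fin.isEmpty'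
    refine ⟨0, 1, 1, 1, Fin.elim0, ?_, IsPow.one g, ⟨fun i => i.elim0, fun i => i.elim0, fun v => ⟨0, fun w _ => ⟨0, ?_⟩⟩⟩,
      fun a b f hf => absurd (Subsingleton.elim f 0) hf, fun v _ => by simp [cnt_eq_zero (fun i : Fin 0 => i.elim0)]⟩
    · exact ⟨0, 0, 0, 0, Subsingleton.elim _ _, Subsingleton.elim _ _, Subsingleton.elim _ _, Subsingleton.elim _ _,
        Subsingleton.elim _ _, Subsingleton.elim _ _, by simp⟩
    · exact Subsingleton.elim _ _
  | h :: L, hm, hH => by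
    have hL : ∀ f ∈ L, f.Monic ∧ f.coeff 0 ≠ 0 := fun f hf => hm f (List.mem_cons_of_mem _ hf)
    refine Harm.congr (Harm.append (hH h List.mem_cons_self)
      (Harm.blk L hL fun f hf => hH f (List.mem_cons_of_mem _ hf)) ?_ (det_blk_ne hL)) (blk_cons h L).symm
    rw [det_comp_cof (hm h List.mem_cons_self).1, dd]
    exact mul_ne_zero (pow_ne_zero _ (by norm_num)) (hm h List.mem_cons_self).2

/-- one block chosen, the others harmless -/
theorem Desig.blk [Fintype F] {g : ℕ} {P : F → Prop} {L : List F[X]} {h : F[X]} (hh : h ∈ L)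
    (hm : ∀ f ∈ L, f.Monic ∧ f.coeff 0 ≠ 0) (hD : Desig g P (CfsgLib.Ore.comp (cof h)))
    (hH : ∀ f ∈ L, Harm g P (CfsgLib.Ore.comp (cof f))) : Desig g P (CfsgLib.Ore.blk L) := by
  classical
  have hL : ∀ f ∈ L.erase h, f.Monic ∧ f.coeff 0 ≠ 0 := fun f hf => hm f (List.mem_of_mem_erase hf)
  refine Desig.congr (Desig.append hD (Harm.blk (L.erase h) hL fun f hf => hH f (List.mem_of_mem_erase hf)) ?_
    (det_blk_ne hL)) ((blk_perm (List.perm_cons_erase hh)).trans (blk_cons _ _)).symm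
  rw [det_comp_cof (hm h hh).1, dd]
  exact mul_ne_zero (pow_ne_zero _ (by norm_num)) (hm h hh).2

/-- the dimension of a pair -/
theorem HasPair.card {n : ℕ} {X : Matrix κ κ F} {ρ : F} {A H : Matrix (Fin n) (Fin n) F} (h : HasPair X ρ A H) :
    n = Fintype.card κ := by
  have := congrArg natDegree (charpoly_of_sim h.sim.1)
  rwa [Matrix.charpoly_natDegree_eq_dim, Matrix.charpoly_natDegree_eq_dim, Fintype.card_fin] at this

theorem Desig.good [Fintype F] (h4 : 4 ≤ Fintype.card F) {n : ℕ} (hn : 3 ≤ n) {g : ℕ} {P : F → Prop}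
    {X : Matrix (Fin n) (Fin n) F} (hg : Pow X g) (hX : X.det ≠ 0) (h : Desig g P X) : Good X 4 := by
  classical
  obtain ⟨m, A, H, ρ, β, v, h1, ⟨r, hr⟩, h3, -, h5⟩ := h
  obtain rfl : m = n := by simpa using h1.card
  rw [cnt_eq] at h5
  exact good_four h4 hn hg h1 hr h3 v h5 hX

/-- the sign of the reversal, one step -/
theorem revSign_succ (n : ℕ) : revSign F (n + 1) = (-1) ^ n * revSign F n := by
  have e : finRotate (n + 1) * Fin.revPerm = Equiv.Perm.decomposeFin.symm (0, Fin.revPerm (n := n)) := by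
    refine Equiv.ext fun i => ?_
    refine Fin.cases ?_ (fun j => ?_) i
    · simp [finRotate_last]
    · rw [Equiv.Perm.decomposeFin_symm_apply_succ, Equiv.swap_self, Equiv.refl_apply, Equiv.Perm.mul_apply,
        Fin.revPerm_apply, Fin.revPerm_apply, finRotate_apply]
      ext
      have := j.2
      simp [Fin.val_add, Fin.val_rev]
      omega
  have hs := congrArg Equiv.Perm.sign e
  rw [map_mul, sign_finRotate, Equiv.Perm.decomposeFin.symm_sign, if_pos rfl, one_mul, Nat.succ_sub_one] at hs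
  have h2 : Equiv.Perm.sign (Fin.revPerm (n := n + 1)) = (-1) ^ n * Equiv.Perm.sign (Fin.revPerm (n := n)) := by
    rw [← hs, ← mul_assoc, ← mul_pow, Int.units_mul_self, one_pow, one_mul]
  rw [revSign, revSign, h2]
  push_cast
  ring

theorem revSign_of_four_dvd : ∀ n : ℕ, 4 ∣ n → revSign F n = 1 := by
  intro n hn
  obtain ⟨k, rfl⟩ := hn
  induction k with
  | zero => rw [Nat.mul_zero, revSign, show (Fin.revPerm (n := 0)) = 1 from Equiv.ext fun i => i.elim0]; simp
  | succ k ih =>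
    rw [show 4 * (k + 1) = 4 * k + 1 + 1 + 1 + 1 by ring, revSign_succ, revSign_succ, revSign_succ, revSign_succ, ih]
    rw [pow_add, pow_add, pow_add, pow_mul]
    norm_num

theorem revSign_cases (n : ℕ) : revSign F n = 1 ∨ revSign F n = -1 := by
  rw [revSign]
  rcases Int.units_eq_one_or (Equiv.Perm.sign (Fin.revPerm (n := n))) with e | e <;> simp [e]

/-- a generator modulo `g`-th powers -/
theorem exists_gen [Fintype F] {g : ℕ} (hg : g ∣ Fintype.card F - 1) :
    ∃ γ : F, γ ≠ 0 ∧ (∀ i : ℕ, IsPow g (γ ^ i) → g ∣ i) ∧ ∀ i : ℕ, γ ^ i = 1 → Fintype.card F - 1 ∣ i := by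
  classical
  obtain ⟨γ, hγ⟩ := IsCyclic.exists_generator (α := Fˣ)
  have ho : orderOf γ = Fintype.card F - 1 := by
    rw [orderOf_eq_card_of_forall_mem_zpowers hγ, Nat.card_units, Nat.card_eq_fintype_card]
  have hg0 : g ≠ 0 := by
    intro e
    rw [e, zero_dvd_iff] at hg
    have := Fintype.one_lt_card (α := F)
    omega
  refine ⟨γ, γ.ne_zero, ?_, fun i hi => ho ▸ orderOf_dvd_of_pow_eq_one (Units.ext (by push_cast; exact hi))⟩
  rintro i ⟨r, hr⟩
  have hr0 : r ≠ 0 := fun e => by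
    rw [e, zero_pow hg0] at hr
    exact pow_ne_zero i γ.ne_zero hr
  obtain ⟨j, hj⟩ : ∃ j : ℕ, γ ^ j = Units.mk0 r hr0 := by
    obtain ⟨j, hj⟩ := mem_powers_iff_mem_zpowers.2 (hγ (Units.mk0 r hr0))
    exact ⟨j, hj⟩
  have e : γ ^ i = γ ^ (j * g) := by
    rw [pow_mul, hj]
    exact Units.ext (by push_cast; exact hr)
  have hmod := (pow_eq_pow_iff_modEq.1 e).of_dvd (ho ▸ hg)
  exact (Nat.modEq_zero_iff_dvd.1 (hmod.trans (Nat.modEq_zero_iff_dvd.2 (dvd_mul_left g j))))

/-- signs with quotient a `g`-th power and product one -/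
theorem exists_signs {g m : ℕ} (hm : 1 ≤ m) (hdiv : g ∣ m + 2) :
    ∃ s : Fin (m + 1) → F, IsPow g (blockRatio s) ∧ ∏ j, (s j)⁻¹ = 1 ∧
      ((∀ j, s j = 1) ∨ (¬ IsPow g (-1 : F) ∧ ¬ 4 ∣ g ∧ 3 ≤ m ∧ (∀ j : Fin (m + 1), (j : ℕ) + 2 ≤ m → s j = 1) ∧
        ∀ j : Fin (m + 1), m ≤ (j : ℕ) + 1 → s j = -1)) := by
  classical
  by_cases h : IsPow g (revSign F (m + 2))
  · refine ⟨fun _ => 1, ?_, by simp, Or.inl fun _ => rfl⟩
    simpa [blockRatio] using h
  have hsgn : revSign F (m + 2) = -1 :=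
    (revSign_cases (m + 2)).resolve_left fun e => h (e ▸ IsPow.one g)
  have hneg : ¬ IsPow g (-1 : F) := hsgn ▸ h
  have h4 : ¬ 4 ∣ m + 2 := fun e => h (by rw [revSign_of_four_dvd _ e]; exact IsPow.one g)
  have hev : Even g := (Nat.even_or_odd g).resolve_right fun e => hneg (IsPow.neg_one e)
  have hm3 : 3 ≤ m := by
    have h2 : 2 ∣ m + 2 := hev.two_dvd.trans hdiv
    omega
  obtain ⟨a, ha⟩ : ∃ a : Fin (m + 1), (a : ℕ) + 1 = m := ⟨⟨m - 1, by omega⟩, by simp; omega⟩
  have hne : a ≠ Fin.last m := fun e => by subst e; simp at ha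
  refine ⟨fun j => if (j : ℕ) + 2 ≤ m then 1 else -1, ?_, ?_, Or.inr ⟨hneg, fun e => h4 (e.trans hdiv), hm3,
    fun j hj => if_pos hj, fun j hj => if_neg (by omega)⟩⟩
  · have : ∏ j : Fin (m + 1), (if (j : ℕ) + 2 ≤ m then (1 : F) else -1) ^ ((j : ℕ) + 1) = -1 := by
      rw [Finset.prod_eq_mul a (Fin.last m) hne]
      · rw [if_neg (by omega), if_neg (by simp), ha, Fin.val_last, pow_succ, ← mul_assoc, ← mul_pow]
        simp
      · intro j _ hj
        have h1 : (j : ℕ) + 1 ≠ m := fun e => hj.1 (Fin.ext (by omega))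
        have h2 : (j : ℕ) ≠ m := fun e => hj.2 (Fin.ext (by simpa using e))
        rw [if_pos (by have := j.2; omega), one_pow]
      · simp
      · simp
    rw [blockRatio, this, hsgn]
    simpa using IsPow.one g
  · rw [Finset.prod_eq_mul a (Fin.last m) hne]
    · simp only
      rw [if_neg (by omega), if_neg (by simp)]; simp
    · intro j _ hj
      have h1 : (j : ℕ) + 1 ≠ m := fun e => hj.1 (Fin.ext (by omega))
      have h2 : (j : ℕ) ≠ m := fun e => hj.2 (Fin.ext (by simpa using e))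
      simp only
      rw [if_pos (by have := j.2; omega), inv_one]
    · simp
    · simp

/-- every block of size at least three is harmless -/
theorem harm_block [Fintype F] (h4 : 4 ≤ Fintype.card F) {g m : ℕ} (hm : 1 ≤ m) (hdiv : g ∣ m + 2)
    (c : Fin (m + 2) → F) (hc : c 0 ≠ 0) (hcN : IsPow g (c 0)) : Harm g (Ex g) (CfsgLib.Ore.comp c) := by
  obtain ⟨s, hρ, hprod, hs⟩ := exists_signs (F := F) hm hdiv
  have hh : blockVals c s 0 = c 0 ^ 2 := by simp [blockVals, hprod]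
  have hval : ∀ j, s j = 1 ∨ s j = -1 := fun j => by
    rcases hs with h | ⟨-, -, -, h1, h2⟩
    · exact Or.inl (h j)
    · by_cases e : (j : ℕ) + 2 ≤ m
      · exact Or.inl (h1 j e)
      · exact Or.inr (h2 j (by omega))
  have hcon : Contig (blockVals c s) ∨ ∀ j, s j ≠ blockVals c s 0 := by
    rcases hs with h | ⟨hneg, -, hm3, h1, h2⟩
    · exact Or.inl (contig_block (y := 1) (fun j _ => h j) (Or.inr (h 0)))
    by_cases hc1 : c 0 ^ 2 = 1
    · refine Or.inl fun i j k hij hjk e => ?_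
      have hv : ∀ i : Fin (m + 2), blockVals c s i = if (i : ℕ) + 1 ≤ m then 1 else -1 := fun i => by
        refine Fin.cases ?_ (fun j => ?_) i
        · rw [hh, hc1, if_pos (by simp; omega)]
        · rw [show blockVals c s j.succ = s j from by simp [blockVals]]
          by_cases e : (j : ℕ) + 2 ≤ m
          · rw [h1 j e, if_pos (by simp; omega)]
          · rw [h2 j (by omega), if_neg (by simp; omega)]
      have a1 : (i : ℕ) ≤ j := hij
      have a2 : (j : ℕ) ≤ k := hjk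
      rw [hv i, hv k] at e
      rw [hv j, hv i]
      by_cases b : (i : ℕ) + 1 ≤ m
      · rw [if_pos b] at e ⊢
        by_cases b' : (k : ℕ) + 1 ≤ m
        · rw [if_pos (by omega)]
        · rw [if_neg b'] at e
          exact absurd (e ▸ IsPow.one g) hneg
      · rw [if_neg b, if_neg (by omega)]
    · refine Or.inr fun j e => ?_
      rw [hh] at e
      rcases hval j with h | h <;> rw [h] at e
      · exact hc1 e.symm
      · exact hneg (e ▸ (by rw [pow_two]; exact hcN.mul hcN))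
  obtain ⟨A, H, hP, hT, -, hl⟩ := exists_block (le_trans (by norm_num) h4) c hc s
    (fun j => by rcases hval j with h | h <;> simp [h]) hcon (fun h => by omega)
  refine ⟨_, A, H, _, _, hP, hρ, hT, leftIn_of_none fun a b f hf hA hH => ?_, fun v hv => ?_⟩
  · obtain ⟨h, -⟩ := hl a b f hf hA hH
    obtain ⟨j, hj⟩ : ∃ j : Fin (m + 1), (j : ℕ) + 1 = m := ⟨⟨m - 1, by omega⟩, by simp; omega⟩
    refine h j (fun e => by subst e; simp at hj) ?_
    rcases hs with h | ⟨-, -, -, -, h2⟩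
    · rw [h, h]
    · rw [h2 j (by omega), h2 _ (by simp)]
  · rw [cnt_eq_zero]
    · exact dvd_zero g
    intro i
    refine Fin.cases ?_ (fun j => ?_) i
    · rw [hh]; exact fun e => hv.1 (e ▸ (by rw [pow_two]; exact hcN.mul hcN))
    · rw [show blockVals c s j.succ = s j from by simp [blockVals]]
      rcases hs with h | ⟨-, h4g, -, -, -⟩
      · rw [h]; exact fun e => hv.1 (e ▸ IsPow.one g)
      · rcases hval j with h | h <;> rw [h]
        · exact fun e => hv.1 (e ▸ IsPow.one g)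
        · exact fun e => h4g (hv.2 e.symm)

/-- a large block with a counted simple value -/
theorem desig_large [Fintype F] (h4 : 4 ≤ Fintype.card F) {g m : ℕ} (hg : 2 ≤ g) (hgq : g ∣ Fintype.card F - 1)
    (hm : 2 * g ≤ m + 2) (hdiv : g ∣ m + 2)
    (c : Fin (m + 2) → F) (hc : c 0 ≠ 0) (hcN : IsPow g (c 0)) : Desig g (Ex g) (CfsgLib.Ore.comp c) := by
  classical
  obtain ⟨γ, hγ0, hγ, hγo⟩ := exists_gen hgq
  have hc2 : IsPow g (c 0 ^ 2) := by rw [pow_two]; exact hcN.mul hcN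
  obtain ⟨u, hu0, huN, hu1, hu2⟩ : ∃ u : F, u ≠ 0 ∧ ¬ IsPow g u ∧ u ≠ -(c 0) ∧
      (¬ IsPow g (-1 : F) → u ≠ -(c 0 ^ 2)) := by
    by_cases hneg : IsPow g (-1 : F)
    · refine ⟨γ, hγ0, fun h => ?_, fun e => ?_, fun h => absurd hneg h⟩
      · have := Nat.le_of_dvd one_pos (hγ 1 (by rwa [pow_one]))
        omega
      · have : IsPow g γ := by rw [e, show -(c 0) = -1 * c 0 by ring]; exact hneg.mul hcN
        have := Nat.le_of_dvd one_pos (hγ 1 (by rwa [pow_one]))
        omega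
    have hev : Even g := (Nat.even_or_odd g).resolve_right fun e => hneg (IsPow.neg_one e)
    have hodd : ∀ i, Odd i → ¬ IsPow g (γ ^ i) := fun i hi h =>
      (Nat.not_even_iff_odd.2 hi) (even_iff_two_dvd.2 (hev.two_dvd.trans (hγ i h)))
    by_cases hsq : IsSquare (-1 : F)
    · have hns : ¬ IsSquare γ := by
        rintro ⟨r, hr⟩
        obtain ⟨k, hk⟩ := hev
        have := Nat.le_of_dvd (by omega) (hγ k ⟨r, by rw [hr, hk, mul_pow, pow_add]⟩)
        omega
      have hsN : ∀ x : F, IsPow g x → IsSquare (-x) := fun x hx => by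
        rw [show -x = -1 * x by ring]
        exact hsq.mul (hx.of_even hev)
      exact ⟨γ, hγ0, fun h => hns (h.of_even hev), fun e => hns (e ▸ hsN _ hcN), fun _ e => hns (e ▸ hsN _ hc2)⟩
    · have h7 : 7 ≤ Fintype.card F := by
        have h3 : Fintype.card F % 4 = 3 := by
          by_contra h
          exact hsq (FiniteField.isSquare_neg_one_iff.2 h)
        omega
      have hinj : ∀ i k : ℕ, i < k → k ≤ 5 → γ ^ i ≠ γ ^ k := fun i k hik hk e => by
        have h : γ ^ (k - i) = 1 := by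
          refine mul_left_cancel₀ (pow_ne_zero i hγ0) ?_
          rw [← pow_add, Nat.add_sub_cancel' hik.le, mul_one, e]
        have := Nat.le_of_dvd (by omega) (hγo _ h)
        omega
      have key : ∀ i, Odd i → γ ^ i ≠ -(c 0) → γ ^ i ≠ -(c 0 ^ 2) →
          ∃ u : F, u ≠ 0 ∧ ¬ IsPow g u ∧ u ≠ -(c 0) ∧ (¬ IsPow g (-1 : F) → u ≠ -(c 0 ^ 2)) :=
        fun i hi e1 e2 => ⟨γ ^ i, pow_ne_zero _ hγ0, hodd i hi, e1, fun _ => e2⟩
      have n13 := hinj 1 3 (by norm_num) (by norm_num)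
      have n15 := hinj 1 5 (by norm_num) (by norm_num)
      have n35 := hinj 3 5 (by norm_num) (by norm_num)
      by_cases e1 : γ ^ 1 = -(c 0) ∨ γ ^ 1 = -(c 0 ^ 2)
      · by_cases e3 : γ ^ 3 = -(c 0) ∨ γ ^ 3 = -(c 0 ^ 2)
        · rcases e1 with e1 | e1 <;> rcases e3 with e3 | e3
          · exact absurd (e1.trans e3.symm) n13
          · exact key 5 (by decide) (fun e => n15 (e1.trans e.symm)) (fun e => n35 (e3.trans e.symm))
          · exact key 5 (by decide) (fun e => n35 (e3.trans e.symm)) (fun e => n15 (e1.trans e.symm))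
          · exact absurd (e1.trans e3.symm) n13
        · push Not at e3; exact key 3 (by decide) e3.1 e3.2
      · push Not at e1; exact key 1 (by decide) e1.1 e1.2
  obtain ⟨s, hρ, hprod, hs⟩ := exists_signs (F := F) (show 1 ≤ m by omega) hdiv
  obtain ⟨p, hp⟩ : ∃ p : Fin (m + 1), (p : ℕ) + 1 = g := ⟨⟨g - 1, by omega⟩, by simp; omega⟩
  have hsp : s p = 1 := by
    rcases hs with h | ⟨-, -, hm3, h1, -⟩
    · exact h p
    · exact h1 p (by omega)
  obtain ⟨s', hs'⟩ : ∃ s', s' = fun j => if j = p then u else s j := ⟨_, rfl⟩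
  have hmul : ∀ j, s' j = s j * (if j = p then u else 1) := fun j => by
    rw [hs']; dsimp only; split_ifs with h
    · rw [h, hsp, one_mul]
    · rw [mul_one]
  have hval : ∀ j, s' j = u ∨ s' j = 1 ∨ (¬ IsPow g (-1 : F) ∧ ¬ 4 ∣ g ∧ s' j = -1) := fun j => by
    rw [hs']; dsimp only; split_ifs with h
    · exact Or.inl rfl
    · rcases hs with hh | ⟨hneg, h4g, -, h1, h2⟩
      · exact Or.inr (Or.inl (hh j))
      · by_cases e : (j : ℕ) + 2 ≤ m
        · exact Or.inr (Or.inl (h1 j e))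
        · exact Or.inr (Or.inr ⟨hneg, h4g, h2 j (by omega)⟩)
  have hh : blockVals c s' 0 = c 0 ^ 2 * u⁻¹ := by
    have : ∏ j, (s' j)⁻¹ = u⁻¹ := by
      simp only [hmul, mul_inv, Finset.prod_mul_distrib, hprod, one_mul]
      rw [Finset.prod_eq_single p (fun j _ hj => by simp [hj]) (by simp)]
      simp
    simp [blockVals, this]
  have hratio : IsPow g (blockRatio s') := by
    have : blockRatio s' = blockRatio s * u ^ g := by
      simp only [blockRatio, hmul, mul_pow, Finset.prod_mul_distrib, mul_assoc]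
      congr 2
      rw [Finset.prod_eq_single p (fun j _ hj => by simp [hj]) (by simp), if_pos rfl, hp]
    rw [this]; exact hρ.mul ⟨u, rfl⟩
  have hvN : ¬ IsPow g (blockVals c s' 0) := fun h => huN (by
    have := hc2.mul h.inv
    rw [hh] at this
    have e : c 0 ^ 2 * (c 0 ^ 2 * u⁻¹)⁻¹ = u := by field_simp
    rwa [e] at this)
  have hne : ∀ j, s' j ≠ blockVals c s' 0 := fun j e => by
    rcases hval j with h | h | ⟨hneg, -, h⟩ <;> rw [h] at e
    · rw [hh] at e
      field_simp at e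
      rcases eq_or_eq_neg_of_sq_eq_sq u (c 0) (by linear_combination e) with h' | h'
      · exact huN (h' ▸ hcN)
      · exact hu1 h'
    · exact hvN (e ▸ IsPow.one g)
    · refine hu2 hneg ?_
      rw [hh] at e
      field_simp at e
      linear_combination -e
  obtain ⟨A, H, hP, hT, -, -⟩ := exists_block (le_trans (by norm_num) h4) c hc s'
    (fun j => by rcases hval j with h | h | ⟨-, -, h⟩ <;> simp [h, hu0]) (Or.inr hne) (fun h => by omega)
  refine ⟨_, A, H, _, _, blockVals c s' 0, hP, hratio, hT, ⟨hvN, fun e => ?_⟩, ?_⟩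
  · by_contra h4g
    have hneg : ¬ IsPow g (-1 : F) := e ▸ hvN
    refine hu2 hneg ?_
    rw [hh] at e
    field_simp at e
    linear_combination e
  · rw [cnt_blockVals_head hne]
    exact Nat.coprime_one_right g

end CfsgLib.Known.CoverPSL
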