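import Cfsg.Agent.Lib.Known.CoverPSL.Align

/-!
# Small blocks with exponents having a common divisor
-/

set_option autoImplicit false
set_option linter.unusedSectionVars false
set_option linter.style.haveILetI false

open Matrix Polynomial CfsgLib.Ore

namespace CfsgLib.Known.CoverPSL

universe u

variable {F : Type u} [Field F]

theorem contig_const {n : ℕ} (a : F) : Contig (fun _ : Fin n => a) := fun _ _ _ _ _ _ => rfl

/-- the coefficients of a double root -/
theorem cpoly_double (a : F) : cpoly ![a ^ 2, -(2 * a)] = (Polynomial.X - C a) ^ 2 := by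
  rw [cpoly, Fin.sum_univ_two]
  simp [map_ofNat]
  ring

theorem sim_double (a : F) : Sim (CfsgLib.Ore.comp (cof ((Polynomial.X - C a) ^ 2 : F[X]))) (CfsgLib.Ore.comp ![a ^ 2, -(2 * a)]) := by
  obtain ⟨c, hc, hs, -⟩ := exists_comp ((monic_X_sub_C a).pow 2) (m := 2) (by simp)
  exact hs.trans (Sim.of_eq (by rw [show c = ![a ^ 2, -(2 * a)] from cpoly_injective_two (hc.trans (cpoly_double a).symm)]))
where
  cpoly_injective_two {c c' : Fin 2 → F} (h : cpoly c = cpoly c') : c = c' := by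
    funext i
    have h0 := congrArg (fun p => p.coeff (i : ℕ)) h
    fin_cases i <;> simpa [cpoly, Fin.sum_univ_two, coeff_X_pow] using h0

theorem comp_double_left {a x : F} {f : Fin 2 → F} (hf : f ≠ 0)
    (h : f ᵥ* CfsgLib.Ore.comp ![a ^ 2, -(2 * a)] = x • f) : x = a := by
  have e0 := congrFun h 0
  have e1 := congrFun h 1
  simp [Matrix.vecMul, dotProduct, Fin.sum_univ_two, CfsgLib.Ore.comp] at e0 e1
  have hf0 : f 0 ≠ 0 := fun e => hf (funext fun i => by fin_cases i <;> simp [e, e0])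
  have : f 0 * ((x - a) * (x - a)) = 0 := by rw [e0] at e1; linear_combination -e1
  exact sub_eq_zero.1 (mul_self_eq_zero.1 ((mul_eq_zero.1 this).resolve_left hf0))

/-- the harmless pair of a double root -/
theorem harm_two [Fintype F] (h2 : (2 : F) ≠ 0) {a : F} (ha : a ≠ 0) (P : F → Prop) :
    Harm 2 P (CfsgLib.Ore.comp (cof ((Polynomial.X - C a) ^ 2 : F[X]))) := by
  classical
  refine Harm.congr ?_ (sim_double a).symm
  obtain ⟨c, hc⟩ : ∃ c : Fin 2 → F, c = ![a ^ 2, -(2 * a)] := ⟨_, rfl⟩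
  rw [← hc]
  have hc0 : c 0 = a ^ 2 := by simp [hc]
  have hcl : c (Fin.last 1) = -(2 * a) := by simp [hc]
  obtain ⟨H, hP, hlow, hdiag, -, h10, -, hL, -⟩ := exists_raw c (by rw [hc0]; exact pow_ne_zero _ ha)
    (fun _ => -(a ^ 2)) (fun _ => 0) (fun _ => neg_ne_zero.2 (pow_ne_zero _ ha)) rfl
  have hval : ∀ i, (Fin.cons (c 0 ^ 2 * ∏ _j : Fin 1, (-(a ^ 2))⁻¹) (fun _ => -(a ^ 2)) : Fin 2 → F) i = -(a ^ 2) := fun i => by
    refine Fin.cases ?_ (fun j => rfl) i
    simp [hc0]; field_simp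
  have hz : (CfsgLib.Ore.comp c * H) 1 0 = 4 * a := by
    rw [show (1 : Fin 2) = Fin.succ 0 from rfl, h10, hcl, show c (Fin.succ 0) = -(2 * a) from hcl, hc0, Fin.prod_univ_one]
    simp
    field_simp
    ring
  have h4 : (4 : F) * a ≠ 0 := by
    refine mul_ne_zero ?_ ha
    rw [show (4 : F) = 2 * 2 by norm_num]; exact mul_ne_zero h2 h2
  have hLT : LTN (CfsgLib.Ore.comp c * H) (fun _ => -(a ^ 2)) := by
    refine ⟨hlow, fun i j hij => ?_, fun i => (hdiag i).trans (hval i)⟩
    obtain ⟨rfl, rfl⟩ : i = 1 ∧ j = 0 := by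
      have := i.2
      exact ⟨Fin.ext (by simp; omega), Fin.ext (by simp; omega)⟩
    rw [hz]; exact h4
  refine ⟨2, CfsgLib.Ore.comp c, H, _, fun _ => -(a ^ 2), hP, ⟨a, ?_⟩,
    ⟨hLT.low, hLT.diag, hLT.thin (contig_const _)⟩, leftIn_of_none fun x y f hf hA hH => ?_, fun v _ => ?_⟩
  · rw [revSign_succ, revSign_succ, Fin.prod_univ_one]
    simp [revSign, show (Fin.revPerm (n := 0)) = 1 from Equiv.ext fun i => i.elim0]
  · obtain ⟨e1, e2⟩ := hL x y f hf hA hH
    obtain rfl : x = a := comp_double_left hf (hc ▸ hA)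
    have hy : y = -x := mul_left_cancel₀ ha (by linear_combination -(e1 0))
    rw [Fin.sum_univ_one] at e2
    have hH10 : H (Fin.succ 0) 0 = 1 := by
      have e := comp_mulVec_zero c (H *ᵥ Pi.single 0 1)
      rw [Matrix.mulVec_mulVec, Matrix.mulVec_single_one, Matrix.mulVec_single_one] at e
      simp only [Matrix.col_apply] at e
      rw [hLT.diag, hc0] at e
      exact (mul_left_cancel₀ (neg_ne_zero.2 (pow_ne_zero 2 ha)) (by rw [mul_one]; exact e)).symm
    have hH00 : H 0 0 = 2 * x := by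
      have e := comp_mulVec_succ c (H *ᵥ Pi.single 0 1) 0
      rw [Matrix.mulVec_mulVec, Matrix.mulVec_single_one, Matrix.mulVec_single_one] at e
      simp only [Matrix.col_apply, Fin.castSucc_zero] at e
      rw [show (CfsgLib.Ore.comp c * H) (Fin.succ 0) 0 = 4 * x from hz,
        show H (Fin.last 1) 0 = 1 from hH10, show c (Fin.succ 0) = -(2 * x) from hcl] at e
      linear_combination -e
    rw [hH00, hH10, hy, Fin.val_zero, zero_add, pow_one, mul_one] at e2
    exact h4 (by linear_combination e2)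
  · rw [cnt_eq]
    by_cases hv : -(a ^ 2) = v
    · simp [hv]
    · simp [hv]

/-- the commuting pair of a double root -/
theorem commuting_two {a l : F} (ha : a ≠ 0) (hl : l ≠ 0) (hl1 : l ≠ -1) :
    ∃ A H : Matrix (Fin 2) (Fin 2) F, HasPair (CfsgLib.Ore.comp ![a ^ 2, -(2 * a)]) l A H ∧
      TPair A H (fun _ => a ^ 2) := by
  let J : Matrix (Fin 2) (Fin 2) F := !![a, 0; 1, a]
  have hJ : LTN J (fun _ => a) := by
    refine ⟨fun i j hij => ?_, fun i j hij => ?_, fun i => ?_⟩
    · fin_cases i <;> fin_cases j <;> simp [J] at hij ⊢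
    · fin_cases i <;> fin_cases j <;> simp [J] at hij ⊢
    · fin_cases i <;> simp [J]
  have hsim : Sim J (CfsgLib.Ore.comp ![a ^ 2, -(2 * a)]) := by
    have h2 : Spl (CfsgLib.Ore.comp ![a ^ 2, -(2 * a)]) (fun _ : Fin 2 => a) :=
      spl_comp (by rw [cpoly_double, Fin.prod_univ_two, pow_two])
    exact Spl.sim (hJ.spl (contig_const a)) h2 (by rw [(hJ.spl (contig_const a)).det_eq]; simp [ha])
      (by rw [h2.det_eq]; simp [ha])
  let H : Matrix (Fin 2) (Fin 2) F := !![a, 0; l, a]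
  have hP : HasPair J l J H := by
    refine ⟨1, 1, !![1, 0; 0, l], !![1, 0; 0, l⁻¹], Matrix.one_mul _, Matrix.one_mul _, ?_, ?_, ?_, ?_, ?_⟩
    · ext i j; fin_cases i <;> fin_cases j <;> simp [Matrix.mul_apply, Fin.sum_univ_two, hl]
    · ext i j; fin_cases i <;> fin_cases j <;> simp [Matrix.mul_apply, Fin.sum_univ_two, hl]
    · rw [Matrix.mul_one, Matrix.one_mul]
    · ext i j; fin_cases i <;> fin_cases j <;> simp [H, J, Matrix.mul_apply, Fin.sum_univ_two, mul_comm]
    · simp [Matrix.det_fin_two]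
  have hJH : J * H = !![a ^ 2, 0; a * (1 + l), a ^ 2] := by
    ext i j; fin_cases i <;> fin_cases j <;> simp [H, J, Matrix.mul_apply, Fin.sum_univ_two] <;> ring
  have hZ : LTN (J * H) (fun _ => a ^ 2) := by
    rw [hJH]
    refine ⟨fun i j hij => ?_, fun i j hij => ?_, fun i => ?_⟩
    · fin_cases i <;> fin_cases j <;> simp at hij ⊢
    · fin_cases i <;> fin_cases j <;> simp at hij ⊢
      exact ⟨ha, fun e => hl1 (by linear_combination e)⟩
    · fin_cases i <;> simp
  exact ⟨J, H, hP.congr hsim, ⟨hZ.low, hZ.diag, hZ.thin (contig_const _)⟩⟩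

/-- the pair with a simple value of a double root -/
theorem double_desig [Fintype F] (h4 : 4 ≤ Fintype.card F) {b s : F} (hb : b ≠ 0) (hs : s ≠ 0) (h1 : s ≠ b ^ 2)
    (h2 : s ≠ -(b ^ 2)) :
    ∃ A H : Matrix (Fin 2) (Fin 2) F, HasPair (CfsgLib.Ore.comp ![b ^ 2, -(2 * b)]) (-s) A H ∧
      TPair A H ![b ^ 4 / s, s] ∧ LeftIn 0 A H := by
  obtain ⟨A, H, hP, hT, -, hl⟩ := exists_block (le_trans (by norm_num) h4) ![b ^ 2, -(2 * b)]
    (by simp [hb]) (fun _ => s) (fun _ => hs) (Or.inl (contig_two _)) (fun _ e => by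
      simp only [Matrix.cons_val_zero] at e
      rcases eq_or_eq_neg_of_sq_eq_sq _ _ e with e | e
      · exact h1 e
      · exact h2 e)
  have hr : blockRatio (fun _ : Fin 1 => s) = -s := by
    rw [blockRatio, Fin.prod_univ_one, revSign_succ, revSign_succ]
    simp [revSign, show (Fin.revPerm (n := 0)) = 1 from Equiv.ext fun i => i.elim0]
  have hv : blockVals ![b ^ 2, -(2 * b)] (fun _ : Fin 1 => s) = ![b ^ 4 / s, s] := by
    funext i
    fin_cases i <;> simp [blockVals, div_eq_mul_inv, ← pow_mul]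
  rw [hr] at hP
  rw [hv] at hT
  refine ⟨A, H, hP, hT, leftIn_of_none fun x y f hf hA hH => ?_⟩
  obtain ⟨hroot, hsa, -⟩ := (hl x y f hf hA hH).2.2 rfl
  rw [show Fin.last 1 = (1 : Fin 2) from rfl] at hroot
  simp only [Matrix.cons_val_zero, Matrix.cons_val_one] at hroot
  refine h1 ?_
  have : x = b := sub_eq_zero.1 (mul_self_eq_zero.1 (by linear_combination hroot))
  rw [← this]; exact hsa

/-- two double roots -/
theorem two_doubles [Fintype F] (h5 : 5 ≤ Fintype.card F) {a b : F} (ha : a ≠ 0) (hb : b ≠ 0) :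
    ∃ (s : F) (A H : Matrix (Fin (2 + 2)) (Fin (2 + 2)) F) (ρ : F),
      HasPair (fromBlocks (CfsgLib.Ore.comp ![a ^ 2, -(2 * a)]) 0 0 (CfsgLib.Ore.comp ![b ^ 2, -(2 * b)])) ρ A H ∧
      IsPow 2 ρ ∧ TPair A H (Fin.append (fun _ : Fin 2 => a ^ 2) ![b ^ 4 / s, s]) ∧ s ≠ 0 ∧
      Odd (cnt (Fin.append (fun _ : Fin 2 => a ^ 2) ![b ^ 4 / s, s]) s) := by
  classical
  obtain ⟨s, hs⟩ := exists_avoid_list [0, b ^ 2, -(b ^ 2), (1 : F)] (by simp; omega)
  simp only [List.mem_cons, List.not_mem_nil, or_false, not_or] at hs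
  obtain ⟨A₁, H₁, hP₁, hT₁⟩ := commuting_two ha (neg_ne_zero.2 hs.1) (fun e => hs.2.2.2 (neg_inj.1 e))
  obtain ⟨A₂, H₂, hP₂, hT₂, hL₂⟩ := double_desig (by omega) hb hs.1 hs.2.1 hs.2.2.1
  have hd : ∀ x : F, x ≠ 0 → (CfsgLib.Ore.comp ![x ^ 2, -(2 * x)]).det ≠ 0 := fun x hx => by
    rw [det_comp]; simp [hx]
  obtain ⟨A, H, c1, c2, -, -⟩ := link hP₁ hP₂ hT₁ hT₂ (hd a ha)
    (fun x y w f _ _ _ hf hA hH => hL₂.none hP₂ (hd b hb) x y f hf hA hH)
  refine ⟨s, A, H, _, c1, ⟨s, by ring⟩, c2, hs.1, ?_⟩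
  have hne : b ^ 4 / s ≠ s := fun e => by
    rw [div_eq_iff hs.1] at e
    rcases eq_or_eq_neg_of_sq_eq_sq s (b ^ 2) (by linear_combination -e) with h | h
    · exact hs.2.1 h
    · exact hs.2.2.1 h
  have e2 : cnt ![b ^ 4 / s, s] s = 1 := by
    rw [cnt_eq, Finset.card_filter, Fin.sum_univ_two]
    simp [hne]
  rw [cnt_append, e2, cnt_eq]
  refine Even.add_one ?_
  by_cases hv : a ^ 2 = s
  · simp [hv]
  · simp [hv]

/-- two double roots in dimension four, a scalar target -/
theorem goodS_two_doubles [Fintype F] (h5 : 5 ≤ Fintype.card F) {a b : F} (ha : a ≠ 0)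
    (hb : b ≠ 0) (hab : a ^ 2 * b ^ 2 = 1) {X : Matrix (Fin 4) (Fin 4) F} (hg : Pow X 2) (hX : X.det ≠ 0)
    (hsim : Sim (fromBlocks (CfsgLib.Ore.comp ![a ^ 2, -(2 * a)]) 0 0 (CfsgLib.Ore.comp ![b ^ 2, -(2 * b)])) X) :
    GoodS X 4 := by
  classical
  by_cases ha4 : a ^ 4 = 1
  · obtain ⟨s, A, H, ρ, hP, ⟨r, hr⟩, hT, hs, hodd⟩ := two_doubles h5 ha hb
    rw [cnt_eq] at hodd
    refine goodS_four hg (hP.congr hsim) hr hT s (Nat.coprime_two_left.2 hodd) hX one_ne_zero
      (Equiv.swap (2 : Fin 4) 3) fun i => ?_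
    have hb4 : b ^ 4 = 1 := by linear_combination (a ^ 2 * b ^ 2 + 1) * hab - b ^ 4 * ha4
    fin_cases i <;> simp [Fin.append, Fin.addCases, Equiv.swap_apply_def, hb4, hs] <;>
      linear_combination ha4
  · have h7 : 7 ≤ Fintype.card F := by
      by_contra h
      have hq := FiniteField.pow_card_sub_one_eq_one a ha
      obtain ⟨p, -, n, hp, hc⟩ := FiniteField.card' F
      rcases (show Fintype.card F = 5 ∨ Fintype.card F = 6 by omega) with h' | h' <;> rw [h'] at hq
      · exact ha4 hq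
      · have h6 : (6 : ℕ) = p ^ (n : ℕ) := h' ▸ hc
        have e2 := (Nat.prime_dvd_prime_iff_eq Nat.prime_two hp).1 (Nat.prime_two.dvd_of_dvd_pow (h6 ▸ by norm_num : 2 ∣ p ^ (n : ℕ)))
        have e3 := (Nat.prime_dvd_prime_iff_eq Nat.prime_three hp).1 (Nat.prime_three.dvd_of_dvd_pow (h6 ▸ by norm_num : 3 ∣ p ^ (n : ℕ)))
        omega
    obtain ⟨s, hs⟩ := exists_avoid_list [0, (1 : F), -1, a ^ 2, -(a ^ 2)] (by simp; omega)
    simp only [List.mem_cons, List.not_mem_nil, or_false, not_or] at hs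
    obtain ⟨hs0, hs1, hsn1, hsa, hsna⟩ := hs
    obtain ⟨A₁, H₁, hP₁, hT₁, -⟩ := double_desig (by omega) ha hs0 hsa hsna
    obtain ⟨A₂, H₂, hP₂, hT₂, hL₂⟩ := double_desig (b := b) (s := s⁻¹) (by omega) hb (inv_ne_zero hs0)
      (fun e => hsa (by field_simp at e; linear_combination -(a ^ 2) * e - s * hab))
      (fun e => hsna (by field_simp at e; linear_combination a ^ 2 * e - s * hab))
    have hd : ∀ x : F, x ≠ 0 → (CfsgLib.Ore.comp ![x ^ 2, -(2 * x)]).det ≠ 0 := fun x hx => by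
      rw [det_comp]; simp [hx]
    obtain ⟨A, H, c1, c2, -, -⟩ := link hP₁ hP₂ hT₁ hT₂ (hd a ha)
      (fun x y w f _ _ _ hf hA hH => hL₂.none hP₂ (hd b hb) x y f hf hA hH)
    have hr : -s * -s⁻¹ = (1 : F) ^ 2 := by field_simp
    have hab4 : a ^ 4 * b ^ 4 = 1 := by linear_combination (a ^ 2 * b ^ 2 + 1) * hab
    have hb1 : b ^ 4 ≠ 1 := fun e => ha4 (by linear_combination hab4 - a ^ 4 * e)
    have n1 : a ^ 4 / s ≠ s := fun e => by
      rw [div_eq_iff hs0] at e
      rcases eq_or_eq_neg_of_sq_eq_sq s (a ^ 2) (by linear_combination -e) with h | h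
      · exact hsa h
      · exact hsna h
    have n2 : b ^ 4 / s⁻¹ ≠ s := fun e => hb1 (mul_right_cancel₀ hs0 (by rw [div_inv_eq_mul] at e; rw [one_mul]; exact e))
    have n3 : s⁻¹ ≠ s := fun e => by
      field_simp at e
      rcases mul_eq_zero.1 (show (s - 1) * (s + 1) = 0 by linear_combination -e) with h | h
      · exact hs1 (sub_eq_zero.1 h)
      · exact hsn1 (eq_neg_of_add_eq_zero_left h)
    refine goodS_four hg (c1.congr hsim) hr c2 s ?_ hX one_ne_zero
      (Equiv.swap (0 : Fin 4) 2 * Equiv.swap 1 3) fun i => ?_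
    · suffices h : Nat.Coprime 2 (cnt (Fin.append ![a ^ 4 / s, s] ![b ^ 4 / s⁻¹, s⁻¹]) s) by rwa [cnt_eq] at h
      rw [cnt_append, cnt_eq, cnt_eq, Finset.card_filter, Finset.card_filter, Fin.sum_univ_two, Fin.sum_univ_two]
      rw [div_inv_eq_mul] at n2
      simp [n1, n2, n3, div_inv_eq_mul]
    · fin_cases i <;> simp [Fin.append, Fin.addCases, Equiv.swap_apply_def, Equiv.Perm.mul_apply] <;> field_simp <;>
        linear_combination hab4

/-- one block with size equal to the exponent -/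
theorem desig_small [Fintype F] (h4 : 4 ≤ Fintype.card F) {g m : ℕ} (hgq : g ∣ Fintype.card F - 1)
    (hm : 1 ≤ m) (hgm : m + 2 = g) (h54 : 5 ≤ Fintype.card F ∨ g ≠ 3)
    (c : Fin (m + 2) → F) (hc : c 0 ≠ 0) (hcN : IsPow g (c 0)) : Desig g (Ex g) (CfsgLib.Ore.comp c) := by
  classical
  obtain ⟨γ, hγ0, hγ, hγo⟩ := exists_gen hgq
  have hc2 : IsPow g (c 0 ^ 2) := by rw [pow_two]; exact hcN.mul hcN
  obtain ⟨k, hk⟩ := hc2
  obtain ⟨u, hu0, huN, huh, hu4⟩ : ∃ u : F, u ≠ 0 ∧ ¬ IsPow g (u ^ 2) ∧ u ^ 3 ≠ c 0 ^ 2 ∧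
      (u ^ 2 = -(c 0 ^ 2) → 4 ∣ g) := by
    have hsq : ∀ i, i = 1 ∨ i = 2 → g ≠ 4 ∨ i = 1 → ¬ IsPow g ((γ ^ i) ^ 2) := fun i hi hg4 h => by
      rw [← pow_mul] at h
      have := Nat.le_of_dvd (by omega) (hγ _ h)
      have := hγ _ h
      rcases hi with rfl | rfl
      · have := Nat.le_of_dvd (by norm_num) this; omega
      · rcases hg4 with hg4 | h1
        · have hd : g ∣ 4 := this
          have := Nat.le_of_dvd (by norm_num) hd
          interval_cases g <;> omega
        · omega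
    by_cases h3 : γ ^ 3 = c 0 ^ 2
    · have hg3 : g = 3 := by
        have := hγ 3 ⟨k, h3.trans hk⟩
        have := Nat.le_of_dvd (by norm_num) this
        omega
      have h5 : 5 ≤ Fintype.card F := h54.resolve_right (by omega)
      refine ⟨γ ^ 2, pow_ne_zero _ hγ0, hsq 2 (Or.inr rfl) (Or.inl (by omega)), fun e => ?_, fun e => ?_⟩
      · have h1 : γ ^ 3 = 1 := by
          refine mul_left_cancel₀ (pow_ne_zero 3 hγ0) ?_
          linear_combination e - h3
        have := Nat.le_of_dvd (by norm_num) (hγo 3 h1)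
        omega
      · exfalso
        have h : IsPow g ((γ ^ 2) ^ 2) := by
          rw [e, show -(c 0 ^ 2) = -1 * c 0 ^ 2 by ring]
          exact (IsPow.neg_one (by rw [hg3]; decide)).mul ⟨k, hk⟩
        exact hsq 2 (Or.inr rfl) (Or.inl (by omega)) h
    · refine ⟨γ, hγ0, by simpa using hsq 1 (Or.inl rfl) (Or.inr rfl), h3, fun e => ?_⟩
      have h4' : g ∣ 4 := hγ 4 ⟨k ^ 2, by rw [pow_right_comm, ← hk, show γ ^ 4 = (γ ^ 2) ^ 2 by ring, e]; ring⟩
      have h5' := Nat.le_of_dvd (by norm_num) h4'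
      interval_cases g <;> simp_all
  -- signs inside
  by_cases hσ : IsPow g (revSign F (m + 2))
  · obtain ⟨s, hs⟩ : ∃ s : Fin (m + 1) → F,
        s = fun j => (if j = 0 then u else 1) * (if j = Fin.last m then u else 1) := ⟨_, rfl⟩
    have h0 : (0 : Fin (m + 1)) ≠ Fin.last m := fun e => by have := congrArg Fin.val e; simp at this; omega
    have hval : ∀ j, s j = u ∨ s j = 1 := fun j => by
      rw [hs]
      simp only [Fin.ext_iff, Fin.val_zero, Fin.val_last]
      split_ifs <;> first | omega | simp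
    have hprod : ∀ (a : Fin (m + 1)) (x : F), ∏ j, (if j = a then x else 1)⁻¹ = x⁻¹ := fun a x => by
      rw [Finset.prod_eq_single a (fun j _ hj => by simp [hj]) (by simp), if_pos rfl]
    have hh : blockVals c s 0 = c 0 ^ 2 * (u ^ 2)⁻¹ := by
      simp only [blockVals, Fin.cons_zero, hs, mul_inv, Finset.prod_mul_distrib, hprod]
      ring
    have hratio : IsPow g (blockRatio s) := by
      have : blockRatio s = revSign F (m + 2) * u ^ g := by
        simp only [blockRatio, hs, mul_pow, Finset.prod_mul_distrib]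
        rw [Finset.prod_eq_single (0 : Fin (m + 1)) (fun j _ hj => by simp [hj]) (by simp),
          Finset.prod_eq_single (Fin.last m) (fun j _ hj => by simp [hj]) (by simp)]
        simp only [if_true, Fin.val_zero, Fin.val_last, zero_add, pow_one, ← hgm]
        ring
      rw [this]; exact hσ.mul ⟨u, rfl⟩
    have hne : ∀ j, s j ≠ blockVals c s 0 := fun j e => by
      rw [hh] at e
      rcases hval j with h | h <;> rw [h] at e <;> field_simp at e
      · exact huh (by linear_combination e)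
      · exact huN ⟨k, by rw [← hk]; linear_combination e⟩
    obtain ⟨A, H, hP, hT, -, -⟩ := exists_block (le_trans (by norm_num) h4) c hc s
      (fun j => by rcases hval j with h | h <;> simp [h, hu0]) (Or.inr hne) (fun h => by omega)
    refine ⟨_, A, H, _, _, blockVals c s 0, hP, hratio, hT, ⟨fun h => huN ?_, fun e => hu4 ?_⟩, ?_⟩
    · have := (IsPow.mul (⟨k, hk⟩ : IsPow g (c 0 ^ 2)) h.inv)
      rw [hh] at this
      have e : c 0 ^ 2 * (c 0 ^ 2 * (u ^ 2)⁻¹)⁻¹ = u ^ 2 := by field_simp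
      rwa [e] at this
    · rw [hh] at e; field_simp at e; linear_combination e
    · rw [cnt_blockVals_head hne]; exact Nat.coprime_one_right g
  · -- `g` is at least six
    have hsgn : revSign F (m + 2) = -1 := (revSign_cases (m + 2)).resolve_left fun e => hσ (e ▸ IsPow.one g)
    have hneg : ¬ IsPow g (-1 : F) := hsgn ▸ hσ
    have hev : Even g := (Nat.even_or_odd g).resolve_right fun e => hneg (IsPow.neg_one e)
    have h4g : ¬ 4 ∣ g := fun e => hσ (by rw [hgm, revSign_of_four_dvd _ e]; exact IsPow.one g)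
    have hm4 : 4 ≤ m := by obtain ⟨r, hr⟩ := hev; omega
    obtain ⟨p1, hp1⟩ : ∃ p : Fin (m + 1), (p : ℕ) = 1 := ⟨⟨1, by omega⟩, rfl⟩
    obtain ⟨p2, hp2⟩ : ∃ p : Fin (m + 1), (p : ℕ) = 2 := ⟨⟨2, by omega⟩, rfl⟩
    obtain ⟨s, hs⟩ : ∃ s : Fin (m + 1) → F, s = fun j => (if j = 0 then u else 1) * (if j = Fin.last m then u else 1) *
        ((if j = p1 then -1 else 1) * (if j = p2 then -1 else 1)) := ⟨_, rfl⟩
    have hval : ∀ j, s j = u ∨ s j = 1 ∨ s j = -1 := fun j => by
      rw [hs]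
      simp only [Fin.ext_iff, Fin.val_zero, Fin.val_last, hp1, hp2]
      split_ifs <;> first | omega | simp
    have hprod : ∀ (a : Fin (m + 1)) (x : F), ∏ j, (if j = a then x else 1)⁻¹ = x⁻¹ := fun a x => by
      rw [Finset.prod_eq_single a (fun j _ hj => by simp [hj]) (by simp), if_pos rfl]
    have hh : blockVals c s 0 = c 0 ^ 2 * (u ^ 2)⁻¹ := by
      simp only [blockVals, Fin.cons_zero, hs, mul_inv, Finset.prod_mul_distrib, hprod]
      rw [inv_neg, inv_one]
      ring
    have hratio : IsPow g (blockRatio s) := by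
      have : blockRatio s = u ^ g := by
        simp only [blockRatio, hs, mul_pow, Finset.prod_mul_distrib]
        rw [Finset.prod_eq_single (0 : Fin (m + 1)) (fun j _ hj => by simp [hj]) (by simp),
          Finset.prod_eq_single (Fin.last m) (fun j _ hj => by simp [hj]) (by simp),
          Finset.prod_eq_single p1 (fun j _ hj => by simp [hj]) (by simp),
          Finset.prod_eq_single p2 (fun j _ hj => by simp [hj]) (by simp)]
        simp only [if_true, Fin.val_zero, Fin.val_last, zero_add, pow_one, hp1, hp2, hsgn, ← hgm]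
        ring
      rw [this]; exact ⟨u, rfl⟩
    have hk' : IsPow g (c 0 ^ 2) := ⟨k, hk⟩
    have hne : ∀ j, s j ≠ blockVals c s 0 := fun j e => by
      rw [hh] at e
      rcases hval j with h | h | h <;> rw [h] at e <;> field_simp at e
      · exact huh (by linear_combination e)
      · exact huN ⟨k, by rw [← hk]; linear_combination e⟩
      · exact h4g (hu4 (by linear_combination -e))
    obtain ⟨A, H, hP, hT, -, -⟩ := exists_block (le_trans (by norm_num) h4) c hc s
      (fun j => by rcases hval j with h | h | h <;> simp [h, hu0]) (Or.inr hne) (fun h => by omega)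
    refine ⟨_, A, H, _, _, blockVals c s 0, hP, hratio, hT, ⟨fun h => huN ?_, fun e => hu4 ?_⟩, ?_⟩
    · have := hk'.mul h.inv
      rw [hh] at this
      have e : c 0 ^ 2 * (c 0 ^ 2 * (u ^ 2)⁻¹)⁻¹ = u ^ 2 := by field_simp
      rwa [e] at this
    · rw [hh] at e; field_simp at e; linear_combination e
    · rw [cnt_blockVals_head hne]; exact Nat.coprime_one_right g

/-- two triple roots over four elements -/
theorem desig_three_three [Fintype F] (hq : Fintype.card F = 4) (c d : Fin 3 → F) (hc : c 0 = 1) (hd : d 0 = 1) :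
    Desig 3 (Ex 3) (fromBlocks (CfsgLib.Ore.comp c) 0 0 (CfsgLib.Ore.comp d)) := by
  classical
  obtain ⟨w, hw⟩ := exists_avoid_list [0, (1 : F)] (by simp; omega)
  simp only [List.mem_cons, List.not_mem_nil, or_false, not_or] at hw
  obtain ⟨hw0, hw1⟩ := hw
  have hcube : ∀ x : F, x ≠ 0 → x ^ 3 = 1 := fun x hx => by
    have := FiniteField.pow_card_sub_one_eq_one x hx
    rwa [hq] at this
  have hw3 := hcube w hw0
  have hw2 : w ^ 2 ≠ 1 := fun e => hw1 (by linear_combination hw3 - w * e)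
  have hww : w ^ 2 ≠ w := fun e => hw1 (mul_left_cancel₀ hw0 (by linear_combination e))
  have hinv : w⁻¹ = w ^ 2 := inv_eq_of_mul_eq_one_right (by linear_combination hw3)
  have hinv2 : (w ^ 2)⁻¹ = w := inv_eq_of_mul_eq_one_right (by linear_combination hw3)
  have mk : ∀ (e : Fin 3 → F) (x : F), e 0 = 1 → x = w ∨ x = w ^ 2 → ∃ A H : Matrix (Fin 3) (Fin 3) F,
      HasPair (CfsgLib.Ore.comp e) (revSign F 3 * x) A H ∧ TPair A H ![x⁻¹, x, 1] ∧
      (∀ (a b : F) (w' : Fin 3 → F), w' ≠ 0 → A *ᵥ w' = a • w' → H *ᵥ w' = b • w' → x⁻¹ = a * b) ∧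
      (∀ (a b : F) (f : Fin 3 → F), f ≠ 0 → f ᵥ* A = a • f → f ᵥ* H = b • f → 1 = a * b) := by
    intro e x he hx
    have hx0 : x ≠ 0 := by rcases hx with rfl | rfl <;> simp [hw0]
    let s : Fin 2 → F := ![x, 1]
    have h1 : x ≠ x⁻¹ ∧ (1 : F) ≠ x⁻¹ := by
      rcases hx with rfl | rfl
      · rw [hinv]; exact ⟨hww.symm, hw2.symm⟩
      · rw [hinv2]; exact ⟨hww, Ne.symm hw1⟩
    obtain ⟨A, H, hP, hT, hR, hL⟩ := exists_block (by omega) e (by rw [he]; exact one_ne_zero) s
      (fun j => by fin_cases j <;> simp [s, hx0]) (Or.inr fun j => by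
        fin_cases j <;> simp [s, blockVals, he, Fin.prod_univ_two, h1.1, h1.2]) (fun h => absurd h one_ne_zero)
    have hr : blockRatio s = revSign F 3 * x := by simp [blockRatio, s, Fin.prod_univ_two]
    have hv : blockVals e s = ![x⁻¹, x, 1] := by
      funext i; fin_cases i <;> simp [blockVals, s, he, Fin.prod_univ_two]
    rw [hr] at hP
    rw [hv] at hT hR
    exact ⟨A, H, hP, hT, fun a b w' h1 h2 h3 => by simpa using hR a b w' h1 h2 h3,
      fun a b f h1 h2 h3 => by simpa [s] using (hL a b f h1 h2 h3).2.1⟩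
  obtain ⟨A₁, H₁, p1, t1, r1, -⟩ := mk c w hc (Or.inl rfl)
  obtain ⟨A₂, H₂, p2, t2, -, l2⟩ := mk d (w ^ 2) hd (Or.inr rfl)
  obtain ⟨A, H, c1, c2, -, -⟩ := link p1 p2 t1 t2 (by rw [det_comp, hc]; simp)
    (fun a b w' f hw' hA1 hH1 hf hA hH => hw2 (by
      rw [← hinv, r1 a b w' hw' hA1 hH1, ← l2 a b f hf hA hH]))
  refine ⟨_, A, H, _, _, w, c1, ⟨1, ?_⟩, c2, ⟨fun ⟨r, hr⟩ => hw1 ?_, fun e => ?_⟩, ?_⟩
  · rcases revSign_cases (F := F) 3 with e | e <;> rw [e] <;> linear_combination hw3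
  · rw [hr]
    exact hcube r fun e => hw0 (by rw [hr, e]; simp)
  · exfalso
    have := hcube (-1 : F) (by simp)
    exact hw1 (by rw [e]; linear_combination this)
  · rw [cnt_append, cnt_eq, cnt_eq, Finset.card_filter, Finset.card_filter, Fin.sum_univ_three, Fin.sum_univ_three]
    simp [hinv, hinv2, hww, Ne.symm hw1]
    decide

/-- one block of size four, a scalar target -/
theorem goodS_single_four [Fintype F] (h4 : 4 ≤ Fintype.card F) {g : ℕ}
    (hg : g = 2 ∨ g = 4) (hgq : g ∣ Fintype.card F - 1) (c : Fin 4 → F) (hc : c 0 = 1)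
    {X : Matrix (Fin 4) (Fin 4) F} (hX : Pow X g) (hd : X.det ≠ 0) (hsim : Sim (CfsgLib.Ore.comp c) X) :
    GoodS X 4 := by
  classical
  obtain ⟨γ, hγ0, hγ, hγo⟩ := exists_gen hgq
  have hrev : revSign F 4 = 1 := revSign_of_four_dvd 4 dvd_rfl
  rcases hg with rfl | rfl
  · obtain ⟨u, hu0, huN, hun⟩ : ∃ u : F, u ≠ 0 ∧ ¬ IsPow 2 u ∧ u ≠ -1 := by
      have h1 : ¬ IsPow 2 γ := fun h => by
        have := Nat.le_of_dvd one_pos (hγ 1 (by rwa [pow_one]))
        omega
      by_cases e : γ = -1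
      · refine ⟨γ ^ 3, pow_ne_zero _ hγ0, fun h => ?_, fun e' => ?_⟩
        · have := hγ 3 h; omega
        · have h2 : γ ^ 2 = 1 := by rw [e]; ring
          have := Nat.le_of_dvd (by norm_num) (hγo 2 h2)
          omega
      · exact ⟨γ, hγ0, h1, e⟩
    have hu1 : u ≠ 1 := fun e => huN (e ▸ IsPow.one 2)
    have huu : u ≠ u⁻¹ := fun e => by
      field_simp at e
      rcases mul_eq_zero.1 (show (u - 1) * (u + 1) = 0 by linear_combination e) with h | h
      · exact hu1 (sub_eq_zero.1 h)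
      · exact hun (eq_neg_of_add_eq_zero_left h)
    have hui : (1 : F) ≠ u⁻¹ := fun e => hu1 (by simpa using (congrArg (·⁻¹) e).symm)
    obtain ⟨A, H, hP, hT, -, -⟩ := exists_block (le_trans (by norm_num) h4) c (by rw [hc]; exact one_ne_zero) ![1, u, 1]
      (fun j => by fin_cases j <;> simp [hu0]) (Or.inr fun j => by
        fin_cases j <;> simp [blockVals, hc, Fin.prod_univ_three, huu, hui]) (fun h => absurd h (by norm_num))
    have hr : blockRatio (![1, u, 1] : Fin 3 → F) = u ^ 2 := by simp [blockRatio, Fin.prod_univ_three, hrev]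
    have hv : blockVals c (![1, u, 1] : Fin 3 → F) = ![u⁻¹, 1, u, 1] := by
      funext i; fin_cases i <;> simp [blockVals, hc, Fin.prod_univ_three]
    rw [hv] at hT
    refine goodS_four hX (hP.congr hsim) hr hT u ?_ hd one_ne_zero (Equiv.swap 0 2) fun i => ?_
    · rw [Finset.card_filter, Fin.sum_univ_four]; simp [Ne.symm huu, Ne.symm hu1]
    · fin_cases i <;> simp [Equiv.swap_apply_def, hu0]
  · obtain ⟨k, hk⟩ := hgq
    obtain ⟨i, hi_def⟩ : ∃ i, i = γ ^ k := ⟨_, rfl⟩
    have hi4 : i ^ 4 = 1 := by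
      rw [hi_def, ← pow_mul, mul_comm, ← hk]; exact FiniteField.pow_card_sub_one_eq_one γ hγ0
    have hi2 : i ^ 2 ≠ 1 := fun e => by
      rw [hi_def, ← pow_mul] at e
      have := Nat.le_of_dvd (by omega) (hγo _ e)
      omega
    have hi : i ^ 2 = -1 := by
      rcases mul_eq_zero.1 (show (i ^ 2 - 1) * (i ^ 2 + 1) = 0 by linear_combination hi4) with h | h
      · exact absurd (sub_eq_zero.1 h) hi2
      · exact eq_neg_of_add_eq_zero_left h
    have hi0 : i ≠ 0 := fun e => by simp [e] at hi4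
    have hi1 : i ≠ 1 := fun e => hi2 (by rw [e]; ring)
    have hn1 : (-1 : F) ≠ 1 := hi ▸ hi2
    have hprod : i * -1 * i = 1 := by linear_combination -hi
    obtain ⟨A, H, hP, hT, -, -⟩ := exists_block (le_trans (by norm_num) h4) c (by rw [hc]; exact one_ne_zero) ![i, -1, i]
      (fun j => by fin_cases j <;> simp [hi0]) (Or.inr fun j => by
        have e : blockVals c (![i, -1, i] : Fin 3 → F) 0 = 1 := by
          simp [blockVals, hc, Fin.prod_univ_three]
          field_simp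
          linear_combination -hi
        rw [e]
        fin_cases j <;> simp [hi1, hn1]) (fun h => absurd h (by norm_num))
    have hr : blockRatio (![i, -1, i] : Fin 3 → F) = (1 : F) ^ 4 := by
      simp [blockRatio, Fin.prod_univ_three, hrev]
      linear_combination hi4
    have hv : blockVals c (![i, -1, i] : Fin 3 → F) = ![1, i, -1, i] := by
      funext j; fin_cases j <;> simp [blockVals, hc, Fin.prod_univ_three]
      field_simp
      linear_combination -hi
    rw [hv] at hT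
    refine goodS_four hX (hP.congr hsim) hr hT 1 ?_ hd (neg_ne_zero.2 one_ne_zero) (Equiv.swap 0 2) fun j => ?_
    · rw [Finset.card_filter, Fin.sum_univ_four]; simp [hi1, hn1]
    · fin_cases j <;> simp [Equiv.swap_apply_def] <;> linear_combination hi

end CfsgLib.Known.CoverPSL
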