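import Cfsg.Agent.Lib.Known.CoverPSL.Blocks

/-!
# Cyclic matrices of size three

For cyclic `X` of size three and `t ≠ 0`, every nonscalar `G` of the right determinant is a product of three
matrices similar to `X` without common eigenvector with eigenvalue `t`.
-/

set_option autoImplicit false
set_option linter.unusedSectionVars false
set_option linter.style.haveILetI false

open Matrix Polynomial CfsgLib.Ore

namespace CfsgLib.Known.CoverPSL

universe u

variable {F : Type u} [Field F]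
variable {ι κ : Type*} [Fintype ι] [DecidableEq ι] [Fintype κ] [DecidableEq κ]

theorem comp_last_ne {m : ℕ} (c : Fin (m + 1) → F) {w : Fin (m + 1) → F} (hw : w ≠ 0) {a : F}
    (h : CfsgLib.Ore.comp c *ᵥ w = a • w) : w (Fin.last m) ≠ 0 := by
  intro hl
  refine hw (funext fun i => ?_)
  have key : ∀ k, ∀ i : Fin (m + 1), (i : ℕ) + k = m → w i = 0 := by
    intro k
    induction k with
    | zero => intro i hi; rw [show i = Fin.last m from Fin.ext (by simpa using hi)]; exact hl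
    | succ k ih =>
      intro i hi
      obtain ⟨j, hj⟩ : ∃ j : Fin (m + 1), (j : ℕ) = i + 1 := ⟨⟨i + 1, by omega⟩, rfl⟩
      have := congrFun h j
      rw [Matrix.mulVec, dotProduct, Finset.sum_eq_single i, Pi.smul_apply, ih j (by omega), smul_zero] at this
      · have h1 : (i : ℕ) ≠ m := by omega
        simpa [CfsgLib.Ore.comp, hj, h1] using this
      · intro l _ hl'
        by_cases e : (l : ℕ) = m
        · rw [show l = Fin.last m from Fin.ext (by simpa using e), hl, mul_zero]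
        · have h2 : (i : ℕ) ≠ l := fun h => hl' (Fin.ext h.symm)
          simp [CfsgLib.Ore.comp, hj, e, h2]
      · simp
  exact key (m - i) i (by have := i.2; omega)

theorem cyc_inv {A : Matrix ι ι F} {v : ι → F} (h : Cyc A v) (hd : A.det ≠ 0) {c : F} (hc : c ≠ 0) :
    Cyc (c • A⁻¹) v := by
  have hu : IsUnit A.det := isUnit_iff_ne_zero.2 hd
  have hiu : IsUnit (A⁻¹).det := Matrix.isUnit_nonsing_inv_det _ hu
  obtain ⟨M, hM⟩ : ∃ M, M = c • A⁻¹ := ⟨_, rfl⟩
  have hMd : M.det ≠ 0 := by rw [hM, det_smul]; exact mul_ne_zero (pow_ne_zero _ hc) hiu.ne_zero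
  rw [← hM]
  have h0 : M.charpoly.coeff 0 ≠ 0 := fun e => hMd (by rw [Matrix.det_eq_sign_charpoly_coeff, e, mul_zero])
  obtain ⟨q, hq⟩ : ∃ q : F[X], aeval M q = A := by
    refine ⟨C (-(c / M.charpoly.coeff 0)) * M.charpoly.divX, ?_⟩
    have h1 : M * aeval M M.charpoly.divX = -(M.charpoly.coeff 0) • (1 : Matrix ι ι F) := by
      have := Matrix.aeval_self_charpoly M
      conv_lhs at this => rw [← X_mul_divX_add M.charpoly]
      rw [map_add, map_mul, aeval_X, aeval_C, Algebra.algebraMap_eq_smul_one] at this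
      rw [neg_smul]
      exact eq_neg_of_add_eq_zero_left this
    have h2 : A * M = c • (1 : Matrix ι ι F) := by rw [hM, Matrix.mul_smul, Matrix.mul_nonsing_inv _ hu]
    have h3 : c • aeval M M.charpoly.divX = -(M.charpoly.coeff 0) • A := by
      calc c • aeval M M.charpoly.divX = A * M * aeval M M.charpoly.divX := by rw [h2, Matrix.smul_mul, Matrix.one_mul]
        _ = _ := by rw [Matrix.mul_assoc, h1, Matrix.mul_smul, Matrix.mul_one]
    rw [map_mul, aeval_C, Algebra.algebraMap_eq_smul_one, Matrix.smul_mul, Matrix.one_mul,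
      show -(c / M.charpoly.coeff 0) = -(M.charpoly.coeff 0)⁻¹ * c by ring, ← smul_smul, h3, smul_smul]
    rw [show -(M.charpoly.coeff 0)⁻¹ * -(M.charpoly.coeff 0) = 1 by field_simp, one_smul]
  intro w
  obtain ⟨p, hp⟩ := h w
  exact ⟨p.comp q, by rw [Polynomial.aeval_comp, hq]; exact hp⟩

/-- a rank one change of a cyclic matrix reaches every companion matrix -/
theorem exists_shift {m : ℕ} (hc : Fintype.card ι = m + 1) {M : Matrix ι ι F} {v : ι → F} (hv : Cyc M v)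
    (c' : Fin (m + 1) → F) :
    ∃ x y : ι → F, y ≠ 0 ∧ Sim (M + vecMulVec x y) (CfsgLib.Ore.comp c') ∧
      (x = 0 → Sim M (CfsgLib.Ore.comp c')) ∧
      ∀ (w : ι → F) (a : F), w ≠ 0 → M *ᵥ w = a • w → y ⬝ᵥ w ≠ 0 := by
  obtain ⟨c₀, hc₀, -, -⟩ := exists_comp (Matrix.charpoly_monic M) (m := m + 1)
    (by rw [Matrix.charpoly_natDegree_eq_dim, hc])
  obtain ⟨P, Q, hPQ, hQP, hM⟩ := sim_comp hc M v hv c₀
    (by rw [hc₀, Matrix.aeval_self_charpoly, Matrix.zero_mulVec])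
  have hcomp : CfsgLib.Ore.comp c' = CfsgLib.Ore.comp c₀ + vecMulVec (c₀ - c') (Pi.single (Fin.last m) 1) := by
    ext i j
    by_cases hj : j = Fin.last m
    · subst hj; simp [CfsgLib.Ore.comp, Matrix.vecMulVec_apply]; ring
    · have : (j : ℕ) ≠ m := fun e => hj (Fin.ext (by simpa using e))
      simp [CfsgLib.Ore.comp, Matrix.vecMulVec_apply, hj, this]
  have hMeq : M = P * CfsgLib.Ore.comp c₀ * Q := by rw [← hM, Matrix.mul_assoc, hPQ, Matrix.mul_one]
  refine ⟨P *ᵥ (c₀ - c'), Pi.single (Fin.last m) 1 ᵥ* Q, ?_, ?_, ?_, ?_⟩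
  · intro e
    have := congrArg (· ᵥ* P) e
    simp only [Matrix.vecMul_vecMul, hQP, Matrix.vecMul_one, Matrix.zero_vecMul] at this
    exact one_ne_zero (α := F) (by simpa using congrFun this (Fin.last m))
  · have : M + vecMulVec (P *ᵥ (c₀ - c')) (Pi.single (Fin.last m) 1 ᵥ* Q) = P * CfsgLib.Ore.comp c' * Q := by
      rw [hcomp, Matrix.mul_add, Matrix.add_mul, ← hMeq, Matrix.mul_vecMulVec, Matrix.vecMulVec_mul]
    rw [this]
    exact sim_conj hPQ hQP _
  · intro e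
    have h0 : c₀ - c' = 0 := by
      have := congrArg (Q *ᵥ ·) e
      simpa [Matrix.mulVec_mulVec, hQP] using this
    rw [sub_eq_zero] at h0
    rw [hMeq, h0]
    exact sim_conj hPQ hQP _
  · intro w a hw hwa
    have h1 : Q *ᵥ w ≠ 0 := by
      intro e
      have := congrArg (P *ᵥ ·) e
      exact hw (by simpa [Matrix.mulVec_mulVec, hPQ] using this)
    have h2 : CfsgLib.Ore.comp c₀ *ᵥ (Q *ᵥ w) = a • (Q *ᵥ w) := by
      rw [← Matrix.mulVec_smul, ← hwa, hMeq, Matrix.mulVec_mulVec, Matrix.mulVec_mulVec, ← Matrix.mul_assoc,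
        ← Matrix.mul_assoc, hQP, Matrix.one_mul]
    rw [← Matrix.dotProduct_mulVec, single_one_dotProduct]
    exact comp_last_ne c₀ h1 h2

/-- similar to a proper multiple: the characteristic polynomial is `X ^ 3 - a ^ 3` -/
theorem split_of_sim_smul [Fintype F] (h4 : 4 ≤ Fintype.card F) {X : Matrix (Fin 3) (Fin 3) F} {a μ : F}
    (hμ : μ ≠ 1) (hμ3 : μ ^ 3 = 1) (ha : a ≠ 0) (hd : X.det = a ^ 3) (h : Sim (μ • X) X) :
    ∃ r : Fin 3 → F, X.charpoly = ∏ i, (Polynomial.X - C (r i)) := by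
  obtain ⟨c, hc, -, -⟩ := exists_comp (Matrix.charpoly_monic X) (m := 3) (by simp [Matrix.charpoly_natDegree_eq_dim])
  have hev : ∀ r, X.charpoly.eval r = r ^ 3 + c 2 * r ^ 2 + c 1 * r + c 0 := fun r => by
    rw [← hc, cpoly_eval, Fin.sum_univ_three]
    simp
    ring
  have hsc : ∀ r, X.charpoly.eval (μ * r) = X.charpoly.eval r := fun r => by
    conv_lhs => rw [← charpoly_of_sim h]
    rw [Matrix.eval_charpoly, Matrix.eval_charpoly,
      show Matrix.scalar (Fin 3) (μ * r) - μ • X = μ • (Matrix.scalar (Fin 3) r - X) by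
        rw [smul_sub]
        congr 1
        ext i j; simp [Matrix.diagonal_apply],
      det_smul, Fintype.card_fin, hμ3, one_mul]
  have key : ∀ r, r ≠ 0 → c 2 * (μ ^ 2 - 1) * r + c 1 * (μ - 1) = 0 := fun r hr => by
    have e := hsc r
    rw [hev, hev] at e
    exact (mul_eq_zero.1 (show r * (c 2 * (μ ^ 2 - 1) * r + c 1 * (μ - 1)) = 0 by
      linear_combination e - r ^ 3 * hμ3)).resolve_left hr
  obtain ⟨r, hr⟩ := exists_avoid_list [0, (1 : F)] (by simp; omega)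
  simp only [List.mem_cons, List.not_mem_nil, or_false, not_or] at hr
  have h1 := key 1 one_ne_zero
  have h2 := key r hr.1
  have hm : μ - 1 ≠ 0 := sub_ne_zero.2 hμ
  have hm2 : μ ^ 2 - 1 ≠ 0 := fun e => hμ (by linear_combination hμ3 - μ * e)
  have hc2 : c 2 = 0 := by
    have : c 2 * (μ ^ 2 - 1) * (r - 1) = 0 := by linear_combination h2 - h1
    exact (mul_eq_zero.1 ((mul_eq_zero.1 this).resolve_right (sub_ne_zero.2 hr.2))).resolve_right hm2
  have hc1 : c 1 = 0 := by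
    rw [hc2, zero_mul, zero_mul, zero_add] at h1
    exact (mul_eq_zero.1 h1).resolve_right hm
  have hc0 : c 0 = -a ^ 3 := by
    have := Matrix.det_eq_sign_charpoly_coeff X
    rw [hd, coeff_zero_eq_eval_zero, hev] at this
    simp at this
    linear_combination this
  refine ⟨![a, μ * a, μ ^ 2 * a], ?_⟩
  rw [← hc, cpoly, Fin.sum_univ_three, Fin.prod_univ_three]
  have hsum : μ ^ 2 + μ + 1 = 0 := (mul_eq_zero.1 (show (μ - 1) * (μ ^ 2 + μ + 1) = 0 by linear_combination hμ3)).resolve_left hm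
  have hs2 : (C a + C (μ * a) + C (μ ^ 2 * a) : F[X]) = 0 := by
    rw [← C_add, ← C_add, ← map_zero C]; congr 1; linear_combination a * hsum
  have hp2 : (C a * C (μ * a) + C a * C (μ ^ 2 * a) + C (μ * a) * C (μ ^ 2 * a) : F[X]) = 0 := by
    rw [← C_mul, ← C_mul, ← C_mul, ← C_add, ← C_add, ← map_zero C]; congr 1
    linear_combination μ * a ^ 2 * hsum
  have hp3 : (C a * C (μ * a) * C (μ ^ 2 * a) : F[X]) = -C (c 0) := by
    rw [← C_mul, ← C_mul, ← C_neg, hc0]; congr 1; linear_combination a ^ 3 * hμ3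
  simp [hc1, hc2]
  simp only [map_mul, map_pow] at hs2 hp2 hp3
  linear_combination Polynomial.X ^ 2 * hs2 - Polynomial.X * hp2 + hp3

/-- the pair with values `h, y, y`, none of them `b` -/
theorem exists_pair_three [Fintype F] (h4 : 4 ≤ Fintype.card F) (f : Fin 3 → F) (hf : f 0 ≠ 0) {t : F} (ht : t ≠ 0) :
    ∃ (A H : Matrix (Fin 3) (Fin 3) F) (ρ : F) (β : Fin 3 → F),
      HasPair (CfsgLib.Ore.comp f) ρ A H ∧ TPair A H β ∧ (∀ i, β i ≠ 0) ∧ ∀ i, β i ≠ t * t := by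
  obtain ⟨y, hy0, hy1, hy2⟩ : ∃ y : F, y ≠ 0 ∧ y ≠ t * t ∧ f 0 ^ 2 * (y * y)⁻¹ ≠ t * t := by
    have hbad : ∀ y : F, y ≠ 0 → f 0 ^ 2 * (y * y)⁻¹ = t * t → y = f 0 / t ∨ y = -(f 0 / t) := by
      intro y hy e
      refine eq_or_eq_neg_of_sq_eq_sq _ _ ?_
      field_simp at e ⊢
      linear_combination -e
    by_cases h5 : 5 ≤ Fintype.card F
    · obtain ⟨y, hy⟩ := exists_avoid_list [0, t * t, f 0 / t, -(f 0 / t)] (by simp; omega)
      simp only [List.mem_cons, List.not_mem_nil, or_false, not_or] at hy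
      exact ⟨y, hy.1, hy.2.1, fun e => (hbad y hy.1 e).elim hy.2.2.1 hy.2.2.2⟩
    · obtain ⟨y, hy⟩ := exists_avoid_list [0, t * t, t * t / f 0 ^ 2] (by simp; omega)
      simp only [List.mem_cons, List.not_mem_nil, or_false, not_or] at hy
      refine ⟨y, hy.1, hy.2.1, fun e => hy.2.2 ?_⟩
      have hy3 : y ^ 3 = 1 := by
        have := FiniteField.pow_card_sub_one_eq_one y hy.1
        rwa [show Fintype.card F - 1 = 3 by omega] at this
      have := hy.1
      field_simp at e ⊢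
      linear_combination y * e + (t * t) * hy3
  let s : Fin 2 → F := fun _ => y
  obtain ⟨A, H, hP, hT, -, -⟩ := exists_block (le_trans (by norm_num) h4) f hf s (fun _ => hy0)
    (Or.inl (contig_block (y := y) (fun _ _ => rfl) (Or.inr rfl))) (fun h => absurd h one_ne_zero)
  refine ⟨A, H, _, blockVals f s, hP, hT, fun i => ?_, fun i => ?_⟩
  · refine Fin.cases ?_ (fun j => hy0) i
    simp [blockVals, s, hf, hy0]
  · refine Fin.cases ?_ (fun j => hy1) i
    simpa [blockVals, s, Fin.prod_univ_two, pow_two] using hy2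

/-- no common eigenvector -/
theorem avoid_of_root {A H : Matrix (Fin 3) (Fin 3) F} {β : Fin 3 → F} (hT : TPair A H β) {t : F}
    (hβ : ∀ i, β i ≠ t * t) : ∀ w, A *ᵥ w = t • w → H *ᵥ w = t • w → w = 0 := by
  intro w hA hH
  by_contra hw
  have h := aeval_mulVec_eigen (A := A * H) (w := w) (a := t * t) (by
    rw [← Matrix.mulVec_mulVec, hH, Matrix.mulVec_smul, hA, smul_smul]) (A * H).charpoly
  rw [Matrix.aeval_self_charpoly, Matrix.zero_mulVec, eq_comm, smul_eq_zero] at h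
  have h' := h.resolve_right hw
  rw [hT.spl.2, eval_prod] at h'
  obtain ⟨i, -, hi⟩ := Finset.prod_eq_zero_iff.1 h'
  exact hβ i (by simpa [sub_eq_zero, eq_comm] using hi)

/-- split `X` -/
theorem pa_three_split [Fintype F] (h4 : 4 ≤ Fintype.card F) (f : Fin 3 → F) (hf : f 0 ≠ 0) {t : F} (ht : t ≠ 0)
    {r : Fin 3 → F} (hr : (CfsgLib.Ore.comp f).charpoly = ∏ i, (Polynomial.X - C (r i)))
    (G : Matrix (Fin 3) (Fin 3) F) (hns : Nonscalar G) (hdet : G.det = (CfsgLib.Ore.comp f).det ^ 3) :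
    PA (CfsgLib.Ore.comp f) t 3 G := by
  obtain ⟨A, H, ρ, β, hP, hT, hβ, hβt⟩ := exists_pair_three h4 f hf ht
  obtain ⟨sA, sH⟩ := hP.sim
  have hX : Spl (CfsgLib.Ore.comp f) r := ⟨thin_comp f, hr⟩
  have hd : (CfsgLib.Ore.comp f).det ≠ 0 := by rw [det_comp]; simp [hf]
  have hr0 : ∀ i, r i ≠ 0 := fun i => by
    have h := hX.det_eq
    exact Finset.prod_ne_zero_iff.1 (h ▸ hd) i (Finset.mem_univ i)
  have hdZ : (A * H).det = (CfsgLib.Ore.comp f).det ^ 2 := by rw [det_mul, sA.det_eq, sH.det_eq, pow_two]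
  obtain ⟨L, U, hL, hU, rfl⟩ := exists_split_mul h4 le_rfl G β r hβ hr0
    (by rw [hdet, ← hT.spl.det_eq, ← hX.det_eq, hdZ]; ring) hns
  obtain ⟨P, Q, p1, p2, eL⟩ := sim_exists (Spl.sim hL hT.spl
    (by rw [hL.det_eq]; exact Finset.prod_ne_zero_iff.2 fun i _ => hβ i) (by rw [hdZ]; exact pow_ne_zero _ hd))
  have hsU : Sim U (CfsgLib.Ore.comp f) := Spl.sim hU hX
    (by rw [hU.det_eq]; exact Finset.prod_ne_zero_iff.2 fun i _ => hr0 i) hd
  refine ⟨([A, H].map fun Y => P * Y * Q) ++ [U], rfl, ?_, ?_, ?_⟩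
  · intro Y hY
    simp only [List.map_cons, List.map_nil, List.cons_append, List.nil_append, List.mem_cons, List.not_mem_nil,
      or_false] at hY
    rcases hY with rfl | rfl | rfl
    · exact (sim_conj p1 p2 A).trans sA
    · exact (sim_conj p1 p2 H).trans sH
    · exact hsU
  · rw [List.prod_append, prod_map_conj p1 p2, eL]
    simp
  · exact (avoid_map_conj p1 p2 (l := [A, H]) fun w hw =>
      avoid_of_root hT hβt w (hw A (by simp)) (hw H (by simp))).mono fun Y hY => List.mem_append_left _ hY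

/-- a scalar plus rank one -/
theorem pa_three_rankone [Fintype F] (h4 : 4 ≤ Fintype.card F) (f : Fin 3 → F) (hf : f 0 ≠ 0) {t : F} (ht : t ≠ 0)
    (hsp : ¬ ∃ r : Fin 3 → F, (CfsgLib.Ore.comp f).charpoly = ∏ i, (Polynomial.X - C (r i)))
    {s : F} {a b : Fin 3 → F} (ha : a ≠ 0) (hb : b ≠ 0)
    (hdet : (s • 1 + vecMulVec a b).det = (CfsgLib.Ore.comp f).det ^ 3) :
    PA (CfsgLib.Ore.comp f) t 3 (s • 1 + vecMulVec a b) := by
  obtain ⟨A, H, ρ, β, hP, hT, hβ, hβt⟩ := exists_pair_three h4 f hf ht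
  obtain ⟨sA, sH⟩ := hP.sim
  have hd : (CfsgLib.Ore.comp f).det ≠ 0 := by rw [det_comp]; simp [hf]
  have hdZ : (A * H).det = (CfsgLib.Ore.comp f).det ^ 2 := by rw [det_mul, sA.det_eq, sH.det_eq, pow_two]
  have hdZ0 : (A * H).det ≠ 0 := by rw [hdZ]; exact pow_ne_zero _ hd
  have hs : s ≠ 0 := by
    intro e
    rw [e, zero_smul, zero_add, Matrix.det_vecMulVec] at hdet
    exact pow_ne_zero 3 hd hdet.symm
  obtain ⟨v, hv⟩ := hT.spl.exists_cyc hdZ0
  obtain ⟨x, y, hy, hsim, hx, -⟩ := exists_shift (by simp) (cyc_inv hv hdZ0 hs) f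
  have hx0 : x ≠ 0 := fun e => hsp ⟨fun i => s / β i, (charpoly_of_sim (hx e)).symm.trans
    (spl_smul_inv hT.low hT.diag hT.thin hβ hs).2⟩
  have hu : IsUnit (A * H).det := isUnit_iff_ne_zero.2 hdZ0
  have hx' : (A * H) *ᵥ x ≠ 0 := fun e => hx0 (by
    have := congrArg ((A * H)⁻¹ *ᵥ ·) e
    simpa [Matrix.mulVec_mulVec, Matrix.nonsing_inv_mul _ hu] using this)
  obtain ⟨Y, hY⟩ : ∃ Y, Y = s • (A * H)⁻¹ + vecMulVec x y := ⟨_, rfl⟩
  rw [← hY] at hsim
  have hprod : A * H * Y = s • 1 + vecMulVec ((A * H) *ᵥ x) y := by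
    rw [hY, Matrix.mul_add, Matrix.mul_smul, Matrix.mul_nonsing_inv _ hu, Matrix.mul_vecMulVec]
  have hsimG : Sim (s • 1 + vecMulVec a b) (A * H * Y) := by
    have e : ∀ a b : Fin 3 → F, s • 1 + vecMulVec a b = s • (1 + vecMulVec a (s⁻¹ • b)) := fun a b => by
      rw [smul_add, Matrix.vecMulVec_smul, smul_smul, mul_inv_cancel₀ hs, one_smul]
    have hd2 : (A * H * Y).det = (CfsgLib.Ore.comp f).det ^ 3 := by
      rw [det_mul, hdZ, hsim.det_eq]; ring
    rw [hprod, e, det_smul, det_one_add_outer] at hd2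
    rw [e, det_smul, det_one_add_outer] at hdet
    rw [hprod, e a b, e ((A * H) *ᵥ x) y]
    refine Sim.smul (sim_outer rfl ha (smul_ne_zero (inv_ne_zero hs) hb) hx' (smul_ne_zero (inv_ne_zero hs) hy) ?_) s
    exact add_left_cancel (mul_left_cancel₀ (pow_ne_zero _ hs) (hdet.trans hd2.symm))
  refine PA.of_sim ⟨[A, H, Y], rfl, ?_, by simp [Matrix.mul_assoc],
    fun w hw => avoid_of_root hT hβt w (hw A (by simp)) (hw H (by simp))⟩ hsimG
  intro Z hZ
  simp only [List.mem_cons, List.not_mem_nil, or_false] at hZ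
  rcases hZ with rfl | rfl | rfl
  · exact sA
  · exact sH
  · exact hsim

/-- cyclic targets, `X` not split -/
theorem pa_three_cyclic [Fintype F] (h4 : 4 ≤ Fintype.card F) (f : Fin 3 → F) (hf : f 0 ≠ 0) {t : F} (ht : t ≠ 0)
    (hsp : ¬ ∃ r : Fin 3 → F, (CfsgLib.Ore.comp f).charpoly = ∏ i, (Polynomial.X - C (r i)))
    (G : Matrix (Fin 3) (Fin 3) F) {v : Fin 3 → F} (hv : Cyc G v)
    (hdet : G.det = (CfsgLib.Ore.comp f).det ^ 3) : PA (CfsgLib.Ore.comp f) t 3 G := by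
  classical
  obtain ⟨X, hXdef⟩ : ∃ X, X = CfsgLib.Ore.comp f := ⟨_, rfl⟩
  rw [← hXdef] at hsp hdet ⊢
  obtain ⟨δ, hδ⟩ : ∃ δ, δ = X.det := ⟨_, rfl⟩
  have hδ0 : δ ≠ 0 := by rw [hδ, hXdef, det_comp]; simp [hf]
  have hu : IsUnit X.det := isUnit_iff_ne_zero.2 (hδ ▸ hδ0)
  have hG0 : G.det ≠ 0 := by rw [hdet, ← hδ]; exact pow_ne_zero _ hδ0
  -- two proper multiples cannot both be similar
  have uniq : ∀ (M : Matrix (Fin 3) (Fin 3) F), M.det ≠ 0 → ∀ c c' : F, c ≠ 0 → c' ≠ 0 → c ^ 3 = c' ^ 3 → ∀ a : F,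
      (c • M).det = a ^ 3 → Sim (c • M) X → Sim (c' • M) X → c = c' := by
    intro M hM c c' hc hc' he a ha h1 h2
    by_contra hne
    have hXd : X.det = a ^ 3 := by rw [← h1.det_eq, ha]
    have ha0 : a ≠ 0 := fun e => hδ0 (by rw [hδ, hXd, e]; simp)
    refine hsp (split_of_sim_smul h4 (μ := c' / c) ?_ ?_ ha0 hXd ?_)
    · intro e; field_simp at e; exact hne e.symm
    · field_simp; exact he.symm
    · have := Sim.smul h1.symm (c' / c)
      rw [smul_smul, div_mul_cancel₀ _ hc] at this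
      exact this.trans h2
  have hR1 : ∀ c : F, Sim (c • X⁻¹) X → c ^ 3 = δ ^ 2 := fun c h => by
    have := h.det_eq
    rw [det_smul, Matrix.det_nonsing_inv, Ring.inverse_eq_inv', ← hδ, Fintype.card_fin] at this
    field_simp at this
    linear_combination this
  have hR2 : ∀ c : F, c ≠ 0 → Sim (c⁻¹ • G) X → c ^ 3 = δ ^ 2 := fun c hc h => by
    have := h.det_eq
    rw [det_smul, hdet, ← hδ, Fintype.card_fin] at this
    field_simp at this
    linear_combination -this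
  have u1 : ∀ c c' : F, c ≠ 0 → c' ≠ 0 → Sim (c • X⁻¹) X → Sim (c' • X⁻¹) X → c = c' := fun c c' hc hc' h h' =>
    uniq X⁻¹ (Matrix.isUnit_nonsing_inv_det _ hu).ne_zero c c' hc hc' ((hR1 c h).trans (hR1 c' h').symm) (δ / c)
      (by rw [h.det_eq, ← hδ]; field_simp; linear_combination (hR1 c h)) h h'
  have u2 : ∀ c c' : F, c ≠ 0 → c' ≠ 0 → Sim (c⁻¹ • G) X → Sim (c'⁻¹ • G) X → c = c' := fun c c' hc hc' h h' =>
    inv_injective (uniq G hG0 c⁻¹ c'⁻¹ (inv_ne_zero hc) (inv_ne_zero hc')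
      (by rw [inv_pow, inv_pow, hR2 c hc h, hR2 c' hc' h']) (δ / c)
      (by rw [h.det_eq, ← hδ]; field_simp; linear_combination hR2 c hc h) h h')
  obtain ⟨c, hc0, hc1, hc2, hc3⟩ : ∃ c : F, c ≠ 0 ∧ ¬ Sim (c • X⁻¹) X ∧ ¬ Sim (c⁻¹ • G) X ∧
      (c ^ 2 * t ^ 2 = δ ^ 2 → c ^ 3 = δ ^ 2) := by
    obtain ⟨c1, hc1⟩ : ∃ c1 : F, ∀ c, c ≠ 0 → Sim (c • X⁻¹) X → c = c1 := by
      by_cases h : ∃ c : F, c ≠ 0 ∧ Sim (c • X⁻¹) X
      · obtain ⟨c, hc, hs⟩ := h
        exact ⟨c, fun c' hc' hs' => u1 c' c hc' hc hs' hs⟩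
      · exact ⟨0, fun c hc hs => absurd ⟨c, hc, hs⟩ h⟩
    obtain ⟨c2, hc2⟩ : ∃ c2 : F, ∀ c, c ≠ 0 → Sim (c⁻¹ • G) X → c = c2 := by
      by_cases h : ∃ c : F, c ≠ 0 ∧ Sim (c⁻¹ • G) X
      · obtain ⟨c, hc, hs⟩ := h
        exact ⟨c, fun c' hc' hs' => u2 c' c hc' hc hs' hs⟩
      · exact ⟨0, fun c hc hs => absurd ⟨c, hc, hs⟩ h⟩
    have hsq : ∀ c : F, c ^ 2 * t ^ 2 = δ ^ 2 → c = δ / t ∨ c = -(δ / t) := fun c e => by
      refine eq_or_eq_neg_of_sq_eq_sq _ _ ?_
      field_simp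
      linear_combination e
    rcases (show 6 ≤ Fintype.card F ∨ Fintype.card F = 5 ∨ Fintype.card F = 4 by omega) with h6 | h5 | hq
    · obtain ⟨c, hc⟩ := exists_avoid_list [0, c1, c2, δ / t, -(δ / t)] (by simp; omega)
      simp only [List.mem_cons, List.not_mem_nil, or_false, not_or] at hc
      exact ⟨c, hc.1, fun h => hc.2.1 (hc1 c hc.1 h), fun h => hc.2.2.1 (hc2 c hc.1 h),
        fun e => ((hsq c e).elim hc.2.2.2.1 hc.2.2.2.2).elim⟩
    · -- cubing is injective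
      have inj : ∀ x : F, x ≠ 0 → x = (x ^ 3) ^ 3 := fun x hx => by
        have := FiniteField.pow_card_sub_one_eq_one x hx
        rw [h5] at this
        linear_combination (-x * (x ^ (5 - 1)) - x) * this
      obtain ⟨c, hc⟩ := exists_avoid_list [0, (δ ^ 2) ^ 3, δ / t, -(δ / t)] (by simp; omega)
      simp only [List.mem_cons, List.not_mem_nil, or_false, not_or] at hc
      exact ⟨c, hc.1, fun h => hc.2.1 ((inj c hc.1).trans (by rw [hR1 c h])),
        fun h => hc.2.1 ((inj c hc.1).trans (by rw [hR2 c hc.1 h])), fun e => ((hsq c e).elim hc.2.2.1 hc.2.2.2).elim⟩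
    · have h3 : ∀ x : F, x ≠ 0 → x ^ 3 = 1 := fun x hx => by
        have := FiniteField.pow_card_sub_one_eq_one x hx
        rwa [hq] at this
      by_cases h1 : δ ^ 2 = 1
      · obtain ⟨c, hc⟩ := exists_avoid_list [0, c1, c2] (by simp; omega)
        simp only [List.mem_cons, List.not_mem_nil, or_false, not_or] at hc
        exact ⟨c, hc.1, fun h => hc.2.1 (hc1 c hc.1 h), fun h => hc.2.2 (hc2 c hc.1 h),
          fun _ => (h3 c hc.1).trans h1.symm⟩
      · obtain ⟨c, hc⟩ := exists_avoid_list [0, δ / t, -(δ / t)] (by simp; omega)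
        simp only [List.mem_cons, List.not_mem_nil, or_false, not_or] at hc
        exact ⟨c, hc.1, fun h => h1 ((hR1 c h).symm.trans (h3 c hc.1)),
          fun h => h1 ((hR2 c hc.1 h).symm.trans (h3 c hc.1)), fun e => ((hsq c e).elim hc.2.1 hc.2.2).elim⟩
  have hXu' : X * X⁻¹ = 1 := Matrix.mul_nonsing_inv _ hu
  have hXcyc : Cyc X (ev F 3 0) := by rw [hXdef]; exact comp_cyc f
  -- a pair with product `c (1 + a bᵀ)`
  obtain ⟨x₀, y₀, hy₀, hsim₀, hx₀, -⟩ := exists_shift (by simp) (cyc_inv hXcyc (hδ ▸ hδ0) hc0) f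
  rw [← hXdef] at hsim₀ hx₀
  have hXx : X *ᵥ x₀ ≠ 0 := fun e => hc1 (hx₀ (by
    have := congrArg (X⁻¹ *ᵥ ·) e
    simpa [Matrix.mulVec_mulVec, Matrix.nonsing_inv_mul _ hu] using this))
  have hprod₀ : X * (c • X⁻¹ + vecMulVec x₀ y₀) = c • (1 + vecMulVec (X *ᵥ x₀) (c⁻¹ • y₀)) := by
    rw [Matrix.mul_add, Matrix.mul_smul, hXu', Matrix.mul_vecMulVec, smul_add, Matrix.vecMulVec_smul, smul_smul,
      mul_inv_cancel₀ hc0, one_smul]
  have hdot₀ : c ^ 3 * (1 + (c⁻¹ • y₀) ⬝ᵥ (X *ᵥ x₀)) = δ ^ 2 := by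
    have := congrArg Matrix.det hprod₀
    rw [det_mul, hsim₀.det_eq, det_smul, det_one_add_outer, Fintype.card_fin, ← hδ] at this
    rw [← this, pow_two]
  -- `G` is such a matrix times a conjugate of `X`
  obtain ⟨c₁, hc₁, -, -⟩ := exists_comp (Matrix.charpoly_monic (c⁻¹ • G)) (m := 3)
    (by simp [Matrix.charpoly_natDegree_eq_dim])
  obtain ⟨x, y, hy, hsim, hx, hyw⟩ := exists_shift (by simp) hXcyc c₁
  have hGc : Sim (c⁻¹ • G) (CfsgLib.Ore.comp c₁) := by
    refine sim_comp (by simp) _ v ?_ c₁ (by rw [hc₁, Matrix.aeval_self_charpoly, Matrix.zero_mulVec])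
    intro w
    obtain ⟨p, hp⟩ := hv w
    exact ⟨p.comp (C c * Polynomial.X), by
      rw [Polynomial.aeval_comp, map_mul, aeval_C, aeval_X, Algebra.algebraMap_eq_smul_one, Matrix.smul_mul,
        Matrix.one_mul, smul_smul, mul_inv_cancel₀ hc0, one_smul]
      exact hp⟩
  have hx0 : x ≠ 0 := fun e => hc2 (hGc.trans (hx e).symm)
  obtain ⟨y', hy'⟩ : ∃ y', y' = y ᵥ* X⁻¹ := ⟨_, rfl⟩
  have hy'0 : y' ≠ 0 := fun e => hy (by
    have := congrArg (· ᵥ* X) e
    simpa [hy', Matrix.vecMul_vecMul, Matrix.nonsing_inv_mul _ hu] using this)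
  have hZX : X + vecMulVec x y = (1 + vecMulVec x y') * X := by
    rw [Matrix.add_mul, Matrix.one_mul, Matrix.vecMulVec_mul, hy', Matrix.vecMul_vecMul,
      Matrix.nonsing_inv_mul _ hu, Matrix.vecMul_one]
  have hGsim : Sim G (c • (1 + vecMulVec x y') * X) := by
    have := Sim.smul (hGc.trans hsim.symm) c
    rw [smul_smul, mul_inv_cancel₀ hc0, one_smul, hZX, ← Matrix.smul_mul] at this
    exact this
  have hdot : c ^ 3 * (1 + y' ⬝ᵥ x) = δ ^ 2 := by
    have := hGsim.det_eq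
    rw [hdet, det_mul, det_smul, det_one_add_outer, Fintype.card_fin, ← hδ] at this
    exact mul_right_cancel₀ hδ0 (by linear_combination -this)
  have hsimZ : Sim (c • (1 + vecMulVec x y')) (X * (c • X⁻¹ + vecMulVec x₀ y₀)) := by
    rw [hprod₀]
    exact Sim.smul (sim_outer rfl hx0 hy'0 hXx (smul_ne_zero (inv_ne_zero hc0) hy₀)
      (add_left_cancel (mul_left_cancel₀ (pow_ne_zero 3 hc0) (hdot.trans hdot₀.symm)))) c
  obtain ⟨P, Q, p1, p2, eZ⟩ := sim_exists hsimZ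
  refine PA.of_sim ⟨([X, c • X⁻¹ + vecMulVec x₀ y₀].map fun Y => P * Y * Q) ++ [(X)], rfl, ?_, ?_, ?_⟩ hGsim
  · intro Y hY
    simp only [List.map_cons, List.map_nil, List.cons_append, List.nil_append, List.mem_cons, List.not_mem_nil,
      or_false] at hY
    rcases hY with rfl | rfl | rfl
    · exact sim_conj p1 p2 X
    · exact (sim_conj p1 p2 _).trans hsim₀
    · exact Sim.refl _
  · rw [List.prod_append, prod_map_conj p1 p2, eZ]
    simp
  · intro w hw
    by_contra hw0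
    have hXw : X *ᵥ w = t • w := hw X (by simp)
    have hZw : (c • (1 + vecMulVec x y')) *ᵥ w = (t * t) • w := by
      have e1 := hw (P * X * Q) (by simp)
      have e2 := hw (P * (c • X⁻¹ + vecMulVec x₀ y₀) * Q) (by simp)
      rw [eZ, show P * (X * (c • X⁻¹ + vecMulVec x₀ y₀)) * Q = P * X * Q * (P * (c • X⁻¹ + vecMulVec x₀ y₀) * Q) by
        rw [show P * X * Q * (P * (c • X⁻¹ + vecMulVec x₀ y₀) * Q) = P * X * (Q * P) * (c • X⁻¹ + vecMulVec x₀ y₀) * Q by
          simp only [Matrix.mul_assoc], p2, Matrix.mul_one, Matrix.mul_assoc P X],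
        ← Matrix.mulVec_mulVec, e2, Matrix.mulVec_smul, e1, smul_smul]
    rw [Matrix.smul_mulVec, Matrix.add_mulVec, Matrix.one_mulVec, Matrix.vecMulVec_mulVec, op_smul_eq_smul] at hZw
    obtain ⟨μ, hμ⟩ : ∃ μ, μ = y' ⬝ᵥ w := ⟨_, rfl⟩
    rw [← hμ] at hZw
    have hμ0 : μ ≠ 0 := by
      intro e
      refine hyw w t hw0 hXw ?_
      have : y' ⬝ᵥ (X *ᵥ w) = y ⬝ᵥ w := by
        rw [hy', Matrix.dotProduct_mulVec, Matrix.vecMul_vecMul, Matrix.nonsing_inv_mul _ hu, Matrix.vecMul_one]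
      rw [← this, hXw, dotProduct_smul, ← hμ, e, smul_zero]
    have hxw : (c * μ) • x = (t * t - c) • w := by linear_combination (norm := module) hZw
    have hk : t * t = c * (1 + y' ⬝ᵥ x) := by
      have := congrArg (y' ⬝ᵥ ·) hxw
      simp only [dotProduct_smul, ← hμ, smul_eq_mul] at this
      exact mul_right_cancel₀ hμ0 (by linear_combination -this)
    have h3 := hc3 (by linear_combination hdot + c ^ 2 * hk)
    have hz : y' ⬝ᵥ x = 0 := by
      have := mul_left_cancel₀ (pow_ne_zero 3 hc0) ((hdot.trans h3.symm).trans (mul_one _).symm)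
      simpa using this
    rw [hz, add_zero, mul_one] at hk
    rw [hk, sub_self, zero_smul] at hxw
    exact hx0 ((smul_eq_zero.1 hxw).resolve_left (mul_ne_zero hc0 hμ0))

/-- three factors -/
theorem pa_three [Fintype F] (h4 : 4 ≤ Fintype.card F) (f : Fin 3 → F) (hf : f 0 ≠ 0) {t : F} (ht : t ≠ 0)
    (G : Matrix (Fin 3) (Fin 3) F) (hns : Nonscalar G) (hdet : G.det = (CfsgLib.Ore.comp f).det ^ 3) :
    PA (CfsgLib.Ore.comp f) t 3 G := by
  by_cases hsp : ∃ r : Fin 3 → F, (CfsgLib.Ore.comp f).charpoly = ∏ i, (Polynomial.X - C (r i))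
  · obtain ⟨r, hr⟩ := hsp
    exact pa_three_split h4 f hf ht hr G hns hdet
  rcases cyclic_or_rankone G (by simp) with ⟨v, hv⟩ | ⟨s, a, b, rfl⟩
  · refine pa_three_cyclic h4 f hf ht hsp G (v := v) ?_ hdet
    intro w
    obtain ⟨p, q, r, hw⟩ := mem_span3.1
      ((hv.span_eq_top_of_card_eq_finrank (by simp)).ge (Submodule.mem_top (x := w)))
    refine ⟨C p + C q * Polynomial.X + C r * (Polynomial.X * Polynomial.X), ?_⟩
    rw [← hw]
    simp [Algebra.algebraMap_eq_smul_one, Matrix.add_mulVec, Matrix.smul_mulVec, Matrix.mulVec_mulVec]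
  · have ha : a ≠ 0 := fun e => hns s (by rw [e, Matrix.zero_vecMulVec, add_zero])
    have hb : b ≠ 0 := fun e => hns s (by rw [e, Matrix.vecMulVec_zero, add_zero])
    exact pa_three_rankone h4 f hf ht hsp ha hb hdet

end CfsgLib.Known.CoverPSL
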