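import Cfsg.Agent.Lib.Known.CoverPSL.Engine
import Cfsg.Agent.Lib.Known.CoverPSL.Cubic
import Cfsg.Agent.Lib.Known.CoverPSL.Good

/-!
# One Jordan block
-/

set_option autoImplicit false
set_option linter.unusedSectionVars false
set_option linter.style.haveILetI false

open Matrix Polynomial CfsgLib.Ore

namespace CfsgLib.Known.CoverPSL

universe u

variable {F : Type u} [Field F]

/-- the lower shift -/
def lshift (F : Type u) [Field F] (n : ℕ) : Matrix (Fin n) (Fin n) F :=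
  Matrix.of fun i j => if (j : ℕ) + 1 = i then 1 else 0

theorem lshift_pow (n : ℕ) : lshift F n ^ n = 0 := by
  have h : (lshift F n).charpoly = Polynomial.X ^ n := by
    rw [charpoly_low (β := fun _ => 0) (fun i j h => by
      have : (i : ℕ) < j := h
      simp [lshift]; omega) (fun i => by simp [lshift])]
    simp
  have := Matrix.aeval_self_charpoly (lshift F n)
  rwa [h, map_pow, aeval_X] at this

/-- a scalar from one Jordan block of odd size, with enough roots of unity -/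
theorem goodS_jordan {n : ℕ} (hn : Odd n) {ζ : F} (hζ : IsPrimitiveRoot ζ n) (a : F) :
    GoodS (a • (1 + lshift F n)) n := by
  classical
  have hζ' : IsPrimitiveRoot (C ζ) n := hζ.map_of_injective C_injective
  have hpow := hζ'.pow_add_pow_eq_prod_add_mul (1 : F[X]) Polynomial.X hn
  have hmem : ∀ μ ∈ Polynomial.nthRootsFinset n (1 : F[X]), ∃ i : ℕ, μ = C (ζ ^ i) := by
    intro μ hμ
    haveI : NeZero n := ⟨(Odd.pos hn).ne'⟩
    rw [Polynomial.mem_nthRootsFinset (Odd.pos hn)] at hμ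
    obtain ⟨i, -, hi⟩ := hζ'.eq_pow_of_pow_eq_one hμ
    exact ⟨i, by rw [← hi, map_pow]⟩
  obtain ⟨l, hl⟩ : ∃ l, l = (Polynomial.nthRootsFinset n (1 : F[X])).toList.map
      fun μ => aeval (lshift F n) (1 + μ * Polynomial.X) := ⟨_, rfl⟩
  have hlp : l.prod = 1 := by
    rw [hl]
    have e : ((Polynomial.nthRootsFinset n (1 : F[X])).toList.map fun μ => aeval (lshift F n) (1 + μ * Polynomial.X)).prod =
        aeval (lshift F n) (((Polynomial.nthRootsFinset n (1 : F[X])).toList.map fun μ => 1 + μ * Polynomial.X).prod) := by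
      rw [map_list_prod, List.map_map]; rfl
    rw [e, Finset.prod_map_toList, ← hpow, one_pow, map_add, map_one, map_pow, aeval_X, lshift_pow, add_zero]
  have hS : SProds (1 + lshift F n) n 1 := by
    refine ⟨l, ?_, fun Y hY => ?_, hlp⟩
    · rw [hl, List.length_map, Finset.length_toList, hζ'.card_nthRootsFinset]
    · rw [hl] at hY
      obtain ⟨μ, hμ, rfl⟩ := List.mem_map.1 hY
      obtain ⟨i, rfl⟩ := hmem μ (Finset.mem_toList.1 hμ)
      rw [map_add, map_one, map_mul, aeval_C, aeval_X, Algebra.algebraMap_eq_smul_one, Matrix.smul_mul, Matrix.one_mul]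
      refine ⟨Matrix.diagonal fun j : Fin n => (ζ ^ i) ^ (j : ℕ), ?_, ?_⟩
      · rw [Matrix.det_diagonal, Fin.prod_univ_eq_prod_range (fun j => (ζ ^ i) ^ j) n, Finset.prod_pow_eq_pow_sum,
          ← pow_mul]
        obtain ⟨r, rfl⟩ := hn
        have hs : ∑ j ∈ Finset.range (2 * r + 1), j = (2 * r + 1) * r := by
          rw [Finset.sum_range_id, show 2 * r + 1 - 1 = 2 * r by omega, ← mul_assoc, mul_comm _ 2, mul_assoc,
            Nat.mul_div_cancel_left _ (by norm_num)]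
        rw [hs, ← mul_assoc, mul_comm i, mul_assoc, pow_mul, hζ.pow_eq_one, one_pow]
      · ext j k
        rw [Matrix.mul_diagonal, Matrix.diagonal_mul]
        by_cases hjk : (k : ℕ) + 1 = j
        · have : j ≠ k := fun e => by subst e; omega
          simp [lshift, hjk, this]
          rw [← hjk, pow_succ]
          ring
        · by_cases e : j = k
          · subst e; simp [lshift]
          · simp [lshift, hjk, e]
  have hS' : GoodS (1 + lshift F n) n := ⟨1, by rw [one_smul]; exact hS⟩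
  exact hS'.smul a

/-- two Jordan blocks of size two multiply to every trace but two -/
theorem pa_two {a : F} (ha : a ≠ 0) {D : Matrix (Fin 2) (Fin 2) F} (hdet : D.det = a ^ 4)
    (h1 : D.trace ≠ 2 * a ^ 2) (h2 : D.trace ≠ -(2 * a ^ 2)) : PA !![a, 0; 1, a] a 2 D := by
  have hns : Nonscalar D := by
    intro d hd
    rw [hd, det_smul, det_one, mul_one, Fintype.card_fin] at hdet
    rw [hd, Matrix.trace_smul, Matrix.trace_one, Fintype.card_fin, smul_eq_mul] at h1 h2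
    rcases eq_or_eq_neg_of_sq_eq_sq d (a ^ 2) (by rw [hdet]; ring) with e | e <;> rw [e] at h1 h2
    · exact h1 (by push_cast; ring)
    · exact h2 (by push_cast; ring)
  obtain ⟨τ, hτ⟩ : ∃ τ, τ = D.trace - 2 * a ^ 2 := ⟨_, rfl⟩
  have hτ0 : τ ≠ 0 := hτ ▸ sub_ne_zero.2 h1
  let Q : Matrix (Fin 2) (Fin 2) F := !![a, 0; 1, a]
  let U : Matrix (Fin 2) (Fin 2) F := !![a, τ; 0, a]
  have hUQ : Sim U Q := by
    refine ⟨!![0, τ; 1, 0], !![0, 1; τ⁻¹, 0], ?_, ?_, ?_⟩ <;> ext i j <;> fin_cases i <;> fin_cases j <;>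
      simp [U, Q, Matrix.mul_apply, Fin.sum_univ_two, hτ0, mul_comm]
  have hQU : Q * U = !![a * a, a * τ; a, τ + a * a] := by
    ext i j; fin_cases i <;> fin_cases j <;> simp [U, Q, Matrix.mul_apply, Fin.sum_univ_two]
  have hcyc : ∀ M : Matrix (Fin 2) (Fin 2) F, Nonscalar M → ∃ v, Cyc M v := fun M hM => by
    obtain ⟨v, hv⟩ := exists_moved hM
    refine ⟨v, fun w => ?_⟩
    obtain ⟨p, q, hw⟩ := mem_span2.1 ((hv.span_eq_top_of_card_eq_finrank (by simp)).ge (Submodule.mem_top (x := w)))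
    refine ⟨C p + C q * Polynomial.X, ?_⟩
    rw [← hw]
    simp [Algebra.algebraMap_eq_smul_one, Matrix.add_mulVec, Matrix.smul_mulVec]
  obtain ⟨c, hc, -, -⟩ := exists_comp (Matrix.charpoly_monic D) (m := 2) (by simp [Matrix.charpoly_natDegree_eq_dim])
  have hsim : Sim D (Q * U) := by
    obtain ⟨v, hv⟩ := hcyc D hns
    obtain ⟨w, hw⟩ := hcyc (Q * U) (fun d hd => ha (by
      rw [hQU] at hd
      simpa using congrFun (congrFun hd 1) 0))
    refine (sim_comp (by simp) D v hv c (by rw [hc, Matrix.aeval_self_charpoly, Matrix.zero_mulVec])).trans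
      (sim_comp (by simp) (Q * U) w hw c ?_).symm
    have he : D.charpoly = (Q * U).charpoly := by
      rw [Matrix.charpoly_fin_two, Matrix.charpoly_fin_two, hdet]
      have e1 : (Q * U).trace = D.trace := by rw [hQU, Matrix.trace_fin_two, hτ]; simp; ring
      have e2 : (Q * U).det = a ^ 4 := by rw [hQU, Matrix.det_fin_two]; simp; ring
      rw [e1, e2]
    rw [hc, he, Matrix.aeval_self_charpoly, Matrix.zero_mulVec]
  refine PA.of_sim ⟨[Q, U], rfl, ?_, by simp, ?_⟩ hsim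
  · intro Y hY
    simp only [List.mem_cons, List.not_mem_nil, or_false] at hY
    rcases hY with rfl | rfl
    · exact Sim.refl _
    · exact hUQ
  · intro w hw
    have e1 := congrFun (hw Q (by simp)) 1
    have e2 := congrFun (hw U (by simp)) 0
    simp [Q, U, Matrix.mulVec, dotProduct, Fin.sum_univ_two, hτ0] at e1 e2
    funext i
    fin_cases i <;> simp [e1, e2]

/-- the permutation between the two forms -/
def jperm : Fin 1 ⊕ Fin 2 ≃ Fin 1 ⊕ Fin 2 where
  toFun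
    | Sum.inl _ => Sum.inr 0
    | Sum.inr i => if i = 0 then Sum.inr 1 else Sum.inl 0
  invFun
    | Sum.inl _ => Sum.inr 1
    | Sum.inr i => if i = 0 then Sum.inl 0 else Sum.inr 0
  left_inv := by decide
  right_inv := by decide

/-- the Jordan block of size three -/
theorem good_jordan_three [Fintype F] (h4 : 4 ≤ Fintype.card F) {a : F} (ha : a ≠ 0) :
    Good (fromBlocks (a • (1 : Matrix (Fin 1) (Fin 1) F)) !![0, 1] 0 !![a, 0; 1, a]) 3 := by
  classical
  obtain ⟨Q, hQ⟩ : ∃ Q : Matrix (Fin 2) (Fin 2) F, Q = !![a, 0; 1, a] := ⟨_, rfl⟩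
  obtain ⟨v₀, hv₀⟩ : ∃ v : Matrix (Fin 2) (Fin 1) F, v = !![1; 0] := ⟨_, rfl⟩
  rw [← hQ]
  intro G hns hdet
  have hQd : Q.det = a ^ 2 := by rw [hQ, Matrix.det_fin_two]; simp; ring
  have hQu : IsUnit Q.det := by rw [hQd]; exact (pow_ne_zero _ ha).isUnit
  obtain ⟨Z, hZu, hL⟩ := exists_lower (α := a) (ρ := (!![0, 1] : Matrix (Fin 1) (Fin 2) F)) (Xb := Q) (v := v₀) (Y := Q) (by
    refine Sim.symm ((Sim.reindex _ jperm).trans (Sim.of_eq ?_))
    ext i j
    fin_cases i <;> fin_cases j <;> simp [jperm, hQ, hv₀])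
  obtain ⟨v, hv⟩ : ∃ v, v = v₀ * Z⁻¹ := ⟨_, rfl⟩
  rw [← hv] at hL
  obtain ⟨z₀, hz₀⟩ : ∃ z₀, z₀ = (Z⁻¹) 0 0 := ⟨_, rfl⟩
  have hz₀0 : z₀ ≠ 0 := by
    have := (Matrix.isUnit_nonsing_inv_det _ hZu).ne_zero
    rwa [Matrix.det_fin_one, ← hz₀] at this
  obtain ⟨c, hc⟩ : ∃ c, c = Q⁻¹ * v := ⟨_, rfl⟩
  have hYc : Q * c = v := by rw [hc, ← Matrix.mul_assoc, Matrix.mul_nonsing_inv _ hQu, Matrix.one_mul]
  have hv0 : v 0 0 = z₀ := by simp [hv, hv₀, hz₀, Matrix.mul_apply, Matrix.vecMul, dotProduct]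
  have hv1 : v 1 0 = 0 := by simp [hv, hv₀, Matrix.mul_apply, Matrix.vecMul, dotProduct]
  have hc01 : a * c 0 0 = z₀ ∧ c 0 0 + a * c 1 0 = 0 := by
    rw [← hv0, ← hv1, ← hYc]
    simp [hQ, Matrix.mul_apply, Fin.sum_univ_two]
  have hc1 : c 1 0 ≠ 0 := fun e => hz₀0 (by
    rw [← hc01.1]; have := hc01.2; rw [e, mul_zero, add_zero] at this; rw [this, mul_zero])
  have hvinj : ∀ w, v *ᵥ w = 0 → w = 0 := fun w e => funext fun i => by
    obtain rfl : i = 0 := Fin.ext (by omega)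
    have := congrFun e 0
    simpa [Matrix.mulVec, dotProduct, hv0, hz₀0] using this
  have hGd : G.det ≠ 0 := by
    rw [hdet, det_fromBlocks_zero₂₁, det_smul, det_one, mul_one, hQd]
    exact pow_ne_zero _ (mul_ne_zero (pow_ne_zero _ ha) (pow_ne_zero _ ha))
  obtain ⟨s, hs⟩ : ∃ s, s = a ^ 3 := ⟨_, rfl⟩
  have hs0 : s ≠ 0 := hs ▸ pow_ne_zero _ ha
  obtain ⟨z, hz⟩ := exists_moved hns
  obtain ⟨x, α₁, α₂, α₃, hx, hα₂, hG2⟩ : ∃ (x : Fin 1 ⊕ Fin 2 → F) (α₁ α₂ α₃ : F),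
      LinearIndependent F ![G *ᵥ z, G *ᵥ z - s • z, x] ∧ α₂ ≠ 0 ∧
        G *ᵥ (G *ᵥ z) = α₁ • (G *ᵥ z) + α₂ • (G *ᵥ z - s • z) + α₃ • x := by
    have hinj : ∀ p q : Fin 1 ⊕ Fin 2 → F, G *ᵥ p = G *ᵥ q → p = q := fun p q e => by
      have := congrArg (G⁻¹ *ᵥ ·) e
      simpa [Matrix.mulVec_mulVec, Matrix.nonsing_inv_mul _ (isUnit_iff_ne_zero.2 hGd)] using this
    have h2 : LinearIndependent F ![G *ᵥ z, G *ᵥ z - s • z] := by
      rw [LinearIndependent.pair_iff]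
      intro p q e
      obtain ⟨e1, e2⟩ := LinearIndependent.pair_iff.1 hz (-(q * s)) (p + q) (by linear_combination (norm := module) e)
      have hq : q = 0 := by simpa [hs0] using e1
      exact ⟨by simpa [hq] using e2, hq⟩
    by_cases hspan : G *ᵥ (G *ᵥ z) ∈ Submodule.span F (Set.range ![z, G *ᵥ z])
    · obtain ⟨p, q, hpq⟩ := mem_span2.1 hspan
      have hp : p ≠ 0 := by
        rintro rfl
        rw [zero_smul, zero_add, ← Matrix.mulVec_smul] at hpq
        obtain ⟨-, e⟩ := LinearIndependent.pair_iff.1 hz q (-1)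
          (by rw [← hinj _ _ hpq.symm]; module)
        simp at e
      obtain ⟨x, hx⟩ : ∃ x, x ∉ Submodule.span F (Set.range ![G *ᵥ z, G *ᵥ z - s • z]) := by
        by_contra hno
        push Not at hno
        have htop : Submodule.span F (Set.range ![G *ᵥ z, G *ᵥ z - s • z]) = ⊤ := Submodule.eq_top_iff'.2 hno
        have := finrank_range_le_card (R := F) ![G *ᵥ z, G *ᵥ z - s • z]
        rw [Set.finrank, htop, finrank_top, Module.finrank_fintype_fun_eq_card] at this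
        simp at this
      refine ⟨x, p / s + q, -(p / s), 0, indep_three h2 hx, by simp [hp, hs0], ?_⟩
      rw [← hpq]
      match_scalars <;> field_simp <;> ring
    · refine ⟨G *ᵥ (G *ᵥ z) + z, -s⁻¹, s⁻¹, 1, indep3_iff.2 fun p q r e => ?_, inv_ne_zero hs0, ?_⟩
      · have hr : r = 0 := by
          by_contra hr
          refine hspan (mem_span2.2 ⟨(q * s - r) / r, -(p + q) / r, ?_⟩)
          linear_combination (norm := skip) (-r⁻¹) • e
          match_scalars <;> field_simp <;> ring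
        subst hr
        obtain ⟨h1, h2'⟩ := LinearIndependent.pair_iff.1 h2 p q (by simpa using e)
        exact ⟨h1, h2', rfl⟩
      · match_scalars <;> field_simp <;> ring
  -- the basis
  obtain ⟨f₁, hf₁⟩ : ∃ f, f = (Pi.single (Sum.inl 0) 1 : Fin 1 ⊕ Fin 2 → F) := ⟨_, rfl⟩
  obtain ⟨f₂, hf₂⟩ : ∃ f, f = Sum.elim (0 : Fin 1 → F) (fun i => c i 0) := ⟨_, rfl⟩
  obtain ⟨f₃, hf₃⟩ : ∃ f, f = (Pi.single (Sum.inr 0) 1 : Fin 1 ⊕ Fin 2 → F) := ⟨_, rfl⟩
  have hfi : LinearIndependent F ![f₁, f₂, f₃] := indep3_iff.2 fun p q r e => by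
    have e1 := congrFun e (Sum.inl 0)
    have e2 := congrFun e (Sum.inr 1)
    have e3 := congrFun e (Sum.inr 0)
    simp [hf₁, hf₂, hf₃] at e1 e2 e3
    have hq : q = 0 := e2.resolve_right hc1
    exact ⟨e1, hq, by simpa [hq] using e3⟩
  obtain ⟨P₀, Q₀, hPQ₀, hQP₀, hmap⟩ := exists_inv_map rfl hfi hx
  have hd0 : P₀.det ≠ 0 := fun e => by
    have := congrArg Matrix.det hPQ₀
    rw [det_mul, e, zero_mul, det_one] at this
    exact zero_ne_one this
  obtain ⟨g, hg⟩ : ∃ g, g = Sum.elim (0 : Fin 1 → F) ![1, -(c 0 0 / c 1 0)] := ⟨_, rfl⟩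
  let P := P₀ * (1 + vecMulVec ((P₀.det⁻¹ - 1) • f₃) g)
  have hg3 : g ⬝ᵥ f₃ = 1 := by simp [hg, hf₃]
  have hP : P.det = 1 := by
    simp only [P]
    rw [det_mul, det_one_add_outer, dotProduct_smul, hg3, smul_eq_mul, mul_one, add_sub_cancel, mul_inv_cancel₀ hd0]
  have hPf : ∀ f, g ⬝ᵥ f = 0 → P *ᵥ f = P₀ *ᵥ f := fun f hf => by
    simp only [P]
    rw [← Matrix.mulVec_mulVec, Matrix.add_mulVec, Matrix.one_mulVec, Matrix.vecMulVec_mulVec, hf]
    simp
  have hP1 : P *ᵥ f₁ = G *ᵥ z := by rw [hPf _ (by simp [hg, hf₁])]; exact hmap 0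
  have hP2 : P *ᵥ f₂ = G *ᵥ z - s • z := by
    rw [hPf _ (by simp [hg, hf₂, dotProduct, Fin.sum_univ_two]; field_simp; ring)]; exact hmap 1
  have hP3 : P *ᵥ f₃ = P₀.det⁻¹ • x := by
    simp only [P]
    rw [← Matrix.mulVec_mulVec, Matrix.add_mulVec, Matrix.one_mulVec, Matrix.vecMulVec_mulVec, hg3]
    simp only [MulOpposite.op_one, one_smul]
    rw [show f₃ + (P₀.det⁻¹ - 1) • f₃ = P₀.det⁻¹ • f₃ by module, Matrix.mulVec_smul, show P₀ *ᵥ f₃ = x from hmap 2]
  have hPu : IsUnit P.det := by rw [hP]; exact isUnit_one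
  obtain ⟨u, hu⟩ : ∃ u, u = (P⁻¹ * G * P).toBlocks₂₁ := ⟨_, rfl⟩
  have hu1 : u 1 0 = α₂ * c 1 0 := by
    have e : (P⁻¹ * G * P) *ᵥ f₁ = α₁ • f₁ + α₂ • f₂ + (α₃ * P₀.det) • f₃ := by
      rw [← Matrix.mulVec_mulVec, ← Matrix.mulVec_mulVec, hP1, hG2, ← hP2, ← hP1,
        show x = P₀.det • (P *ᵥ f₃) by rw [hP3, smul_smul, mul_inv_cancel₀ hd0, one_smul]]
      simp only [Matrix.mulVec_add, Matrix.mulVec_smul, Matrix.mulVec_mulVec, Matrix.nonsing_inv_mul _ hPu,
        Matrix.one_mulVec, smul_smul]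
    have := congrFun e (Sum.inr 1)
    simpa [hu, hf₁, hf₂, hf₃, Matrix.toBlocks₂₁, Matrix.mulVec_single_one] using this
  -- the family of bases
  obtain ⟨γ, hγ⟩ : ∃ γ : Matrix (Fin 1) (Fin 2) F, γ = !![1, a] := ⟨_, rfl⟩
  have hγc : γ * c = 0 := by
    ext i j
    obtain rfl : j = 0 := Fin.ext (by omega)
    obtain rfl : i = 0 := Fin.ext (by omega)
    simpa [hγ, Matrix.mul_apply, Fin.sum_univ_two] using hc01.2
  have hQi : Q⁻¹ = !![a⁻¹, 0; -(a ^ 2)⁻¹, a⁻¹] := by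
    refine Matrix.inv_eq_right_inv ?_
    ext i j
    fin_cases i <;> fin_cases j <;> simp [hQ, Matrix.mul_apply, Fin.sum_univ_two] <;> field_simp <;> ring
  obtain ⟨μ, hμ1, hμ2⟩ : ∃ μ : F,
      (((P⁻¹ * G * P).toBlocks₂₂ + μ • (u * γ)) * Q⁻¹).trace ≠ 2 * a ^ 2 ∧
        (((P⁻¹ * G * P).toBlocks₂₂ + μ • (u * γ)) * Q⁻¹).trace ≠ -(2 * a ^ 2) := by
    have htr : ∀ μ : F, (((P⁻¹ * G * P).toBlocks₂₂ + μ • (u * γ)) * Q⁻¹).trace =
        ((P⁻¹ * G * P).toBlocks₂₂ * Q⁻¹).trace + μ * (α₂ * c 1 0) := fun μ => by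
      rw [Matrix.add_mul, Matrix.smul_mul, Matrix.trace_add, Matrix.trace_smul, smul_eq_mul, ← hu1,
        Matrix.trace_fin_two (u * γ * Q⁻¹)]
      congr 2
      simp [hQi, hγ, Matrix.mul_apply, Fin.sum_univ_two, Matrix.vecMul, dotProduct]
      field_simp
      ring
    obtain ⟨τ₀, hτ₀⟩ : ∃ τ₀, τ₀ = ((P⁻¹ * G * P).toBlocks₂₂ * Q⁻¹).trace := ⟨_, rfl⟩
    have hk : α₂ * c 1 0 ≠ 0 := mul_ne_zero hα₂ hc1
    obtain ⟨μ, hμ⟩ := exists_avoid_list [(2 * a ^ 2 - τ₀) / (α₂ * c 1 0), (-(2 * a ^ 2) - τ₀) / (α₂ * c 1 0)]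
      (by simp; omega)
    simp only [List.mem_cons, List.not_mem_nil, or_false, not_or] at hμ
    refine ⟨μ, ?_, ?_⟩ <;> rw [htr, ← hτ₀] <;> intro e
    · exact hμ.1 (by rw [eq_div_iff hk]; linear_combination e)
    · exact hμ.2 (by rw [eq_div_iff hk]; linear_combination e)
  let P' := P * fromBlocks (1 : Matrix (Fin 1) (Fin 1) F) (μ • γ) 0 1
  have hP' : P'.det = 1 := by simp [P', hP]
  have hQP' : P'⁻¹ * P' = 1 := Matrix.nonsing_inv_mul _ (by rw [hP']; exact isUnit_one)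
  have h1' : ∀ i : Fin 1, P' *ᵥ Pi.single (Sum.inl i) 1 = G *ᵥ z := fun i => by
    obtain rfl : i = 0 := Fin.ext (by omega)
    rw [← hP1, hf₁]
    simp only [P', ← Matrix.mulVec_mulVec]
    congr 1
    funext j
    rcases j with j | j <;> simp [Matrix.mulVec_single_one, Matrix.one_apply, Pi.single_apply]
  have h2' : ∀ i : Fin 1, P' *ᵥ Sum.elim (0 : Fin 1 → F) (fun j => c j i) = G *ᵥ z - s • z := fun i => by
    obtain rfl : i = 0 := Fin.ext (by omega)
    rw [← hP2, hf₂]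
    simp only [P', ← Matrix.mulVec_mulVec]
    congr 1
    rw [fromBlocks_mulVec]
    funext j
    rcases j with j | j
    · obtain rfl : j = 0 := Fin.ext (by omega)
      have := congrFun (congrFun hγc 0) 0
      rw [Matrix.mul_apply] at this
      simp [Matrix.mulVec, dotProduct]
      simp only [Matrix.zero_apply] at this
      rw [Fin.sum_univ_two] at this
      linear_combination μ * this
    · simp
  obtain ⟨e21, e11⟩ := form_of_map (G := G) hQP' h1' h2'
  have hinv : P'⁻¹ = fromBlocks 1 (-(μ • γ)) 0 1 * P⁻¹ := by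
    refine Matrix.inv_eq_left_inv ?_
    simp only [P']
    rw [Matrix.mul_assoc, ← Matrix.mul_assoc P⁻¹, Matrix.nonsing_inv_mul _ hPu, Matrix.one_mul, fromBlocks_multiply]
    simp [fromBlocks_one]
  have hT' : (P'⁻¹ * G * P').toBlocks₂₂ = μ • (u * γ) + (P⁻¹ * G * P).toBlocks₂₂ := by
    rw [hinv, show fromBlocks 1 (-(μ • γ)) 0 1 * P⁻¹ * G * P' =
      fromBlocks 1 (-(μ • γ)) 0 1 * ((P⁻¹ * G * P) * fromBlocks 1 (μ • γ) 0 1) by simp only [P', Matrix.mul_assoc]]
    conv_lhs => rw [← fromBlocks_toBlocks (P⁻¹ * G * P), fromBlocks_multiply, fromBlocks_multiply]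
    simp [hu, Matrix.mul_smul]
  obtain ⟨D, hD⟩ : ∃ D, D = (P'⁻¹ * G * P').toBlocks₂₂ * Q⁻¹ := ⟨_, rfl⟩
  have hDd : D.det = a ^ 4 := by
    have hG : (P'⁻¹ * G * P').det = G.det := by
      rw [det_mul, det_mul, mul_comm, ← mul_assoc, ← det_mul, Matrix.mul_nonsing_inv _ (by rw [hP']; exact isUnit_one),
        det_one, one_mul]
    have hE : (fromBlocks (1 : Matrix (Fin 1) (Fin 1) F) 0 (-c) (1 : Matrix (Fin 2) (Fin 2) F)).det = 1 := by simp
    have key : (P'⁻¹ * G * P').det = s * (P'⁻¹ * G * P').toBlocks₂₂.det := by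
      rw [← mul_one (P'⁻¹ * G * P').det, ← hE, ← det_mul]
      conv_lhs => rw [← fromBlocks_toBlocks (P'⁻¹ * G * P'), fromBlocks_multiply]
      simp only [Matrix.mul_one, Matrix.mul_zero, zero_add, Matrix.mul_neg, ← e21, e11, add_neg_cancel,
        add_neg_cancel_right]
      rw [det_fromBlocks_zero₂₁, det_smul, det_one, mul_one, Fintype.card_fin, pow_one]
    rw [hG, hdet, det_fromBlocks_zero₂₁, det_smul, det_one, mul_one, hQd, Fintype.card_fin, hs] at key
    rw [hD, det_mul, Matrix.det_nonsing_inv, hQd, Ring.inverse_eq_inv']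
    field_simp
    exact mul_left_cancel₀ (pow_ne_zero 3 ha) (by linear_combination -key)
  rw [hT', add_comm] at hD
  obtain ⟨l, hl, hsim, hprod, hav⟩ := pa_two ha hDd (hD ▸ hμ1) (hD ▸ hμ2)
  rw [← hQ] at hsim
  have hfin := spa_of_conj hP' hQP' (engine_core ha hL hQu hYc hvinj hsim hav
    (by rw [hprod, hD, Matrix.nonsing_inv_mul_cancel_right _ _ hQu, hT', add_comm]) e21
    (by rw [e11, hl, hs]))
  rw [hl] at hfin
  exact hfin.sprods

end CfsgLib.Known.CoverPSL
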