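import Cfsg.Agent.Lib.Known.CoverPSL.Jordan

/-!
# A scalar from three conjugates

If `S ^ 3 = 1` and `A * S` has scalar cube, then three conjugates of `A` multiply to a scalar.
-/

set_option autoImplicit false
set_option linter.unusedSectionVars false
set_option linter.style.haveILetI false

open Matrix Polynomial CfsgLib.Ore

namespace CfsgLib.Known.CoverPSL

universe u

variable {F : Type u} [Field F]

theorem goodS_of_cube {A S : Matrix (Fin 3) (Fin 3) F} (hS : S.det = 1) (h3 : S * (S * S) = 1) {κ : F}
    (hA : A * S * (A * S * (A * S)) = κ • 1) : GoodS A 3 := by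
  refine ⟨κ, [A, S * A * (S * S), S * S * A * S], rfl, ?_, ?_⟩
  · intro Y hY
    simp only [List.mem_cons, List.not_mem_nil, or_false] at hY
    rcases hY with rfl | rfl | rfl
    · exact Conj1.refl _
    · refine ⟨S, hS, ?_⟩
      rw [Matrix.mul_assoc, Matrix.mul_assoc S S S, h3, Matrix.mul_one]
    · refine ⟨S * S, by rw [det_mul, hS, one_mul], ?_⟩
      rw [Matrix.mul_assoc, h3, Matrix.mul_one]
  · rw [List.prod_cons, List.prod_cons, List.prod_singleton]
    calc A * (S * A * (S * S) * (S * S * A * S)) = A * S * A * (S * (S * S)) * S * A * S := by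
          simp only [Matrix.mul_assoc]
      _ = A * S * (A * S * (A * S)) := by rw [h3, Matrix.mul_one]; simp only [Matrix.mul_assoc]
      _ = κ • 1 := hA

/-- every cyclic class of size three -/
theorem goodS_cubic [Fintype F] (h4 : 4 ≤ Fintype.card F) (f : Fin 3 → F) (hf : f 0 = -1) :
    GoodS (CfsgLib.Ore.comp f) 3 := by
  have key : ∀ f : Fin 3 → F, f 0 = -1 → f 2 ≠ 0 → GoodS (CfsgLib.Ore.comp f) 3 := by
    intro f hf hu
    by_cases hα : ∃ α : F, α ≠ 0 ∧ α ^ 3 + f 1 * f 2 ≠ 0
    · obtain ⟨α, hα0, hα⟩ := hα
      obtain ⟨p, hp⟩ : ∃ p, p = α ^ 2 / f 2 := ⟨_, rfl⟩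
      obtain ⟨q, hq⟩ : ∃ q, q = p + f 1 / α := ⟨_, rfl⟩
      have hp0 : p ≠ 0 := by rw [hp]; exact div_ne_zero (pow_ne_zero _ hα0) hu
      have hq0 : q ≠ 0 := by
        rw [hq, hp]; intro e
        field_simp at e
        exact hα (by linear_combination e)
      obtain ⟨r, hr⟩ : ∃ r, r = (-(f 0) - α * p * f 2) / (p * q) := ⟨_, rfl⟩
      let A : Matrix (Fin 3) (Fin 3) F := !![0, α, r; p, 0, -α; 0, q, -f 2]
      let S : Matrix (Fin 3) (Fin 3) F := !![0, 0, 1; 1, 0, 0; 0, 1, 0]
      have e1 : α * (q - p) = f 1 := by rw [hq]; field_simp; ring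
      have e0 : α * p * f 2 + r * p * q = -(f 0) := by rw [hr]; field_simp; ring
      have hA1 : A *ᵥ ![1, 0, 0] = ![0, p, 0] := by
        ext i; fin_cases i <;> simp [A]
      have hA2 : A *ᵥ ![0, p, 0] = ![α * p, 0, q * p] := by
        ext i; fin_cases i <;> simp [A] <;> ring
      have hA3 : A *ᵥ ![α * p, 0, q * p] = ![r * (q * p), p * (α * p) - α * (q * p), -(f 2) * (q * p)] := by
        ext i; fin_cases i <;> simp [A] <;> ring
      have hcyc : Cyc A ![1, 0, 0] := by
        intro w
        refine ⟨C (w 0 - w 2 / q * α) + C (w 1 / p) * Polynomial.X + C (w 2 / (q * p)) * (Polynomial.X * Polynomial.X), ?_⟩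
        simp only [map_add, map_mul, aeval_C, aeval_X, Algebra.algebraMap_eq_smul_one, Matrix.smul_mul, Matrix.one_mul,
          Matrix.add_mulVec, Matrix.smul_mulVec, Matrix.one_mulVec, ← Matrix.mulVec_mulVec, hA1, hA2]
        ext i; fin_cases i <;> simp <;> field_simp <;> ring
      have hsim : Sim A (CfsgLib.Ore.comp f) := by
        refine sim_comp (by simp) A ![1, 0, 0] hcyc f ?_
        rw [cpoly, Fin.sum_univ_three]
        simp only [Fin.val_zero, Fin.val_one, Fin.val_two, pow_zero, mul_one, pow_one, map_add, map_mul, aeval_C,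
          aeval_X, Algebra.algebraMap_eq_smul_one, Matrix.smul_mul, Matrix.one_mul, pow_succ, Matrix.add_mulVec,
          Matrix.smul_mulVec, Matrix.one_mulVec, ← Matrix.mulVec_mulVec, hA1, hA2, hA3]
        ext i; fin_cases i <;> simp
        all_goals first
          | ring1
          | linear_combination e0
          | linear_combination -p * e1
          | linear_combination (-1 : F) * e0
          | linear_combination p * e1
      refine GoodS.of_sim hsim.symm (goodS_of_cube (S := S) (κ := (A * S).det) ?_ ?_ ?_)
      · simp [S, Matrix.det_fin_three]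
      · ext i j; fin_cases i <;> fin_cases j <;> simp [S, Matrix.mul_apply, Fin.sum_univ_three]
      · have hM : A * S = !![α, r, 0; 0, -α, p; q, -f 2, 0] := by
          ext i j; fin_cases i <;> fin_cases j <;> simp [A, S, Matrix.mul_apply, Fin.sum_univ_three]
        have e2 : p * f 2 = α ^ 2 := by rw [hp]; field_simp
        rw [hM]
        ext i j
        fin_cases i <;> fin_cases j <;> simp [Matrix.det_fin_three]
        all_goals first
          | ring1
          | linear_combination (-α) * e2
          | linear_combination (-r) * e2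
          | linear_combination α * e2
          | linear_combination r * e2
          | linear_combination p * e2
          | linear_combination (-p) * e2
          | linear_combination q * e2
          | linear_combination (-q) * e2
          | linear_combination f 2 * e2
          | linear_combination (-f 2) * e2
    · -- only for four elements: one Jordan block
      push Not at hα
      have h1 := hα 1 one_ne_zero
      have hq : Fintype.card F = 4 := by
        by_contra hne
        obtain ⟨g, hg⟩ := IsCyclic.exists_generator (α := Fˣ)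
        have h3 : g ^ 3 = 1 := by
          refine Units.ext ?_
          have := hα (g : F) g.ne_zero
          push_cast
          linear_combination this - h1
        have hc := Nat.le_of_dvd (by norm_num) (orderOf_dvd_of_pow_eq_one h3)
        rw [orderOf_eq_card_of_forall_mem_zpowers hg, Nat.card_units, Nat.card_eq_fintype_card] at hc
        omega
      have hcube : ∀ x : F, x ≠ 0 → x ^ 3 = 1 := fun x hx => by
        have := FiniteField.pow_card_sub_one_eq_one x hx
        rwa [hq] at this
      haveI : CharP F 2 := by
        obtain ⟨c, hc⟩ := CharP.exists F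
        have h4' : ((4 : ℕ) : F) = 0 := by rw [← hq]; exact FiniteField.cast_card_eq_zero F
        have hdvd : c ∣ 4 := (CharP.cast_eq_zero_iff F c 4).1 h4'
        rcases CharP.char_is_prime_or_zero F c with hp | hp
        · have : c = 2 := (Nat.prime_dvd_prime_iff_eq hp Nat.prime_two).1 (hp.dvd_of_dvd_pow (m := 2) (n := 2) hdvd)
          exact this ▸ hc
        · subst hp; simp at hdvd
      have two : (2 : F) = 0 := CharTwo.two_eq_zero
      have hu3 := hcube (f 2) hu
      obtain ⟨u, hu'⟩ : ∃ u, u = f 2 := ⟨_, rfl⟩
      rw [← hu'] at hu3 h1 hu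
      have hv : f 1 = u ^ 2 := by linear_combination u ^ 2 * h1 - f 1 * hu3 - u ^ 2 * two
      obtain ⟨ζ, hζ⟩ := exists_avoid_list [0, (1 : F)] (by simp; omega)
      simp only [List.mem_cons, List.not_mem_nil, or_false, not_or] at hζ
      have hprim : IsPrimitiveRoot ζ 3 := by
        haveI : Fact (Nat.Prime 3) := ⟨Nat.prime_three⟩
        have e : orderOf ζ = 3 := orderOf_eq_prime (hcube ζ hζ.1) hζ.2
        exact e ▸ IsPrimitiveRoot.orderOf ζ
      have hcp : cpoly f = ∏ _i : Fin 3, (Polynomial.X - C u) := by
        rw [cpoly, Fin.sum_univ_three, Fin.prod_univ_three]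
        simp only [Fin.val_zero, Fin.val_one, Fin.val_two, pow_zero, mul_one, pow_one, hf, hv, ← hu', map_neg, map_one,
          map_pow]
        have t' : (2 : F[X]) = 0 := by rw [← map_ofNat C 2, two, map_zero]
        have u' : (C u : F[X]) ^ 3 = 1 := by rw [← map_pow, hu3, map_one]
        linear_combination u' + (2 * Polynomial.X ^ 2 * C u - Polynomial.X * C u ^ 2) * t'
      have hJ : LTN (u • (1 + lshift F 3)) (fun _ => u) := by
        refine ⟨fun i j hij => ?_, fun i j hij => ?_, fun i => ?_⟩
        · have : (i : ℕ) < j := hij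
          simp [lshift, hij.ne]; omega
        · have : i ≠ j := fun e => by subst e; omega
          simp [lshift, this, hij, hu]
        · simp [lshift]
      refine GoodS.of_sim ?_ (goodS_jordan (n := 3) (by decide) hprim u)
      refine Spl.sim (spl_comp hcp) (hJ.spl fun i j k _ _ _ => rfl) ?_ ?_
      · rw [(spl_comp hcp).det_eq]; simp [hu]
      · rw [(hJ.spl fun i j k _ _ _ => rfl).det_eq]; simp [hu]
  by_cases h2 : f 2 = 0
  · by_cases h1 : f 1 = 0
    · -- the cube is already scalar
      have h3 := CfsgLib.Ore.aeval_comp f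
      rw [cpoly, Fin.sum_univ_three] at h3
      simp only [Fin.val_zero, Fin.val_one, Fin.val_two, pow_zero, mul_one, h1, h2, hf, map_zero, zero_mul, add_zero,
        map_add, map_neg, map_one, map_pow, aeval_X] at h3
      refine goodS_of_cube (S := 1) (κ := 1) det_one (by simp) ?_
      rw [Matrix.mul_one, one_smul, ← Matrix.mul_assoc, ← pow_two, ← pow_succ]
      exact add_neg_eq_zero.1 h3
    · -- the inverse has nonzero trace
      obtain ⟨M, hM⟩ : ∃ M, M = (CfsgLib.Ore.comp f)⁻¹ := ⟨_, rfl⟩
      have hd : (CfsgLib.Ore.comp f).det = 1 := by rw [det_comp, hf]; ring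
      have hu : IsUnit (CfsgLib.Ore.comp f).det := by rw [hd]; exact isUnit_one
      let f' : Fin 3 → F := ![-1, 0, -f 1]
      have hcyc : Cyc M (ev F 3 0) := by
        have := cyc_inv (comp_cyc f) hu.ne_zero one_ne_zero
        rwa [one_smul, ← hM] at this
      have hsim : Sim M (CfsgLib.Ore.comp f') := by
        refine sim_comp (by simp) M _ hcyc f' ?_
        have h3 := CfsgLib.Ore.aeval_comp f
        rw [cpoly, Fin.sum_univ_three] at h3
        simp only [Fin.val_zero, Fin.val_one, Fin.val_two, pow_zero, mul_one, pow_one, h2, hf, map_zero, zero_mul,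
          add_zero, map_add, map_neg, map_one, map_pow, map_mul, aeval_X, aeval_C, Algebra.algebraMap_eq_smul_one,
          Matrix.smul_mul, Matrix.one_mul] at h3
        have hz : aeval M (cpoly f') = 0 := by
          rw [cpoly, Fin.sum_univ_three]
          simp only [f', Matrix.cons_val_zero, Matrix.cons_val_one, Matrix.cons_val, Fin.val_zero, Fin.val_one,
            Fin.val_two, pow_zero, mul_one, pow_one, map_zero, zero_mul, add_zero, map_add, map_neg, map_one, map_pow,
            map_mul, aeval_X, aeval_C, Algebra.algebraMap_eq_smul_one, Matrix.smul_mul, Matrix.one_mul]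
          have hMX : M * CfsgLib.Ore.comp f = 1 := by rw [hM, Matrix.nonsing_inv_mul _ hu]
          have := congrArg (fun Z => M * (M * (M * Z))) h3
          simp only [Matrix.mul_add, Matrix.mul_neg, Matrix.mul_smul, Matrix.mul_one, Matrix.mul_zero, pow_succ,
            pow_zero, Matrix.one_mul, ← Matrix.mul_assoc, hMX] at this ⊢
          simp only [Matrix.neg_mul, Matrix.smul_mul, Matrix.one_mul]
          linear_combination (norm := module) -this
        rw [hz, Matrix.zero_mulVec]
      have hg := GoodS.inv (GoodS.of_sim hsim (key f' rfl (by simpa [f'] using h1)))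
      rwa [hM, Matrix.nonsing_inv_nonsing_inv _ hu] at hg
  · exact key f hf h2

end CfsgLib.Known.CoverPSL
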