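import Cfsg.Agent.Lib.Known.CoverPSL.AlignSmall
import Cfsg.Agent.Lib.Known.CoverPSL.Jordan
import Cfsg.Agent.Lib.Known.CoverPSL.Triple

/-!
# Either every determinant is one of a centraliser, or the exponents have a common divisor

In the second case four factors (three in dimension three) give everything.
-/

set_option autoImplicit false
set_option linter.unusedSectionVars false
set_option linter.style.haveILetI false

open Matrix Polynomial CfsgLib.Ore

namespace CfsgLib.Known.CoverPSL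

universe u

variable {F : Type u} [Field F]
variable {κ : Type*} [Fintype κ] [DecidableEq κ]

/-- the exponents' common divisor -/
theorem exists_exponent [Fintype F] {L : List F[X]} : ∀ M : List F[X], (∀ h ∈ M, h ∈ L ∧ PP h) →
    ∃ g, g ∣ Fintype.card F - 1 ∧ Pow (CfsgLib.Ore.blk L) g ∧
      ∀ h ∈ M, ∃ (p : F[X]) (k : ℕ), p.Monic ∧ Irreducible p ∧ 0 < k ∧ h = p ^ k ∧ g ∣ k
  | [], _ => ⟨_, dvd_rfl, Pow.card _, fun h hh => absurd hh List.not_mem_nil⟩
  | h :: M, hM => by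
    obtain ⟨g, g1, g2, g3⟩ := exists_exponent M fun x hx => hM x (List.mem_cons_of_mem _ hx)
    obtain ⟨hL, -, p, k, hp, hi, hk, e⟩ := hM h List.mem_cons_self
    refine ⟨Nat.gcd k g, (Nat.gcd_dvd_right k g).trans g1,
      (Pow.blk_mem hL (e ▸ pow_primary hp hi k)).gcd g2, fun x hx => ?_⟩
    rcases List.mem_cons.1 hx with rfl | hx
    · exact ⟨p, k, hp, hi, hk, e, Nat.gcd_dvd_left k g⟩
    · obtain ⟨p', k', a1, a2, a3, a4, a5⟩ := g3 x hx
      exact ⟨p', k', a1, a2, a3, a4, (Nat.gcd_dvd_right k g).trans a5⟩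

/-- the data of one block -/
theorem aligned_block {g : ℕ} (hg : 2 ≤ g) {h : F[X]} (h0 : h.coeff 0 ≠ 0) {p : F[X]} {k : ℕ}
    (hp : p.Monic) (hi : Irreducible p) (hk : 0 < k) (e : h = p ^ k) (hgk : g ∣ k) :
    g ∣ h.natDegree ∧ g ≤ h.natDegree ∧ IsPow g (h.coeff 0) ∧
      (h.natDegree < 2 * g → h.natDegree = g ∧ k = g ∧ ∃ a : F, a ≠ 0 ∧ h = (Polynomial.X - C a) ^ g) := by
  obtain ⟨r, rfl⟩ := hgk
  have hd : 0 < p.natDegree := hi.natDegree_pos
  have hn : h.natDegree = g * r * p.natDegree := by rw [e, natDegree_pow]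
  have hr : 0 < r := Nat.pos_of_mul_pos_left hk
  refine ⟨⟨r * p.natDegree, by rw [hn, mul_assoc]⟩, ?_, ⟨p.coeff 0 ^ r, ?_⟩, fun hlt => ?_⟩
  · rw [hn]
    calc g = g * 1 * 1 := by ring
      _ ≤ g * r * p.natDegree := by gcongr <;> omega
  · rw [e, coeff_zero_eq_eval_zero, eval_pow, ← coeff_zero_eq_eval_zero, ← pow_mul, mul_comm g]
  · have h2 : r * p.natDegree < 2 := by
      by_contra h
      have : g * 2 ≤ g * (r * p.natDegree) := Nat.mul_le_mul_left g (by omega)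
      rw [hn, mul_assoc] at hlt
      omega
    have hr1 : r * p.natDegree = 1 := by
      have := Nat.mul_pos hr hd
      omega
    have hrr : r = 1 := Nat.eq_one_of_mul_eq_one_right hr1
    have hd1 : p.natDegree = 1 := Nat.eq_one_of_mul_eq_one_left hr1
    subst hrr
    rw [mul_one] at hn e ⊢
    refine ⟨by rw [hn, hd1, mul_one], rfl, -p.coeff 0, neg_ne_zero.2 fun c0 => h0 ?_, ?_⟩
    · rw [e, coeff_zero_eq_eval_zero, eval_pow, ← coeff_zero_eq_eval_zero, c0, zero_pow (by omega)]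
    · rw [e, map_neg, sub_neg_eq_add]
      conv_lhs => rw [hp.eq_X_add_C hd1]

theorem comp_form {h : F[X]} (hm : h.Monic) (h0 : h.coeff 0 ≠ 0) {m : ℕ} (hd : h.natDegree = m + 2) :
    ∃ c : Fin (m + 2) → F, Sim (CfsgLib.Ore.comp (cof h)) (CfsgLib.Ore.comp c) ∧ c 0 = h.coeff 0 ∧ c 0 ≠ 0 := by
  obtain ⟨c, -, hs, hc⟩ := exists_comp hm hd
  exact ⟨c, hs, hc 0, by rw [hc 0]; exact h0⟩

theorem two_ne_zero_of_dvd [Fintype F] (h : 2 ∣ Fintype.card F - 1) : (2 : F) ≠ 0 := fun e => by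
  have := FiniteField.even_card_of_char_two (F := F) (CharP.ringChar_of_prime_eq_zero Nat.prime_two (by exact_mod_cast e))
  have := Fintype.one_lt_card (α := F)
  omega

/-- every block is harmless -/
theorem harm_of_block [Fintype F] (h4 : 4 ≤ Fintype.card F) {g : ℕ} (hg : 2 ≤ g) (hgq : g ∣ Fintype.card F - 1)
    {h : F[X]} (h0 : h.coeff 0 ≠ 0) {p : F[X]} {k : ℕ} (hp : p.Monic) (hi : Irreducible p) (hk : 0 < k)
    (e : h = p ^ k) (hgk : g ∣ k) : Harm g (Ex g) (CfsgLib.Ore.comp (cof h)) := by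
  obtain ⟨hdvd, hle, hN, hsmall⟩ := aligned_block hg h0 hp hi hk e hgk
  rcases Nat.lt_or_ge h.natDegree 3 with h3 | h3
  · obtain rfl : g = 2 := by omega
    obtain ⟨-, -, a, ha, ea⟩ := hsmall (by omega)
    rw [ea]
    exact harm_two (two_ne_zero_of_dvd hgq) ha _
  · obtain ⟨m, hm⟩ : ∃ m, h.natDegree = m + 2 := ⟨h.natDegree - 2, by omega⟩
    obtain ⟨c, hs, hc0, hne⟩ := comp_form (e ▸ hp.pow k) h0 hm
    exact (harm_block h4 (by omega) (hm ▸ hdvd) c hne (hc0 ▸ hN)).congr hs.symm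

/-- four factors -/
theorem aligned_good [Fintype F] (h4 : 4 ≤ Fintype.card F) {n : ℕ} (hn : 4 ≤ n) {X : Matrix (Fin n) (Fin n) F}
    (hX : X.det ≠ 0) {L : List F[X]} (hs : Sim X (CfsgLib.Ore.blk L)) (hPP : ∀ h ∈ L, PP h) (hsz : sz L = n)
    {g : ℕ} (hg : 2 ≤ g) (hgq : g ∣ Fintype.card F - 1) (hP : Pow X g)
    (hL : ∀ h ∈ L, ∃ (p : F[X]) (k : ℕ), p.Monic ∧ Irreducible p ∧ 0 < k ∧ h = p ^ k ∧ g ∣ k) : Good X 4 := by
  classical
  have hm : ∀ f ∈ L, f.Monic ∧ f.coeff 0 ≠ 0 := fun f hf => ⟨(hPP f hf).monic, (hPP f hf).1⟩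
  have hH : ∀ f ∈ L, Harm g (Ex g) (CfsgLib.Ore.comp (cof f)) := fun f hf => by
    obtain ⟨p, k, a1, a2, a3, a4, a5⟩ := hL f hf
    exact harm_of_block h4 hg hgq (hPP f hf).1 a1 a2 a3 a4 a5
  have hinfo : ∀ f ∈ L, g ∣ f.natDegree ∧ g ≤ f.natDegree ∧ IsPow g (f.coeff 0) ∧
      (f.natDegree < 2 * g → f.natDegree = g ∧ ∃ a : F, a ≠ 0 ∧ f = (Polynomial.X - C a) ^ g) := fun f hf => by
    obtain ⟨p, k, a1, a2, a3, a4, a5⟩ := hL f hf
    obtain ⟨b1, b2, b3, b4⟩ := aligned_block hg (hPP f hf).1 a1 a2 a3 a4 a5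
    exact ⟨b1, b2, b3, fun h => ⟨(b4 h).1, (b4 h).2.2⟩⟩
  have fin : ∀ {P : F → Prop}, Desig g P (CfsgLib.Ore.blk L) → Good X 4 := fun hD =>
    (hD.congr hs.symm).good h4 (by omega) hP hX
  by_cases hbig : ∃ h ∈ L, 2 * g ≤ h.natDegree
  · obtain ⟨h, hh, hd⟩ := hbig
    obtain ⟨b1, -, b3, -⟩ := hinfo h hh
    obtain ⟨m, hm'⟩ : ∃ m, h.natDegree = m + 2 := ⟨h.natDegree - 2, by omega⟩
    obtain ⟨c, hsc, hc0, hne⟩ := comp_form (hm h hh).1 (hm h hh).2 hm'
    exact fin (Desig.blk hh hm ((desig_large h4 hg hgq (by omega) (hm' ▸ b1) c hne (hc0 ▸ b3)).congr hsc.symm) hH)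
  push Not at hbig
  have hroot : ∀ f ∈ L, f.natDegree = g ∧ ∃ a : F, a ≠ 0 ∧ f = (Polynomial.X - C a) ^ g := fun f hf =>
    (hinfo f hf).2.2.2 (hbig f hf)
  by_cases hone : g = 2 ∨ (g = 3 ∧ Fintype.card F = 4)
  · -- two blocks of the least size together
    have hlen : ∃ h₁ h₂ M, L = h₁ :: h₂ :: M := by
      match L, hsz, hroot with
      | [], hsz, _ => simp [sz] at hsz; omega
      | [a], hsz, hr => simp [sz, (hr a List.mem_cons_self).1] at hsz; omega
      | a :: b :: M, _, _ => exact ⟨a, b, M, rfl⟩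
    obtain ⟨h₁, h₂, M, rfl⟩ := hlen
    obtain ⟨m1, a, ha, ea⟩ := hroot h₁ List.mem_cons_self
    obtain ⟨m2, b, hb, eb⟩ := hroot h₂ (List.mem_cons_of_mem _ List.mem_cons_self)
    have hM : ∀ f ∈ M, f ∈ h₁ :: h₂ :: M := fun f hf => List.mem_cons_of_mem _ (List.mem_cons_of_mem _ hf)
    have two : ∀ {P : F → Prop},
        Desig g P (fromBlocks (CfsgLib.Ore.comp (cof h₁)) 0 0 (CfsgLib.Ore.comp (cof h₂))) →
        (∀ f ∈ M, Harm g P (CfsgLib.Ore.comp (cof f))) → Good X 4 := fun {P} hD hHM => by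
      have s2 : Sim (CfsgLib.Ore.blk [h₁, h₂]) (fromBlocks (CfsgLib.Ore.comp (cof h₁)) 0 0 (CfsgLib.Ore.comp (cof h₂))) :=
        (blk_cons h₁ [h₂]).trans ((Sim.refl _).blocks (blk_single h₂))
      refine fin (Desig.congr (Desig.append (hD.congr s2.symm) (Harm.blk M (fun f hf => hm f (hM f hf)) hHM) ?_
        (det_blk_ne fun f hf => hm f (hM f hf))) (blk_append [h₁, h₂] M).symm)
      exact det_blk_ne fun f hf => hm f (by
        simp only [List.mem_cons, List.not_mem_nil, or_false] at hf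
        rcases hf with rfl | rfl <;> simp)
    rcases hone with rfl | ⟨rfl, hq⟩
    · have h5 : 5 ≤ Fintype.card F := by obtain ⟨r, hr⟩ := hgq; omega
      obtain ⟨s, A, H, ρ, hPr, hρ, hT, -, hodd⟩ := two_doubles h5 ha hb
      refine two (P := fun v => v = s) ?_ fun f hf => ?_
      · refine Desig.congr ?_ ((ea ▸ sim_double a).symm.blocks (eb ▸ sim_double b).symm)
        exact ⟨_, A, H, ρ, _, s, hPr, hρ, hT, rfl, Nat.coprime_two_left.2 hodd⟩
      · obtain ⟨-, c, hc, ec⟩ := hroot f (hM f hf)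
        rw [ec]; exact harm_two (two_ne_zero_of_dvd hgq) hc _
    · refine two ?_ fun f hf => hH f (hM f hf)
      obtain ⟨c, sc, c0, cne⟩ := comp_form (hm h₁ (by simp)).1 (hm h₁ (by simp)).2 (show h₁.natDegree = 1 + 2 from m1)
      obtain ⟨d, sd, d0, dne⟩ := comp_form (hm h₂ (by simp)).1 (hm h₂ (by simp)).2 (show h₂.natDegree = 1 + 2 from m2)
      have one_of : ∀ v : F, v ≠ 0 → IsPow 3 v → v = 1 := fun v hv ⟨r, hr⟩ => by
        have := FiniteField.pow_card_sub_one_eq_one r fun e => hv (by rw [hr, e]; simp)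
        rw [hr]; simpa [hq] using this
      exact (desig_three_three hq c d (one_of _ cne (c0 ▸ (hinfo h₁ (by simp)).2.2.1))
        (one_of _ dne (d0 ▸ (hinfo h₂ (by simp)).2.2.1))).congr (sc.symm.blocks sd.symm)
  · push Not at hone
    obtain ⟨h, hh⟩ : ∃ h, h ∈ L := List.exists_mem_of_ne_nil L fun e => by subst e; simp [sz] at hsz; omega
    obtain ⟨hd, -⟩ := hroot h hh
    obtain ⟨-, -, b3, -⟩ := hinfo h hh
    obtain ⟨m, hm'⟩ : ∃ m, h.natDegree = m + 2 := ⟨h.natDegree - 2, by omega⟩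
    obtain ⟨c, hsc, hc0, hne⟩ := comp_form (hm h hh).1 (hm h hh).2 hm'
    refine fin (Desig.blk hh hm ((desig_small h4 hgq (by omega) (by omega) ?_ c hne (hc0 ▸ b3)).congr hsc.symm) hH)
    rcases eq_or_ne g 3 with h3 | h3
    · have := hone.2 h3; exact Or.inl (by omega)
    · exact Or.inr h3

/-- a scalar product in dimension four -/
theorem aligned_scalar_four [Fintype F] (h4 : 4 ≤ Fintype.card F) {X : Matrix (Fin 4) (Fin 4) F}
    (hX : X.det = 1) {L : List F[X]} (hs : Sim X (CfsgLib.Ore.blk L)) (hPP : ∀ h ∈ L, PP h) (hsz : sz L = 4)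
    {g : ℕ} (hg : 2 ≤ g) (hgq : g ∣ Fintype.card F - 1) (hP : Pow X g)
    (hL : ∀ h ∈ L, ∃ (p : F[X]) (k : ℕ), p.Monic ∧ Irreducible p ∧ 0 < k ∧ h = p ^ k ∧ g ∣ k) : GoodS X 4 := by
  classical
  have hd0 : X.det ≠ 0 := by rw [hX]; exact one_ne_zero
  have hdet : (CfsgLib.Ore.blk L).det = 1 := hs.det_eq.symm.trans hX
  have hinfo : ∀ f ∈ L, g ≤ f.natDegree ∧
      (f.natDegree < 2 * g → f.natDegree = g ∧ ∃ a : F, a ≠ 0 ∧ f = (Polynomial.X - C a) ^ g) := fun f hf => by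
    obtain ⟨p, k, a1, a2, a3, a4, a5⟩ := hL f hf
    obtain ⟨-, b2, -, b4⟩ := aligned_block hg (hPP f hf).1 a1 a2 a3 a4 a5
    exact ⟨b2, fun h => ⟨(b4 h).1, (b4 h).2.2⟩⟩
  match L, hsz, hs, hdet, hinfo, hPP, hL with
  | [], hsz, _, _, _, _, _ => simp [sz] at hsz
  | [h], hsz, hs, hdet, _, hPP, hL =>
    have hd : h.natDegree = 2 + 2 := by simpa [sz] using hsz
    obtain ⟨c, hsc, hc0, -⟩ := comp_form (hPP h List.mem_cons_self).monic (hPP h List.mem_cons_self).1 hd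
    obtain ⟨p, k, hp, hi, hk, e, hgk⟩ := hL h List.mem_cons_self
    have hk4 : k ∣ 4 := ⟨p.natDegree, by rw [e, natDegree_pow] at hd; omega⟩
    have hg4 : g = 2 ∨ g = 4 := by
      have := Nat.le_of_dvd (by norm_num) (hgk.trans hk4)
      have := hgk.trans hk4
      interval_cases g <;> simp_all
    have hsim : Sim (CfsgLib.Ore.comp c) X := (hs.trans ((blk_single h).trans hsc)).symm
    refine goodS_single_four h4 hg4 hgq c ?_ hP hd0 hsim
    have := hsim.det_eq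
    rw [det_comp, hX] at this
    norm_num at this
    exact this
  | [h₁, h₂], hsz, hs, hdet, hinfo, _, _ =>
    simp [sz] at hsz
    have i1 := hinfo h₁ List.mem_cons_self
    have i2 := hinfo h₂ (List.mem_cons_of_mem _ List.mem_cons_self)
    obtain rfl : g = 2 := by have := i1.1; have := i2.1; omega
    have := i1.1; have := i2.1
    obtain ⟨-, a, ha, ea⟩ := i1.2 (by omega)
    obtain ⟨-, b, hb, eb⟩ := i2.2 (by omega)
    have h5 : 5 ≤ Fintype.card F := by obtain ⟨r, hr⟩ := hgq; omega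
    have hsim := ((blk_cons h₁ [h₂]).trans ((ea ▸ sim_double a).blocks ((blk_single h₂).trans (eb ▸ sim_double b))))
    refine goodS_two_doubles h5 ha hb ?_ hP hd0 (hsim.symm.trans hs.symm)
    have := hsim.det_eq.symm.trans hdet
    rw [Matrix.det_fromBlocks_zero₁₂, det_comp, det_comp] at this
    simpa using this
  | h₁ :: h₂ :: h₃ :: M, hsz, _, _, hinfo, _, _ =>
    have := (hinfo h₁ (by simp)).1
    have := (hinfo h₂ (by simp)).1
    have := (hinfo h₃ (by simp)).1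
    simp [sz] at hsz
    omega

/-- dimension three: one Jordan block -/
theorem aligned_three [Fintype F] (h4 : 4 ≤ Fintype.card F) {X : Matrix (Fin 3) (Fin 3) F}
    (hX : X.det = 1) {L : List F[X]} (hs : Sim X (CfsgLib.Ore.blk L)) (hPP : ∀ h ∈ L, PP h) (hsz : sz L = 3)
    {g : ℕ} (hg : 2 ≤ g)
    (hL : ∀ h ∈ L, ∃ (p : F[X]) (k : ℕ), p.Monic ∧ Irreducible p ∧ 0 < k ∧ h = p ^ k ∧ g ∣ k) :
    Good X 3 ∧ GoodS X 3 := by
  classical
  have hinfo : ∀ f ∈ L, g ∣ f.natDegree ∧ g ≤ f.natDegree ∧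
      (f.natDegree < 2 * g → f.natDegree = g ∧ ∃ a : F, a ≠ 0 ∧ f = (Polynomial.X - C a) ^ g) := fun f hf => by
    obtain ⟨p, k, a1, a2, a3, a4, a5⟩ := hL f hf
    obtain ⟨b1, b2, -, b4⟩ := aligned_block hg (hPP f hf).1 a1 a2 a3 a4 a5
    exact ⟨b1, b2, fun h => ⟨(b4 h).1, (b4 h).2.2⟩⟩
  obtain ⟨h, rfl⟩ : ∃ h, L = [h] := by
    match L, hsz, hinfo with
    | [], hsz, _ => simp [sz] at hsz
    | [a], _, _ => exact ⟨a, rfl⟩
    | a :: b :: M, hsz, hi =>
      have := (hi a (by simp)).2.1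
      have := (hi b (by simp)).2.1
      simp [sz] at hsz
      omega
  obtain ⟨i1, i2, i3⟩ := hinfo h List.mem_cons_self
  have hd : h.natDegree = 2 + 1 := by simpa [sz] using hsz
  obtain ⟨hg3, a, ha, ea⟩ := i3 (by omega)
  obtain ⟨c, hc, hsc, -⟩ := exists_comp (hPP h List.mem_cons_self).monic hd
  have hsim : Sim X (CfsgLib.Ore.comp c) := hs.trans ((blk_single h).trans hsc)
  have hc0 : c 0 = -1 := by
    have := hsim.det_eq
    rw [det_comp, hX] at this
    norm_num at this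
    linear_combination this
  refine ⟨?_, GoodS.of_sim hsim (goodS_cubic h4 c hc0)⟩
  obtain ⟨T, hT⟩ : ∃ T : Matrix (Fin 3) (Fin 3) F, T = !![a, 0, 0; 1, a, 0; 0, 1, a] := ⟨_, rfl⟩
  have hLT : LTN T (fun _ => a) := by
    refine ⟨fun i j hij => ?_, fun i j hij => ?_, fun i => ?_⟩
    · fin_cases i <;> fin_cases j <;> simp [hT] at hij ⊢
    · fin_cases i <;> fin_cases j <;> simp [hT] at hij ⊢
    · fin_cases i <;> simp [hT]
  have hTs : Spl T (fun _ : Fin 3 => a) := hLT.spl (contig_const a)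
  have hcs : Spl (CfsgLib.Ore.comp c) (fun _ : Fin 3 => a) := spl_comp (by
    rw [hc, ea, Finset.prod_const, Finset.card_univ, Fintype.card_fin, ← hg3, hd])
  have e1 : Sim (CfsgLib.Ore.comp c) T := Spl.sim hcs hTs (by rw [hcs.det_eq]; simp [ha]) (by rw [hTs.det_eq]; simp [ha])
  let e : Fin 1 ⊕ Fin 2 ≃ Fin 3 :=
    { toFun := Sum.elim (fun _ => 2) ![0, 1]
      invFun := ![Sum.inr 0, Sum.inr 1, Sum.inl 0]
      left_inv := by decide
      right_inv := by decide }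
  refine Good.of_sim (hsim.trans (e1.trans ((Sim.reindex T e).trans (Sim.of_eq ?_)))) (good_jordan_three h4 ha)
  ext i j
  rcases i with i | i <;> rcases j with j | j <;> fin_cases i <;> fin_cases j <;> simp [e, hT]

/-- the dichotomy -/
theorem full_or_aligned [Fintype F] (h4 : 4 ≤ Fintype.card F) {n : ℕ} (hn : 3 ≤ n) {X : Matrix (Fin n) (Fin n) F}
    (hX : X.det = 1) (hns : Nonscalar X) : Full X ∨ (Good X n ∧ GoodS X n) := by
  classical
  have hd0 : X.det ≠ 0 := by rw [hX]; exact one_ne_zero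
  obtain ⟨L, hs, hPP, -, hsz⟩ := exists_primary X hd0
  obtain ⟨g, hgq, hP, hL⟩ := exists_exponent (L := L) L fun h hh => ⟨hh, hPP h hh⟩
  have hPX : Pow X g := hP.of_sim hs
  rcases Nat.lt_or_ge g 2 with hg | hg
  · left
    interval_cases g
    · rw [zero_dvd_iff] at hgq; omega
    · exact hPX.full
  right
  have hu : IsUnit X.det := hd0.isUnit
  rcases Nat.lt_or_ge n 4 with hn4 | hn4
  · obtain rfl : n = 3 := by omega
    exact aligned_three h4 hX hs hPP hsz hg hL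
  have h := aligned_good h4 hn4 hd0 hs hPP hsz hg hgq hPX hL
  refine ⟨h.extend hu hns n hn4, ?_⟩
  rcases eq_or_ne n 4 with rfl | hne
  · exact aligned_scalar_four h4 hX hs hPP hsz hg hgq hPX hL
  · obtain ⟨m, rfl⟩ : ∃ m, n = m + 1 := ⟨n - 1, by omega⟩
    exact GoodS.of_good hX hns (h.extend hu hns m (by omega))

end CfsgLib.Known.CoverPSL
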