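import Cfsg.Agent.Lib.Ore.Lists

/-!
# Products of conjugates: language

`Prods X m G`: `G` is a product of `m` matrices similar to `X` (the index types may differ);
`SProds X m G`: a product of `m` conjugates of `X` by matrices of determinant one.
-/

set_option autoImplicit false
set_option linter.unusedSectionVars false
set_option linter.style.haveILetI false

open Matrix CfsgLib.Ore

namespace CfsgLib.Known.CoverPSL

variable {F : Type*} [Field F]
variable {ι κ μ : Type*} [Fintype ι] [DecidableEq ι] [Fintype κ] [DecidableEq κ] [Fintype μ] [DecidableEq μ]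

/-- a conjugate by a matrix of determinant one -/
def Conj1 (X Y : Matrix ι ι F) : Prop := ∃ P : Matrix ι ι F, P.det = 1 ∧ Y * P = P * X

/-- a product of `m` matrices similar to `X` -/
def Prods (X : Matrix κ κ F) (m : ℕ) (G : Matrix ι ι F) : Prop :=
  ∃ l : List (Matrix ι ι F), l.length = m ∧ (∀ Y ∈ l, Sim Y X) ∧ l.prod = G

/-- a product of `m` conjugates by matrices of determinant one -/
def SProds (X : Matrix ι ι F) (m : ℕ) (G : Matrix ι ι F) : Prop :=
  ∃ l : List (Matrix ι ι F), l.length = m ∧ (∀ Y ∈ l, Conj1 X Y) ∧ l.prod = G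

/-- no common eigenvector with eigenvalue `α` -/
def Avoid (α : F) (l : List (Matrix ι ι F)) : Prop :=
  ∀ w : ι → F, (∀ Y ∈ l, Y *ᵥ w = α • w) → w = 0

/-- a product without common eigenvector -/
def PA (X : Matrix κ κ F) (α : F) (m : ℕ) (G : Matrix ι ι F) : Prop :=
  ∃ l : List (Matrix ι ι F), l.length = m ∧ (∀ Y ∈ l, Sim Y X) ∧ l.prod = G ∧ Avoid α l

/-- a product of conjugates by matrices of determinant one, without common eigenvector -/
def SPA (X : Matrix ι ι F) (α : F) (m : ℕ) (G : Matrix ι ι F) : Prop :=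
  ∃ l : List (Matrix ι ι F), l.length = m ∧ (∀ Y ∈ l, Conj1 X Y) ∧ l.prod = G ∧ Avoid α l

/-- centralisers of every determinant -/
def Full (X : Matrix ι ι F) : Prop := ∀ c : F, c ≠ 0 → ∃ D, X * D = D * X ∧ D.det = c

/-- not a scalar matrix -/
def Nonscalar (G : Matrix ι ι F) : Prop := ∀ c : F, G ≠ c • (1 : Matrix ι ι F)

theorem sim_conj {P : Matrix ι κ F} {Q : Matrix κ ι F} (h1 : P * Q = 1) (h2 : Q * P = 1)
    (B : Matrix κ κ F) : Sim (P * B * Q) B :=
  ⟨P, Q, h1, h2, by rw [Matrix.mul_assoc, h2, Matrix.mul_one]⟩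

theorem sim_exists {A : Matrix ι ι F} {B : Matrix κ κ F} (h : Sim A B) :
    ∃ (P : Matrix ι κ F) (Q : Matrix κ ι F), P * Q = 1 ∧ Q * P = 1 ∧ A = P * B * Q := by
  obtain ⟨P, Q, h1, h2, h3⟩ := h
  exact ⟨P, Q, h1, h2, by rw [← h3, Matrix.mul_assoc, h1, Matrix.mul_one]⟩

theorem prod_map_conj {P : Matrix ι κ F} {Q : Matrix κ ι F} (h1 : P * Q = 1) (h2 : Q * P = 1) :
    ∀ l : List (Matrix κ κ F), (l.map fun Y => P * Y * Q).prod = P * l.prod * Q
  | [] => by simp [h1]
  | Y :: l => by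
    rw [List.map_cons, List.prod_cons, List.prod_cons, prod_map_conj h1 h2 l]
    calc P * Y * Q * (P * l.prod * Q) = P * Y * (Q * P) * l.prod * Q := by simp only [Matrix.mul_assoc]
      _ = P * (Y * l.prod) * Q := by rw [h2, Matrix.mul_one]; simp only [Matrix.mul_assoc]

theorem avoid_map_conj {P : Matrix ι κ F} {Q : Matrix κ ι F} (h1 : P * Q = 1) (h2 : Q * P = 1)
    {α : F} {l : List (Matrix κ κ F)} (h : Avoid α l) : Avoid α (l.map fun Y => P * Y * Q) := by
  intro w hw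
  have h0 : Q *ᵥ w = 0 := by
    refine h _ fun Y hY => ?_
    have := congrArg (Q *ᵥ ·) (hw _ (List.mem_map.2 ⟨Y, hY, rfl⟩))
    simp only [Matrix.mulVec_smul, Matrix.mulVec_mulVec] at this
    rw [← Matrix.mul_assoc, ← Matrix.mul_assoc, h2, Matrix.one_mul, ← Matrix.mulVec_mulVec] at this
    exact this
  have := congrArg (P *ᵥ ·) h0
  simpa [Matrix.mulVec_mulVec, h1] using this

theorem Avoid.mono {α : F} {l l' : List (Matrix ι ι F)} (h : Avoid α l) (hs : ∀ Y ∈ l, Y ∈ l') :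
    Avoid α l' := fun w hw => h w fun Y hY => hw Y (hs Y hY)

theorem Prods.congr {X : Matrix κ κ F} {X' : Matrix μ μ F} {m : ℕ} {G : Matrix ι ι F} (h : Prods X m G)
    (e : Sim X X') : Prods X' m G := by
  obtain ⟨l, h1, h2, h3⟩ := h
  exact ⟨l, h1, fun Y hY => (h2 Y hY).trans e, h3⟩

theorem PA.congr {X : Matrix κ κ F} {X' : Matrix μ μ F} {α : F} {m : ℕ} {G : Matrix ι ι F} (h : PA X α m G)
    (e : Sim X X') : PA X' α m G := by
  obtain ⟨l, h1, h2, h3, h4⟩ := h
  exact ⟨l, h1, fun Y hY => (h2 Y hY).trans e, h3, h4⟩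

theorem PA.prods {X : Matrix κ κ F} {α : F} {m : ℕ} {G : Matrix ι ι F} (h : PA X α m G) : Prods X m G := by
  obtain ⟨l, h1, h2, h3, -⟩ := h
  exact ⟨l, h1, h2, h3⟩

theorem SPA.sprods {X : Matrix ι ι F} {α : F} {m : ℕ} {G : Matrix ι ι F} (h : SPA X α m G) : SProds X m G := by
  obtain ⟨l, h1, h2, h3, -⟩ := h
  exact ⟨l, h1, h2, h3⟩

theorem PA.of_sim {X : Matrix μ μ F} {α : F} {m : ℕ} {G : Matrix ι ι F} {G' : Matrix κ κ F} (h : PA X α m G')
    (e : Sim G G') : PA X α m G := by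
  obtain ⟨l, h1, h2, h3, h4⟩ := h
  obtain ⟨P, Q, hPQ, hQP, rfl⟩ := sim_exists e
  refine ⟨l.map fun Y => P * Y * Q, by simp [h1], ?_, by rw [prod_map_conj hPQ hQP, h3], avoid_map_conj hPQ hQP h4⟩
  intro Z hZ
  obtain ⟨Y, hY, rfl⟩ := List.mem_map.1 hZ
  exact (sim_conj hPQ hQP Y).trans (h2 Y hY)

theorem Prods.of_sim {X : Matrix μ μ F} {m : ℕ} {G : Matrix ι ι F} {G' : Matrix κ κ F} (h : Prods X m G')
    (e : Sim G G') : Prods X m G := by
  obtain ⟨l, h1, h2, h3⟩ := h
  obtain ⟨P, Q, hPQ, hQP, rfl⟩ := sim_exists e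
  refine ⟨l.map fun Y => P * Y * Q, by simp [h1], ?_, by rw [prod_map_conj hPQ hQP, h3]⟩
  intro Z hZ
  obtain ⟨Y, hY, rfl⟩ := List.mem_map.1 hZ
  exact (sim_conj hPQ hQP Y).trans (h2 Y hY)

theorem Prods.det_eq {X : Matrix κ κ F} {m : ℕ} {G : Matrix ι ι F} (h : Prods X m G) : G.det = X.det ^ m := by
  obtain ⟨l, rfl, h2, rfl⟩ := h
  induction l with
  | nil => simp
  | cons Y l ih =>
    rw [List.prod_cons, det_mul, ih fun Z hZ => h2 Z (List.mem_cons_of_mem _ hZ),
      (h2 Y List.mem_cons_self).det_eq, List.length_cons, pow_succ']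

theorem PA.cons {X : Matrix κ κ F} {α : F} {m : ℕ} {G Y : Matrix ι ι F} (h : PA X α m G) (hY : Sim Y X) :
    PA X α (m + 1) (Y * G) := by
  obtain ⟨l, h1, h2, h3, h4⟩ := h
  exact ⟨Y :: l, by simp [h1], List.forall_mem_cons.2 ⟨hY, h2⟩, by rw [List.prod_cons, h3],
    h4.mono fun Z hZ => List.mem_cons_of_mem _ hZ⟩

theorem SProds.cons {X : Matrix ι ι F} {m : ℕ} {G Y : Matrix ι ι F} (h : SProds X m G) (hY : Conj1 X Y) :
    SProds X (m + 1) (Y * G) := by
  obtain ⟨l, h1, h2, h3⟩ := h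
  exact ⟨Y :: l, by simp [h1], List.forall_mem_cons.2 ⟨hY, h2⟩, by rw [List.prod_cons, h3]⟩

theorem SProds.mul {X : Matrix ι ι F} {m k : ℕ} {G H : Matrix ι ι F} (h : SProds X m G) (h' : SProds X k H) :
    SProds X (m + k) (G * H) := by
  obtain ⟨l, h1, h2, h3⟩ := h
  obtain ⟨l', h1', h2', h3'⟩ := h'
  exact ⟨l ++ l', by simp [h1, h1'], fun Y hY => (List.mem_append.1 hY).elim (h2 Y) (h2' Y),
    by rw [List.prod_append, h3, h3']⟩

theorem Prods.mul {X : Matrix κ κ F} {m k : ℕ} {G H : Matrix ι ι F} (h : Prods X m G) (h' : Prods X k H) :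
    Prods X (m + k) (G * H) := by
  obtain ⟨l, h1, h2, h3⟩ := h
  obtain ⟨l', h1', h2', h3'⟩ := h'
  exact ⟨l ++ l', by simp [h1, h1'], fun Y hY => (List.mem_append.1 hY).elim (h2 Y) (h2' Y),
    by rw [List.prod_append, h3, h3']⟩

theorem Full.of_sim {A : Matrix ι ι F} {B : Matrix κ κ F} (h : Sim A B) (hB : Full B) : Full A := by
  intro c hc
  obtain ⟨D, hD, hd⟩ := hB c hc
  obtain ⟨P, Q, h1, h2, rfl⟩ := sim_exists h
  refine ⟨P * D * Q, ?_, by rw [det_conj_rect h1 h2, hd]⟩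
  calc P * B * Q * (P * D * Q) = P * B * (Q * P) * D * Q := by simp only [Matrix.mul_assoc]
    _ = P * (D * B) * Q := by rw [h2, Matrix.mul_one, Matrix.mul_assoc P B D, hD]
    _ = P * D * (Q * P) * B * Q := by rw [h2, Matrix.mul_one]; simp only [Matrix.mul_assoc]
    _ = P * D * Q * (P * B * Q) := by simp only [Matrix.mul_assoc]

theorem Conj1.sim {X Y : Matrix ι ι F} (h : Conj1 X Y) : Sim Y X := by
  obtain ⟨P, hd, hP⟩ := h
  have hu : IsUnit P.det := by rw [hd]; exact isUnit_one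
  exact ⟨P, P⁻¹, Matrix.mul_nonsing_inv _ hu, Matrix.nonsing_inv_mul _ hu, hP⟩

theorem Full.conj1 {X Y : Matrix ι ι F} (hX : Full X) (h : Sim Y X) : Conj1 X Y := by
  obtain ⟨P, Q, h1, h2, h3⟩ := h
  have hne : P.det ≠ 0 := fun h0 => by
    have := congrArg Matrix.det h1
    rw [det_mul, h0, zero_mul, det_one] at this
    exact zero_ne_one this
  obtain ⟨D, hD, hd⟩ := hX _ (inv_ne_zero hne)
  refine ⟨P * D, by rw [det_mul, hd, mul_inv_cancel₀ hne], ?_⟩
  rw [← Matrix.mul_assoc, h3, Matrix.mul_assoc, hD, Matrix.mul_assoc]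

theorem Prods.sprods {X G : Matrix ι ι F} {m : ℕ} (h : Prods X m G) (hX : Full X) : SProds X m G := by
  obtain ⟨l, h1, h2, h3⟩ := h
  exact ⟨l, h1, fun Y hY => hX.conj1 (h2 Y hY), h3⟩

theorem Conj1.refl (X : Matrix ι ι F) : Conj1 X X := ⟨1, det_one, by rw [Matrix.mul_one, Matrix.one_mul]⟩

/-- conjugating by one matrix keeps the determinants of the conjugators -/
theorem Conj1.map {X Y : Matrix ι ι F} (h : Conj1 X Y) {P : Matrix κ ι F} {Q : Matrix ι κ F} (h1 : P * Q = 1)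
    (h2 : Q * P = 1) : Conj1 (P * X * Q) (P * Y * Q) := by
  obtain ⟨R, hR, hY⟩ := h
  refine ⟨P * R * Q, by rw [det_conj_rect h1 h2, hR], ?_⟩
  calc P * Y * Q * (P * R * Q) = P * Y * (Q * P) * R * Q := by simp only [Matrix.mul_assoc]
    _ = P * (R * X) * Q := by rw [h2, Matrix.mul_one, Matrix.mul_assoc P Y R, hY]
    _ = P * R * (Q * P) * X * Q := by rw [h2, Matrix.mul_one]; simp only [Matrix.mul_assoc]
    _ = P * R * Q * (P * X * Q) := by simp only [Matrix.mul_assoc]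

theorem SProds.map {X G : Matrix ι ι F} {m : ℕ} (h : SProds X m G) {P : Matrix κ ι F} {Q : Matrix ι κ F}
    (h1 : P * Q = 1) (h2 : Q * P = 1) : SProds (P * X * Q) m (P * G * Q) := by
  obtain ⟨l, hl, hc, hp⟩ := h
  refine ⟨l.map fun Y => P * Y * Q, by simp [hl], ?_, by rw [prod_map_conj h1 h2, hp]⟩
  intro Z hZ
  obtain ⟨Y, hY, rfl⟩ := List.mem_map.1 hZ
  exact (hc Y hY).map h1 h2

theorem Conj1.trans {X Y Z : Matrix ι ι F} (h : Conj1 X Y) (h' : Conj1 Y Z) : Conj1 X Z := by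
  obtain ⟨P, hP, hY⟩ := h
  obtain ⟨R, hR, hZ⟩ := h'
  refine ⟨R * P, by rw [det_mul, hR, hP, mul_one], ?_⟩
  rw [← Matrix.mul_assoc, hZ, Matrix.mul_assoc, hY, Matrix.mul_assoc]

/-- if one of two similar factors has a full centraliser, a pair adjusts to it -/
theorem SProds.of_full {X Z S : Matrix ι ι F} {m : ℕ} (h : SProds X m Z) (hS : Sim S Z) (hZ : Full Z) :
    SProds X m S := by
  obtain ⟨P, hP, hSP⟩ := hZ.conj1 hS
  have hu : IsUnit P.det := by rw [hP]; exact isUnit_one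
  have h1 := Matrix.mul_nonsing_inv _ hu
  have h2 := Matrix.nonsing_inv_mul _ hu
  have hG : P * Z * P⁻¹ = S := by rw [← hSP, Matrix.mul_assoc, h1, Matrix.mul_one]
  have hX : Conj1 X (P * X * P⁻¹) := ⟨P, hP, by rw [Matrix.mul_assoc, h2, Matrix.mul_one]⟩
  obtain ⟨l, hl, hc, hp⟩ := h.map h1 h2
  exact ⟨l, hl, fun Y hY => hX.trans (hc Y hY), hp.trans hG⟩

theorem Nonscalar.of_sim {A : Matrix ι ι F} {B : Matrix κ κ F} (h : Sim A B) (hB : Nonscalar B) : Nonscalar A := by
  intro c hc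
  obtain ⟨P, Q, h1, h2, h3⟩ := h
  refine hB c ?_
  calc B = Q * P * B := by rw [h2, Matrix.one_mul]
    _ = Q * (A * P) := by rw [Matrix.mul_assoc, h3]
    _ = c • 1 := by rw [hc, Matrix.smul_mul, Matrix.one_mul, Matrix.mul_smul, h2]

theorem Sim.smul {A : Matrix ι ι F} {B : Matrix κ κ F} (h : Sim A B) (t : F) : Sim (t • A) (t • B) := by
  obtain ⟨P, Q, h1, h2, h3⟩ := h
  exact ⟨P, Q, h1, h2, by rw [Matrix.smul_mul, h3, Matrix.mul_smul]⟩

theorem Conj1.smul {X Y : Matrix ι ι F} (h : Conj1 X Y) (t : F) : Conj1 (t • X) (t • Y) := by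
  obtain ⟨P, hP, hY⟩ := h
  exact ⟨P, hP, by rw [Matrix.smul_mul, hY, Matrix.mul_smul]⟩

theorem list_prod_smul (t : F) : ∀ l : List (Matrix ι ι F), (l.map (t • ·)).prod = t ^ l.length • l.prod
  | [] => by simp
  | Y :: l => by
    rw [List.map_cons, List.prod_cons, list_prod_smul t l, List.prod_cons, List.length_cons, Matrix.smul_mul,
      Matrix.mul_smul, smul_smul, ← pow_succ']

theorem SProds.smul {X G : Matrix ι ι F} {m : ℕ} (h : SProds X m G) (t : F) : SProds (t • X) m (t ^ m • G) := by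
  obtain ⟨l, h1, h2, h3⟩ := h
  refine ⟨l.map (t • ·), by simp [h1], ?_, by rw [list_prod_smul, h1, h3]⟩
  intro Z hZ
  obtain ⟨Y, hY, rfl⟩ := List.mem_map.1 hZ
  exact (h2 Y hY).smul t

/-- a nonscalar matrix has two conjugates which are not proportional -/
theorem exists_conj1_not_smul {X : Matrix ι ι F} (hX : IsUnit X.det) (hns : Nonscalar X) :
    ∃ Y, Conj1 X Y ∧ ∀ c : F, Y ≠ c • X := by
  by_contra hno
  push Not at hno
  obtain ⟨r, hr⟩ : X ∈ Set.range (Matrix.scalar ι) := by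
    refine Matrix.mem_range_scalar_of_commute_transvectionStruct fun t => ?_
    have hu : IsUnit t.toMatrix.det := by rw [t.det]; exact isUnit_one
    obtain ⟨c, hc⟩ := hno (t.toMatrix * X * t.toMatrix⁻¹)
      ⟨t.toMatrix, t.det, by rw [Matrix.mul_assoc, Matrix.nonsing_inv_mul _ hu, Matrix.mul_one]⟩
    have e1 : t.toMatrix * X = c • (X * t.toMatrix) := by
      rw [← Matrix.smul_mul, ← hc, Matrix.mul_assoc, Matrix.nonsing_inv_mul _ hu, Matrix.mul_one]
    -- `X⁻¹ τ X = c τ`, so `c τ - 1` squares to zero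
    have e2 : X⁻¹ * (t.toMatrix - 1) * X = c • t.toMatrix - 1 := by
      rw [Matrix.mul_sub, Matrix.sub_mul, Matrix.mul_one, Matrix.nonsing_inv_mul _ hX, Matrix.mul_assoc, e1,
        Matrix.mul_smul, ← Matrix.mul_assoc, Matrix.nonsing_inv_mul _ hX, Matrix.one_mul]
    have hE : t.toMatrix - 1 = Matrix.single t.i t.j t.c := by
      rw [TransvectionStruct.toMatrix, Matrix.transvection, add_sub_cancel_left]
    have hEE : Matrix.single t.i t.j t.c * Matrix.single t.i t.j t.c = (0 : Matrix ι ι F) :=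
      Matrix.single_mul_single_of_ne _ _ _ _ (fun e => t.hij e.symm) _
    have e3 : (c • t.toMatrix - 1) * (c • t.toMatrix - 1) = 0 := by
      rw [← e2, hE]
      calc X⁻¹ * Matrix.single t.i t.j t.c * X * (X⁻¹ * Matrix.single t.i t.j t.c * X)
          = X⁻¹ * Matrix.single t.i t.j t.c * (X * X⁻¹) * Matrix.single t.i t.j t.c * X := by
            simp only [Matrix.mul_assoc]
        _ = 0 := by
            rw [Matrix.mul_nonsing_inv _ hX, Matrix.mul_one, Matrix.mul_assoc X⁻¹, hEE, Matrix.mul_zero,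
              Matrix.zero_mul]
    have ht : t.toMatrix = 1 + Matrix.single t.i t.j t.c := by rw [← hE, add_sub_cancel]
    have e4 : c = 1 := by
      have hexp : (c • t.toMatrix - 1) * (c • t.toMatrix - 1) =
          (c - 1) ^ 2 • (1 : Matrix ι ι F) + (2 * c * (c - 1)) • Matrix.single t.i t.j t.c := by
        rw [ht, show c • (1 + Matrix.single t.i t.j t.c) - 1 =
          (c - 1) • (1 : Matrix ι ι F) + c • Matrix.single t.i t.j t.c by
            rw [smul_add, sub_smul, one_smul]; abel]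
        rw [Matrix.add_mul, Matrix.mul_add, Matrix.mul_add, Matrix.smul_mul, Matrix.smul_mul, Matrix.smul_mul,
          Matrix.smul_mul, Matrix.mul_smul, Matrix.mul_smul, Matrix.mul_smul, Matrix.mul_smul, Matrix.one_mul,
          Matrix.one_mul, Matrix.mul_one, hEE, smul_zero, smul_zero, add_zero]
        module
      have := congrFun (congrFun (e3.symm.trans hexp) t.i) t.i
      simp [t.hij.symm] at this
      exact sub_eq_zero.1 (pow_eq_zero_iff two_ne_zero |>.1 this.symm)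
    rw [e4, one_smul] at e1
    exact e1
  exact hns r (by rw [← hr]; ext i j; simp [Matrix.diagonal, Matrix.one_apply])

/-- lengthen by one conjugate, keeping the rest nonscalar -/
theorem exists_rest {X G : Matrix ι ι F} (hX : IsUnit X.det) (hns : Nonscalar X) (hG : G.det ≠ 0) :
    ∃ Y G', Conj1 X Y ∧ Nonscalar G' ∧ G = Y * G' := by
  obtain ⟨Y, hY, hne⟩ := exists_conj1_not_smul hX hns
  have hYu : IsUnit Y.det := by rw [hY.sim.det_eq]; exact hX
  by_cases h : Nonscalar (X⁻¹ * G)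
  · exact ⟨X, X⁻¹ * G, Conj1.refl X, h, by rw [← Matrix.mul_assoc, Matrix.mul_nonsing_inv _ hX, Matrix.one_mul]⟩
  refine ⟨Y, Y⁻¹ * G, hY, fun d hd => ?_, by rw [← Matrix.mul_assoc, Matrix.mul_nonsing_inv _ hYu, Matrix.one_mul]⟩
  simp only [Nonscalar, not_forall, not_not] at h
  obtain ⟨c, hc⟩ := h
  have e1 : G = c • X := by
    rw [← Matrix.one_mul G, ← Matrix.mul_nonsing_inv _ hX, Matrix.mul_assoc, hc, Matrix.mul_smul, Matrix.mul_one]
  have e2 : G = d • Y := by
    rw [← Matrix.one_mul G, ← Matrix.mul_nonsing_inv _ hYu, Matrix.mul_assoc, hd, Matrix.mul_smul, Matrix.mul_one]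
  rcases eq_or_ne d 0 with rfl | hd0
  · haveI : Nonempty ι := by
      by_contra hι
      haveI : IsEmpty ι := not_nonempty_iff.1 hι
      exact hns 0 (Subsingleton.elim _ _)
    exact hG (by rw [e2, zero_smul, Matrix.det_zero])
  · refine hne (d⁻¹ * c) ?_
    rw [← smul_smul, ← e1, e2, smul_smul, inv_mul_cancel₀ hd0, one_smul]

/-- extend a bound on products of similar matrices to longer products -/
theorem pa_extend {X : Matrix ι ι F} (hX : IsUnit X.det) (hns : Nonscalar X) {α : F} {m₀ : ℕ}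
    (h : ∀ G : Matrix ι ι F, Nonscalar G → G.det = X.det ^ m₀ → PA X α m₀ G) :
    ∀ m, m₀ ≤ m → ∀ G : Matrix ι ι F, Nonscalar G → G.det = X.det ^ m → PA X α m G := by
  intro m hm
  induction m, hm using Nat.le_induction with
  | base => exact h
  | succ m _ ih =>
    intro G _ hd
    obtain ⟨Y, G', hY, hG', rfl⟩ := exists_rest (G := G) hX hns (by rw [hd]; exact pow_ne_zero _ hX.ne_zero)
    refine (ih G' hG' ?_).cons hY.sim
    rw [det_mul, hY.sim.det_eq, pow_succ'] at hd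
    exact mul_left_cancel₀ hX.ne_zero hd

end CfsgLib.Known.CoverPSL
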