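import Cfsg.Agent.Lib.Known.CoverPSL.Products

/-!
# Normal forms, and pairs for lists of blocks
-/

set_option autoImplicit false
set_option linter.unusedSectionVars false
set_option linter.style.haveILetI false

open Matrix Polynomial CfsgLib.Ore

namespace CfsgLib.Known.CoverPSL

universe u

variable {F : Type u} [Field F]
variable {ι κ μ : Type*} [Fintype ι] [DecidableEq ι] [Fintype κ] [DecidableEq κ] [Fintype μ] [DecidableEq μ]

/-- a block usable with the parameter `t` -/
def Admiss (t : F) (g : F[X]) : Prop :=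
  g.Monic ∧ g.coeff 0 ≠ 0 ∧ (3 ≤ g.natDegree ∨ g.natDegree = 2 ∧
    (g.eval t = 0 ∨ ∀ a, g.eval a = 0 → a ^ 2 = g.coeff 0 ∨ a ^ 2 = -g.coeff 0))

/-- a pair for `X` whose left common eigenvectors have eigenvalues `t` -/
def PairData (t : F) (X : Matrix κ κ F) : Prop :=
  ∃ (n : ℕ) (A H : Matrix (Fin n) (Fin n) F) (ρ : F) (β : Fin n → F),
    HasPair X ρ A H ∧ TPair A H β ∧ LeftIn t A H

/-- a pair as before which moreover has no common eigenvector with eigenvalues `t` -/
def PairDataR (t : F) (X : Matrix κ κ F) : Prop :=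
  ∃ (n : ℕ) (A H : Matrix (Fin n) (Fin n) F) (ρ : F) (β : Fin n → F),
    HasPair X ρ A H ∧ TPair A H β ∧ LeftIn t A H ∧ NoR t A H

theorem PairDataR.data {t : F} {X : Matrix κ κ F} (h : PairDataR t X) : PairData t X := by
  obtain ⟨n, A, H, ρ, β, h1, h2, h3, -⟩ := h
  exact ⟨n, A, H, ρ, β, h1, h2, h3⟩

theorem PairData.congr {t : F} {X : Matrix κ κ F} {Y : Matrix μ μ F} (h : PairData t X) (e : Sim X Y) :
    PairData t Y := by
  obtain ⟨n, A, H, ρ, β, h1, h2, h3⟩ := h
  exact ⟨n, A, H, ρ, β, h1.congr e, h2, h3⟩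

theorem PairDataR.congr {t : F} {X : Matrix κ κ F} {Y : Matrix μ μ F} (h : PairDataR t X) (e : Sim X Y) :
    PairDataR t Y := by
  obtain ⟨n, A, H, ρ, β, h1, h2, h3, h4⟩ := h
  exact ⟨n, A, H, ρ, β, h1.congr e, h2, h3, h4⟩

theorem PairData.append [Fintype F] {t : F} {X : Matrix κ κ F} {Y : Matrix μ μ F} (hX : PairDataR t X)
    (hY : PairData t Y) (hd : X.det ≠ 0) : PairData t (fromBlocks X 0 0 Y) := by
  obtain ⟨d, A₁, H₁, ρ₁, β₁, p1, T1, L1, N1⟩ := hX
  obtain ⟨n, A₂, H₂, ρ₂, β₂, p2, T2, L2⟩ := hY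
  obtain ⟨A, H, p, T, -, hL⟩ := link p1 p2 T1 T2 hd fun a b w f hw e1 e2 hf e3 e4 => by
    obtain ⟨rfl, rfl⟩ := L2 a b f hf e3 e4
    exact hw (N1 w e1 e2)
  exact ⟨_, A, H, _, _, p, T, hL t L1 L2⟩

theorem PairDataR.append [Fintype F] {t : F} {X : Matrix κ κ F} {Y : Matrix μ μ F} (hX : PairDataR t X)
    (hY : PairDataR t Y) (hd : X.det ≠ 0) : PairDataR t (fromBlocks X 0 0 Y) := by
  obtain ⟨d, A₁, H₁, ρ₁, β₁, p1, T1, L1, N1⟩ := hX
  obtain ⟨n, A₂, H₂, ρ₂, β₂, p2, T2, L2, N2⟩ := hY
  obtain ⟨A, H, p, T, hN, hL⟩ := link p1 p2 T1 T2 hd fun a b w f hw e1 e2 hf e3 e4 => by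
    obtain ⟨rfl, rfl⟩ := L2 a b f hf e3 e4
    exact hw (N1 w e1 e2)
  exact ⟨_, A, H, _, _, p, T, hL t L1 L2, hN t N1 N2⟩

theorem exists_comp {g : F[X]} (hg : g.Monic) {m : ℕ} (hm : g.natDegree = m) :
    ∃ c : Fin m → F, cpoly c = g ∧ Sim (CfsgLib.Ore.comp (cof g)) (CfsgLib.Ore.comp c) ∧
      ∀ i : Fin m, c i = g.coeff i := by
  subst hm
  exact ⟨cof g, cpoly_cof hg, Sim.refl _, fun i => rfl⟩

/-- equal values are adjacent in `h, s, y, …, y` -/
theorem contig_block {m : ℕ} {h : F} {s : Fin (m + 1) → F} {y : F} (hy : ∀ j, j ≠ 0 → s j = y)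
    (hbad : h ≠ y ∨ s 0 = y) : Contig (Fin.cons h s : Fin (m + 2) → F) := by
  intro i j k
  induction i using Fin.cases with
  | zero =>
    induction j using Fin.cases with
    | zero => exact fun _ _ _ => rfl
    | succ j =>
      induction k using Fin.cases with
      | zero => exact fun _ hjk => absurd hjk (not_le.2 (Fin.succ_pos _))
      | succ k =>
        intro _ hjk e
        simp only [Fin.cons_zero, Fin.cons_succ] at e ⊢
        by_cases hj : j = 0
        · subst hj
          by_cases hk : k = 0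
          · subst hk; exact e.symm
          · rw [hy k hk] at e
            exact (hbad.resolve_left (not_not.2 e)).trans e.symm
        · have hk : k ≠ 0 := by
            intro hk; subst hk
            exact hj (le_antisymm (Fin.succ_le_succ_iff.1 hjk) (Fin.zero_le _))
          rw [hy j hj]; rw [hy k hk] at e
          exact e.symm
  | succ i =>
    induction j using Fin.cases with
    | zero => exact fun hij => absurd hij (not_le.2 (Fin.succ_pos _))
    | succ j =>
      induction k using Fin.cases with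
      | zero => exact fun _ hjk => absurd hjk (not_le.2 (Fin.succ_pos _))
      | succ k =>
        intro hij hjk e
        simp only [Fin.cons_succ] at e ⊢
        rw [Fin.succ_le_succ_iff] at hij hjk
        by_cases hj : j = 0
        · subst hj
          rw [le_antisymm hij (Fin.zero_le _)]
        · have hk : k ≠ 0 := fun hk => hj (le_antisymm (hk ▸ hjk) (Fin.zero_le _))
          by_cases hi : i = 0
          · subst hi; rw [hy j hj, e, hy k hk]
          · rw [hy j hj, hy i hi]

theorem contig_two (β : Fin 2 → F) : Contig β := fun i j k hij hjk e => by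
  rcases eq_or_ne i j with rfl | hne
  · rfl
  · have : j = k := by
      have h1 : (i : ℕ) ≠ j := fun h => hne (Fin.ext h)
      have h2 : (i : ℕ) ≤ j := hij
      have h3 : (j : ℕ) ≤ k := hjk
      have := k.2
      exact Fin.ext (by omega)
    subst this
    exact e.symm

/-- the tail values of a block of size at least three, the head avoiding a given value -/
theorem exists_tail [Fintype F] (h4 : 4 ≤ Fintype.card F) {m : ℕ} (hm : 1 ≤ m) {δ : F} (hδ : δ ≠ 0) (b : F) :
    ∃ (s : Fin (m + 1) → F) (y : F), (∀ j, s j ≠ 0) ∧ (∀ j, j ≠ 0 → s j = y) ∧ (m = 1 → s 0 = y) ∧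
      δ ^ 2 * ∏ j, (s j)⁻¹ ≠ b ∧ (δ ^ 2 * ∏ j, (s j)⁻¹ ≠ y ∨ s 0 = y) := by
  by_cases hex : ∃ y : F, y ≠ 0 ∧ δ ^ 2 * (y⁻¹) ^ (m + 1) ≠ b
  · obtain ⟨y, hy, hyb⟩ := hex
    exact ⟨fun _ => y, y, fun _ => hy, fun _ _ => rfl, fun _ => rfl, by simpa using hyb, Or.inr rfl⟩
  push Not at hex
  have hb : δ ^ 2 = b := by simpa using hex 1 one_ne_zero
  have hm2 : m ≠ 1 := by
    rintro rfl
    -- otherwise every nonzero element squares to one
    classical
    obtain ⟨y, hy⟩ := exists_avoid_list ([0, 1, -1] : List F) (by simp; omega)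
    simp only [List.mem_cons, List.not_mem_nil, or_false, not_or] at hy
    have h2 : y⁻¹ ^ 2 = 1 := by
      have := hex y hy.1
      rw [← hb] at this
      exact mul_left_cancel₀ (pow_ne_zero 2 hδ) (this.trans (mul_one _).symm)
    have : (y - 1) * (y + 1) = 0 := by
      have h3 : y ^ 2 = 1 := by rw [inv_pow, inv_eq_one] at h2; exact h2
      linear_combination h3
    rcases mul_eq_zero.1 this with h | h
    · exact hy.2.1 (sub_eq_zero.1 h)
    · exact hy.2.2 (eq_neg_of_add_eq_zero_left h)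
  obtain ⟨s, hs⟩ := exists_avoid_list [0, 1, b] (by simp; omega)
  simp only [List.mem_cons, List.not_mem_nil, or_false, not_or] at hs
  obtain ⟨hs0, hs1, hsb⟩ := hs
  have hprod : ∏ j : Fin (m + 1), (if j = 0 then s else (1 : F))⁻¹ = s⁻¹ := by
    rw [Fin.prod_univ_succ]; simp [Fin.succ_ne_zero]
  refine ⟨fun j => if j = 0 then s else 1, 1, fun j => ?_, fun j hj => if_neg hj, fun h => absurd h hm2, ?_, ?_⟩
  · dsimp only; split_ifs
    · exact hs0
    · exact one_ne_zero
  · rw [hprod, hb]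
    intro e
    have hb0 : b ≠ 0 := hb ▸ pow_ne_zero 2 hδ
    field_simp at e
    exact hs1 e.symm
  · refine Or.inl ?_
    rw [hprod, hb]
    intro e
    field_simp at e
    exact hsb e.symm

/-- a pair for one block -/
theorem pairDataR_block [Fintype F] (h4 : 4 ≤ Fintype.card F) {t : F} {g : F[X]} (h : Admiss t g) :
    PairDataR t (CfsgLib.Ore.comp (cof g)) := by
  obtain ⟨hg, hg0, hdeg⟩ := h
  obtain ⟨m, hm⟩ : ∃ m, g.natDegree = m + 2 := ⟨g.natDegree - 2, by omega⟩
  obtain ⟨c, hcg, hsim, hci⟩ := exists_comp hg hm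
  have hc0 : c 0 = g.coeff 0 := hci 0
  have hc : c 0 ≠ 0 := hc0 ▸ hg0
  refine PairDataR.congr ?_ hsim.symm
  -- it is enough to choose the values
  suffices key : ∃ s : Fin (m + 1) → F, (∀ j, s j ≠ 0) ∧ Contig (blockVals c s) ∧ (m = 0 → s 0 ^ 2 ≠ c 0 ^ 2) ∧
      ((cpoly c).eval t = 0 → blockVals c s 0 ≠ t * t) ∧
      (m ≠ 0 → ∃ j : Fin (m + 1), j ≠ Fin.last m ∧ s j = s (Fin.last m)) ∧
      (m = 0 → ∀ a, a ^ 2 + c (Fin.last _) * a + c 0 = 0 → s 0 = a ^ 2 → a = t) by
    obtain ⟨s, hs, hcon, h2, hR, hbig, hL⟩ := key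
    obtain ⟨A, H, hP, hT, hr, hl⟩ := exists_block (le_trans (by norm_num) h4) c hc s hs (Or.inl hcon) h2
    refine ⟨_, A, H, _, _, hP, hT, fun a b f hf hA hH => ?_, fun w hA hH => ?_⟩
    · obtain ⟨h1, -, h1'⟩ := hl a b f hf hA hH
      rcases Nat.eq_zero_or_pos m with hm0 | hm0
      · obtain ⟨e1, e2, e3⟩ := h1' hm0
        have ha := hL hm0 a e1 e2
        exact ⟨ha, e3.trans ha⟩
      · obtain ⟨j, hj, e⟩ := hbig hm0.ne'
        exact absurd e (h1 j hj)
    · by_contra hw
      obtain ⟨P, Q, p1, p2, p3⟩ := hP.sim.1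
      have hroot : (cpoly c).eval t = 0 := by
        refine root_of_eigvec (w := Q *ᵥ w) (fun e => hw ?_) ?_
        · have := congrArg (P *ᵥ ·) e
          simpa [Matrix.mulVec_mulVec, p1] using this
        · have : CfsgLib.Ore.comp c * Q = Q * A := by
            calc CfsgLib.Ore.comp c * Q = Q * (P * CfsgLib.Ore.comp c) * Q := by
                  rw [← Matrix.mul_assoc, p2, Matrix.one_mul]
              _ = Q * A := by rw [← p3, Matrix.mul_assoc, Matrix.mul_assoc A, p1, Matrix.mul_one]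
          rw [Matrix.mulVec_mulVec, this, ← Matrix.mulVec_mulVec, hA, Matrix.mulVec_smul]
      exact hR hroot (hr t t w hw hA hH)
  rcases Nat.eq_zero_or_pos m with rfl | hm1
  · -- blocks of size two
    have hdeg2 : g.eval t = 0 ∨ ∀ a, g.eval a = 0 → a ^ 2 = g.coeff 0 ∨ a ^ 2 = -g.coeff 0 :=
      (hdeg.resolve_left (by omega)).2
    have heval : ∀ a, (cpoly c).eval a = a ^ 2 + c (Fin.last 1) * a + c 0 := fun a => by
      rw [cpoly_eval, Fin.sum_univ_two]
      simp only [Fin.val_zero, Fin.val_one, pow_zero, mul_one, pow_one]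
      rw [show Fin.last 1 = (1 : Fin 2) from rfl]
      ring
    rw [← hcg] at hdeg2
    rw [hcg, ← hc0] at hdeg2
    have hblock : ∀ s : Fin 1 → F, blockVals c s 0 = c 0 ^ 2 * (s 0)⁻¹ := fun s => by simp [blockVals]
    by_cases hsplit : (cpoly c).eval t = 0 ∧ t ^ 2 ≠ c 0 ∧ t ^ 2 ≠ -c 0
    · obtain ⟨ht, ht1, ht2⟩ := hsplit
      have ht0 : t ≠ 0 := fun e => hc (by rw [heval, e] at ht; simpa using ht)
      refine ⟨fun _ => t ^ 2, fun _ => pow_ne_zero _ ht0, contig_two _, fun _ e => ?_, fun _ e => ?_,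
        fun h => absurd rfl h, fun _ a hr hs => ?_⟩
      · rcases eq_or_eq_neg_of_sq_eq_sq _ _ e with e | e
        · exact ht1 e
        · exact ht2 e
      · rw [hblock] at e
        field_simp at e
        have e' : c 0 ^ 2 = (t ^ 2) ^ 2 := by linear_combination e
        rcases eq_or_eq_neg_of_sq_eq_sq _ _ e' with e | e
        · exact ht1 e.symm
        · exact ht2 (by rw [e, neg_neg])
      · rcases eq_or_eq_neg_of_sq_eq_sq _ _ hs.symm with e | e
        · exact e
        · rw [heval] at ht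
          have h2 : 2 * (c (Fin.last 1) * t) = 0 := by rw [e] at hr; linear_combination ht - hr
          rcases mul_eq_zero.1 h2 with h2 | h2
          · rw [e]; linear_combination (-t) * h2
          · rcases mul_eq_zero.1 h2 with h2 | h2
            · exact absurd (by linear_combination ht - t * h2 : t ^ 2 = -c 0) ht2
            · exact absurd h2 ht0
    · obtain ⟨s, hs⟩ := exists_avoid_list [0, c 0, -c 0] (by simp; omega)
      simp only [List.mem_cons, List.not_mem_nil, or_false, not_or] at hs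
      refine ⟨fun _ => s, fun _ => hs.1, contig_two _, fun _ e => ?_, fun ht e => ?_, fun h => absurd rfl h,
        fun _ a hr hsa => ?_⟩
      · rcases eq_or_eq_neg_of_sq_eq_sq _ _ e with e | e
        · exact hs.2.1 e
        · exact hs.2.2 e
      · rw [hblock] at e
        have hc' : t ^ 2 = c 0 ∨ t ^ 2 = -c 0 := by
          by_contra hno; push Not at hno
          exact hsplit ⟨ht, hno.1, hno.2⟩
        field_simp [hs.1] at e
        rcases hc' with h | h
        · exact hs.2.1 (mul_left_cancel₀ hc (by linear_combination -e - s * h))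
        · exact hs.2.2 (mul_left_cancel₀ hc (by linear_combination e + s * h))
      · exfalso
        have hroot : (cpoly c).eval a = 0 := by rw [heval]; exact hr
        have ha2 : a ^ 2 = c 0 ∨ a ^ 2 = -c 0 := by
          rcases hdeg2 with ht | hn
          · rw [← hcg] at ht
            have hc' : t ^ 2 = c 0 ∨ t ^ 2 = -c 0 := by
              by_contra hno; push Not at hno
              exact hsplit ⟨ht, hno.1, hno.2⟩
            rw [heval] at ht
            have h0 : (a - t) * (a + t + c (Fin.last 1)) = 0 := by linear_combination hr - ht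
            rcases mul_eq_zero.1 h0 with h | h
            · rw [sub_eq_zero.1 h]; exact hc'
            · -- the other root
              have hat : a * t = c 0 := by linear_combination t * h - ht
              have hsq : a ^ 2 * t ^ 2 = c 0 ^ 2 := by rw [← hat]; ring
              rcases hc' with h' | h' <;> rw [h'] at hsq
              · exact Or.inl (mul_right_cancel₀ hc (by linear_combination hsq))
              · exact Or.inr (mul_right_cancel₀ hc (by linear_combination -hsq))
          · exact hn a (by rw [← hcg]; exact hroot)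
        rcases ha2 with h | h
        · exact hs.2.1 (hsa.trans h)
        · exact hs.2.2 (hsa.trans h)
  · -- larger blocks
    obtain ⟨s, y, hs, hy, hm', hb, hcy⟩ := exists_tail h4 hm1 hc (t * t)
    refine ⟨s, hs, contig_block hy hcy, fun h => by omega, fun _ => hb, fun _ => ?_, fun h => by omega⟩
    have h0 : Fin.last m ≠ 0 := fun e => by have := congrArg Fin.val e; simp at this; omega
    rcases eq_or_ne m 1 with rfl | h2
    · exact ⟨0, h0.symm, by rw [hm' rfl, hy _ h0]⟩
    · obtain ⟨j, hj⟩ : ∃ j : Fin (m + 1), (j : ℕ) = 1 := ⟨⟨1, by omega⟩, rfl⟩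
      have hj0 : j ≠ 0 := fun e => by subst e; simp at hj
      exact ⟨j, fun e => by subst e; simp at hj; omega, by rw [hy j hj0, hy _ h0]⟩

/-- a pair for a list of admissible blocks -/
theorem pairDataR_blk [Fintype F] (h4 : 4 ≤ Fintype.card F) {t : F} :
    ∀ L : List F[X], (∀ g ∈ L, Admiss t g) → PairDataR t (blk L)
  | [], _ => by
    haveI : IsEmpty (Fin (sz ([] : List F[X]))) := Fin.isEmpty'
    refine ⟨0, 1, 1, 1, Fin.elim0, ?_, ⟨fun i => i.elim0, fun i => i.elim0, fun v => ⟨0, fun w _ => ⟨0, ?_⟩⟩⟩,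
      fun a b f hf => absurd (Subsingleton.elim f 0) hf, fun w _ _ => Subsingleton.elim _ _⟩
    · exact ⟨0, 0, 0, 0, Subsingleton.elim _ _, Subsingleton.elim _ _, Subsingleton.elim _ _, Subsingleton.elim _ _,
        Subsingleton.elim _ _, Subsingleton.elim _ _, by simp⟩
    · exact Subsingleton.elim _ _
  | g :: L, h => by
    have hg := h g List.mem_cons_self
    refine PairDataR.congr ((pairDataR_block h4 hg).append
      (pairDataR_blk h4 L fun f hf => h f (List.mem_cons_of_mem _ hf)) ?_) (blk_cons g L).symm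
    rw [det_comp_cof hg.1, dd]
    exact mul_ne_zero (pow_ne_zero _ (by norm_num)) hg.2.1

theorem blk_cons_congr (g : F[X]) {L M : List F[X]} (h : Sim (blk L) (blk M)) :
    Sim (blk (g :: L)) (blk (g :: M)) :=
  (blk_cons g L).trans (((Sim.refl _).blocks h).trans (blk_cons g M).symm)

theorem blk_linear_one (t : F) :
    Sim (blk [X - C t]) (t • (1 : Matrix (Fin 1) (Fin 1) F)) := by
  obtain ⟨c, hc, hs, hci⟩ := exists_comp (monic_X_sub_C t) (natDegree_X_sub_C t)
  refine (blk_single _).trans (hs.trans (Sim.of_eq ?_))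
  ext i j
  obtain rfl : i = 0 := Fin.ext (by have := i.2; omega)
  obtain rfl : j = 0 := Fin.ext (by have := j.2; omega)
  simp [CfsgLib.Ore.comp, hci 0]

/-- a pair when one eigenvalue is added -/
theorem pairData_one [Fintype F] (h4 : 4 ≤ Fintype.card F) {t : F} :
    ∀ L : List F[X], (∀ g ∈ L, Admiss t g) → PairData t (blk (L ++ [X - C t]))
  | [], _ => by
    refine ⟨1, t • 1, t • 1, 1, fun _ => t * t, ?_, ⟨?_, ?_, ?_⟩, ?_⟩
    · obtain ⟨P, Q, h1, h2, h3⟩ := (blk_linear_one t).symm
      exact ⟨P, Q, P, Q, h1, h2, h1, h2, h3, h3, by rw [h1, det_one]⟩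
    · intro i j hij
      have : (i : ℕ) < j := hij
      omega
    · intro i
      simp [Matrix.smul_apply, smul_smul]
    · exact fun v => ⟨fun _ => 1, fun w _ => ⟨w 0, funext fun i => by
        obtain rfl : i = 0 := Fin.ext (by have := i.2; omega)
        simp⟩⟩
    · intro a b f hf hA hH
      obtain ⟨i, hi⟩ := Function.ne_iff.1 hf
      have h1 := congrFun hA i
      have h2 := congrFun hH i
      rw [Matrix.vecMul_smul, Matrix.vecMul_one, Pi.smul_apply, Pi.smul_apply, smul_eq_mul, smul_eq_mul] at h1 h2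
      exact ⟨(mul_right_cancel₀ hi h1).symm, (mul_right_cancel₀ hi h2).symm⟩
  | g :: L, h => by
    have hg := h g List.mem_cons_self
    refine PairData.congr (PairData.append (pairDataR_block h4 hg)
      (pairData_one h4 L fun f hf => h f (List.mem_cons_of_mem _ hf)) ?_) (blk_cons g (L ++ [X - C t])).symm
    rw [det_comp_cof hg.1, dd]
    exact mul_ne_zero (pow_ne_zero _ (by norm_num)) hg.2.1

/-- the state of the normalisation -/
def Normal (L₀ : List F[X]) (t : F) (L : List F[X]) (j : ℕ) : Prop :=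
  Sim (blk L₀) (blk (L ++ List.replicate j (X - C t))) ∧ (∀ g ∈ L, Admiss t g) ∧
    (0 < j → t ≠ 0 ∧ ∀ g ∈ L, g.eval t = 0)

theorem blk_absorb {g : F[X]} (hg : g.Monic) {u : F} (hu : g.eval u ≠ 0) (R : List F[X]) :
    Sim (blk (g :: (X - C u) :: R)) (blk (g * (X - C u) :: R)) :=
  blk_merge hg (monic_X_sub_C u)
    (((irreducible_X_sub_C u).coprime_iff_not_dvd.2 fun h => hu (dvd_iff_isRoot.1 h)).symm) R

theorem coeff_zero_mul_linear {g : F[X]} {u : F} (hg : g.coeff 0 ≠ 0) (hu : u ≠ 0) :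
    (g * (X - C u)).coeff 0 ≠ 0 := by
  rw [mul_coeff_zero, coeff_sub, coeff_X_zero, coeff_C_zero, zero_sub]
  exact mul_ne_zero hg (neg_ne_zero.2 hu)

/-- one more primary block -/
theorem normal_step {L₀ L : List F[X]} {t : F} {j : ℕ} {g : F[X]} (hg : PP g) (h : Normal L₀ t L j) :
    ∃ t' L' j', Normal (g :: L₀) t' L' j' := by
  classical
  obtain ⟨hs, hA, hJ⟩ := h
  have hs' := blk_cons_congr g hs
  by_cases hd : g.natDegree = 1
  · -- a linear block
    obtain ⟨u, hu⟩ : ∃ u, g = X - C u := ⟨-g.coeff 0, by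
      rw [map_neg, sub_neg_eq_add]; exact hg.monic.eq_X_add_C hd⟩
    have hu0 : u ≠ 0 := fun e => hg.1 (by simp [hu, e])
    subst hu
    rcases Nat.eq_zero_or_pos j with rfl | hj
    · rw [List.replicate_zero, List.append_nil] at hs'
      by_cases hex : ∃ f ∈ L, f.eval u ≠ 0
      · obtain ⟨f, hf, hfu⟩ := hex
        obtain ⟨hfm, hf0, hfd⟩ := hA f hf
        refine ⟨t, f * (X - C u) :: L.erase f, 0, ?_, ?_, fun h => absurd h (lt_irrefl 0)⟩
        · rw [List.replicate_zero, List.append_nil]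
          refine (hs'.trans (blk_perm ?_)).trans (blk_absorb hfm hfu _)
          exact ((List.perm_cons_erase hf).cons _).trans (List.Perm.swap _ _ _)
        · refine List.forall_mem_cons.2 ⟨⟨hfm.mul (monic_X_sub_C u), coeff_zero_mul_linear hf0 hu0, Or.inl ?_⟩,
            fun x hx => hA x (List.mem_of_mem_erase hx)⟩
          rw [hfm.natDegree_mul (monic_X_sub_C u), natDegree_X_sub_C]
          omega
      · push Not at hex
        refine ⟨u, L, 1, hs'.trans (blk_perm (List.perm_append_singleton _ _).symm), fun f hf => ?_, fun _ => ⟨hu0, hex⟩⟩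
        obtain ⟨hfm, hf0, hfd⟩ := hA f hf
        exact ⟨hfm, hf0, hfd.imp_right fun h => ⟨h.1, Or.inl (hex f hf)⟩⟩
    · obtain ⟨ht0, hvan⟩ := hJ hj
      by_cases hut : u = t
      · subst hut
        refine ⟨u, L, j + 1, hs'.trans (blk_perm ?_), hA, fun _ => ⟨ht0, hvan⟩⟩
        rw [List.replicate_succ]
        exact List.perm_middle.symm
      · obtain ⟨i, rfl⟩ : ∃ i, j = i + 1 := ⟨j - 1, by omega⟩
        refine ⟨t, (X - C u) * (X - C t) :: L, i, ?_, ?_, fun _ => ⟨ht0, ?_⟩⟩
        · refine (hs'.trans (blk_perm ?_)).trans (blk_absorb (monic_X_sub_C u)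
            (by simpa [sub_eq_zero] using Ne.symm hut) _)
          rw [List.replicate_succ]
          exact List.perm_middle.cons _
        · refine List.forall_mem_cons.2 ⟨⟨(monic_X_sub_C u).mul (monic_X_sub_C t),
            coeff_zero_mul_linear (by simpa using hu0) ht0, Or.inr ⟨?_, Or.inl (by simp)⟩⟩, hA⟩
          rw [(monic_X_sub_C u).natDegree_mul (monic_X_sub_C t), natDegree_X_sub_C, natDegree_X_sub_C]
        · exact List.forall_mem_cons.2 ⟨by simp, hvan⟩
  · -- a block of degree at least two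
    have hd2 : 2 ≤ g.natDegree := by have := hg.deg_pos; omega
    have hadm : ∀ t' : F, Admiss t' g := by
      intro t'
      obtain ⟨h0, p, k, hp, hi, hk, rfl⟩ := hg
      refine ⟨hp.pow k, h0, ?_⟩
      by_cases h3 : 3 ≤ (p ^ k).natDegree
      · exact Or.inl h3
      refine Or.inr ⟨by omega, Or.inr fun a ha => Or.inl ?_⟩
      -- a double root
      have hpa : p.eval a = 0 := by
        rw [eval_pow] at ha; exact eq_zero_of_pow_eq_zero ha
      have hpd : X - C a ∣ p := dvd_iff_isRoot.2 hpa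
      have : p = X - C a := (eq_of_monic_of_associated (monic_X_sub_C a) hp
        ((irreducible_X_sub_C a).associated_of_dvd hi hpd)).symm
      subst this
      have hk2 : k = 2 := by
        rw [natDegree_pow, natDegree_X_sub_C, mul_one] at hd2 h3
        omega
      subst hk2
      rw [coeff_zero_eq_eval_zero]
      simp
    by_cases hm : 0 < j ∧ g.eval t ≠ 0
    · obtain ⟨hj, hgt⟩ := hm
      obtain ⟨ht0, hvan⟩ := hJ hj
      obtain ⟨i, rfl⟩ : ∃ i, j = i + 1 := ⟨j - 1, by omega⟩
      refine ⟨t, g * (X - C t) :: L, i, ?_, ?_, fun _ => ⟨ht0, List.forall_mem_cons.2 ⟨by simp, hvan⟩⟩⟩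
      · refine (hs'.trans (blk_perm ?_)).trans (blk_absorb hg.monic hgt _)
        rw [List.replicate_succ]
        exact List.perm_middle.cons _
      · refine List.forall_mem_cons.2 ⟨⟨hg.monic.mul (monic_X_sub_C t), coeff_zero_mul_linear hg.1 ht0, Or.inl ?_⟩, hA⟩
        rw [hg.monic.natDegree_mul (monic_X_sub_C t), natDegree_X_sub_C]
        omega
    · refine ⟨t, g :: L, j, hs', List.forall_mem_cons.2 ⟨hadm t, hA⟩, fun hj => ⟨(hJ hj).1,
        List.forall_mem_cons.2 ⟨?_, (hJ hj).2⟩⟩⟩
      by_contra hgt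
      exact hm ⟨hj, hgt⟩

theorem exists_normal {n : ℕ} (A : Matrix (Fin n) (Fin n) F) (hA : A.det ≠ 0) :
    ∃ t L j, Sim A (blk (L ++ List.replicate j (X - C t))) ∧ (∀ g ∈ L, Admiss t g) ∧
      (0 < j → t ≠ 0 ∧ ∀ g ∈ L, g.eval t = 0) := by
  obtain ⟨L₀, hs, hPP, -, -⟩ := exists_primary A hA
  have key : ∀ M : List F[X], (∀ g ∈ M, PP g) → ∃ t L j, Normal M t L j := by
    intro M hM
    induction M with
    | nil => exact ⟨0, [], 0, Sim.refl _, by simp, fun h => absurd h (lt_irrefl 0)⟩
    | cons g M ih =>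
      obtain ⟨t, L, j, h⟩ := ih fun f hf => hM f (List.mem_cons_of_mem _ hf)
      exact normal_step (hM g List.mem_cons_self) h
  obtain ⟨t, L, j, h1, h2, h3⟩ := key L₀ hPP
  exact ⟨t, L, j, hs.trans h1, h2, h3⟩

end CfsgLib.Known.CoverPSL
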