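import Cfsg.Agent.Lib.Known.CoverPSL.Basic
import Cfsg.Agent.Lib.Ore.Extend

/-!
# Split matrices with one-dimensional eigenspaces

`Thin Z`: all eigenspaces have dimension at most one. A thin matrix with split characteristic polynomial
is cyclic, so it is determined up to similarity by its eigenvalues with multiplicities (`Spl.sim`).
Lower triangular matrices with nonzero subdiagonal are thin if equal diagonal entries are adjacent.
-/

set_option autoImplicit false
set_option linter.unusedSectionVars false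
set_option linter.style.haveILetI false

open Matrix Polynomial CfsgLib.Ore

namespace CfsgLib.Known.CoverPSL

universe u

variable {F : Type u} [Field F]
variable {ι κ μ : Type*} [Fintype ι] [DecidableEq ι] [Fintype κ] [DecidableEq κ] [Fintype μ] [DecidableEq μ]

/-- all eigenspaces have dimension at most one -/
def Thin (Z : Matrix ι ι F) : Prop :=
  ∀ v : F, ∃ k : ι → F, ∀ w : ι → F, Z *ᵥ w = v • w → ∃ c : F, w = c • k

/-- thin, with eigenvalues `β` -/
def Spl (Z : Matrix ι ι F) (β : μ → F) : Prop := Thin Z ∧ Z.charpoly = ∏ i, (X - C (β i))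

/-- lower triangular, nonzero below the diagonal, diagonal `β` -/
structure LTN {n : ℕ} (Z : Matrix (Fin n) (Fin n) F) (β : Fin n → F) : Prop where
  low : ∀ i j, i < j → Z i j = 0
  sub : ∀ i j : Fin n, (j : ℕ) + 1 = i → Z i j ≠ 0
  diag : ∀ i, Z i i = β i

/-- equal values are adjacent -/
def Contig {n : ℕ} (β : Fin n → F) : Prop := ∀ i j k : Fin n, i ≤ j → j ≤ k → β i = β k → β j = β i

/-- an eigenspace on which one coordinate is injective -/
theorem thin_at {Z : Matrix ι ι F} {v : F} (p : ι)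
    (h : ∀ w, Z *ᵥ w = v • w → w p = 0 → w = 0) : ∃ k : ι → F, ∀ w, Z *ᵥ w = v • w → ∃ c : F, w = c • k := by
  by_cases hex : ∃ k, Z *ᵥ k = v • k ∧ k p ≠ 0
  · obtain ⟨k, hk, hkp⟩ := hex
    refine ⟨k, fun w hw => ⟨w p / k p, ?_⟩⟩
    refine sub_eq_zero.1 (h _ ?_ (by simp [hkp]))
    rw [Matrix.mulVec_sub, Matrix.mulVec_smul, hk, hw, smul_sub, smul_comm]
  · push Not at hex
    exact ⟨0, fun w hw => ⟨0, by rw [smul_zero]; exact h w hw (hex w hw)⟩⟩

theorem Thin.of_sim {A : Matrix ι ι F} {B : Matrix κ κ F} (h : Sim A B) (hB : Thin B) : Thin A := by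
  obtain ⟨P, Q, h1, h2, h3⟩ := h
  intro v
  obtain ⟨k, hk⟩ := hB v
  refine ⟨P *ᵥ k, fun w hw => ?_⟩
  have hBQ : B * Q = Q * A := by
    calc B * Q = Q * (P * B) * Q := by rw [← Matrix.mul_assoc, h2, Matrix.one_mul]
      _ = Q * A := by rw [← h3, Matrix.mul_assoc, Matrix.mul_assoc A, h1, Matrix.mul_one]
  obtain ⟨c, hc⟩ := hk (Q *ᵥ w) (by rw [Matrix.mulVec_mulVec, hBQ, ← Matrix.mulVec_mulVec, hw, Matrix.mulVec_smul])
  refine ⟨c, ?_⟩
  rw [← Matrix.mulVec_smul, ← hc, Matrix.mulVec_mulVec, h1, Matrix.one_mulVec]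

theorem charpoly_of_sim {A : Matrix ι ι F} {B : Matrix κ κ F} (h : Sim A B) : A.charpoly = B.charpoly := by
  obtain ⟨P, Q, h1, h2, rfl⟩ := sim_exists h
  have hPQ : P.map C * Q.map C = (1 : Matrix ι ι F[X]) := by rw [← Matrix.map_mul, h1, Matrix.map_one _ C_0 C_1]
  have hQP : Q.map C * P.map C = (1 : Matrix κ κ F[X]) := by rw [← Matrix.map_mul, h2, Matrix.map_one _ C_0 C_1]
  have hX : Matrix.scalar ι (X : F[X]) = P.map C * Matrix.scalar κ (X : F[X]) * Q.map C := by
    rw [Matrix.scalar_apply, Matrix.scalar_apply, ← Matrix.smul_one_eq_diagonal, ← Matrix.smul_one_eq_diagonal,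
      Matrix.mul_smul, Matrix.smul_mul, Matrix.mul_one, hPQ]
  have hcm : Matrix.charmatrix (P * B * Q) = P.map C * Matrix.charmatrix B * Q.map C := by
    simp only [Matrix.charmatrix, RingHom.mapMatrix_apply, Matrix.map_mul]
    rw [hX, Matrix.mul_sub, Matrix.sub_mul]
  -- the determinant does not change under a rectangular conjugation
  have key := Matrix.det_one_add_mul_comm (P.map C) ((Matrix.charmatrix B - 1) * Q.map C)
  rw [Matrix.sub_mul, Matrix.one_mul, Matrix.mul_sub, hPQ, ← Matrix.mul_assoc, add_sub_cancel, Matrix.sub_mul,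
    Matrix.mul_assoc (Matrix.charmatrix B) (Q.map C), hQP, Matrix.mul_one, add_sub_cancel] at key
  rw [Matrix.charpoly, Matrix.charpoly, hcm, key]

theorem Spl.of_sim {A : Matrix ι ι F} {B : Matrix κ κ F} {β : μ → F} (h : Sim A B) (hB : Spl B β) : Spl A β :=
  ⟨hB.1.of_sim h, (charpoly_of_sim h).trans hB.2⟩

theorem cyc_of_sim {A : Matrix ι ι F} {B : Matrix κ κ F} (h : Sim A B) {v : κ → F} (hB : Cyc B v) :
    ∃ w, Cyc A w := by
  obtain ⟨P, Q, h1, h2, h3⟩ := h
  refine ⟨P *ᵥ v, fun w => ?_⟩
  obtain ⟨q, hq⟩ := hB (Q *ᵥ w)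
  refine ⟨q, ?_⟩
  rw [Matrix.mulVec_mulVec, aeval_mul_intertwine A B P h3, ← Matrix.mulVec_mulVec, hq, Matrix.mulVec_mulVec, h1,
    Matrix.one_mulVec]

/-- the Krylov vectors of a companion matrix are independent -/
theorem dvd_of_aeval_ev {m : ℕ} (c : Fin m → F) {r : F[X]} (h : aeval (comp c) r *ᵥ ev F m 0 = 0) :
    cpoly c ∣ r := by
  rw [← modByMonic_eq_zero_iff_dvd (cpoly_monic c)]
  set s := r %ₘ cpoly c with hs_def
  have hs : aeval (comp c) s *ᵥ ev F m 0 = 0 := by
    have e := modByMonic_add_div r (cpoly c)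
    rw [← e, map_add, Matrix.add_mulVec, map_mul, CfsgLib.Ore.aeval_comp, zero_mul, Matrix.zero_mulVec, add_zero] at h
    exact h
  have hdeg : s.degree < (m : WithBot ℕ) := by
    have h1 := degree_modByMonic_lt r (cpoly_monic c)
    rwa [degree_eq_natDegree (cpoly_monic c).ne_zero, cpoly_natDegree] at h1
  have hsum : s = ∑ i : Fin m, C (s.coeff i) * X ^ (i : ℕ) := by
    ext k
    rw [finsetSum_coeff]
    simp only [coeff_C_mul_X_pow]
    by_cases hk : k < m
    · rw [Finset.sum_eq_single (⟨k, hk⟩ : Fin m)]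
      · simp
      · intro b _ hb
        exact if_neg fun e => hb (Fin.ext e.symm)
      · simp
    · rw [Finset.sum_eq_zero fun j _ => if_neg (by have := j.2; omega)]
      exact coeff_eq_zero_of_degree_lt (hdeg.trans_le (by exact_mod_cast not_lt.1 hk))
  rw [hsum, aeval_sum_mulVec] at hs
  simp only [comp_pow_ev c (Fin.is_lt _), ev_eq_single] at hs
  ext k
  by_cases hk : k < m
  · have := congrFun hs ⟨k, hk⟩
    simpa [Finset.sum_apply, Pi.single_apply] using this
  · exact coeff_eq_zero_of_degree_lt (hdeg.trans_le (by exact_mod_cast not_lt.1 hk))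

/-- a companion matrix has an eigenvector for a root -/
theorem comp_eigvec {m : ℕ} (c : Fin m → F) {a : F} (ha : (cpoly c).eval a = 0) :
    ∃ u : Fin m → F, u ≠ 0 ∧ comp c *ᵥ u = a • u := by
  obtain ⟨h, hh⟩ := dvd_iff_isRoot.2 ha
  have h0 : h ≠ 0 := fun e => (cpoly_monic c).ne_zero (by rw [hh, e, mul_zero])
  refine ⟨aeval (comp c) h *ᵥ ev F m 0, fun e => ?_, ?_⟩
  · have hd := natDegree_le_of_dvd (dvd_of_aeval_ev c e) h0
    have h1 := congrArg natDegree hh
    rw [natDegree_mul (X_sub_C_ne_zero a) h0, natDegree_X_sub_C] at h1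
    omega
  · have e := congrArg (fun p => aeval (comp c) p *ᵥ ev F m 0) hh
    simp only [map_mul, map_sub, aeval_X, aeval_C, aeval_comp_ev, Algebra.algebraMap_eq_smul_one] at e
    rw [← Matrix.mulVec_mulVec, Matrix.sub_mulVec, Matrix.smul_mulVec, Matrix.one_mulVec] at e
    exact sub_eq_zero.1 e.symm

theorem blocks_eigvec (A : Matrix ι ι F) (B : Matrix κ κ F) {w : κ → F} {v : F} (h : B *ᵥ w = v • w) :
    fromBlocks A 0 0 B *ᵥ Sum.elim (0 : ι → F) w = v • Sum.elim (0 : ι → F) w := by
  rw [fromBlocks_mulVec]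
  ext (i | i) <;> simp [h]

theorem Thin.right {A : Matrix ι ι F} {B : Matrix κ κ F} (h : Thin (fromBlocks A 0 0 B)) : Thin B := by
  intro v
  obtain ⟨k, hk⟩ := h v
  refine ⟨k ∘ Sum.inr, fun w hw => ?_⟩
  obtain ⟨c, hc⟩ := hk _ (blocks_eigvec A B hw)
  exact ⟨c, funext fun i => by simpa using congrFun hc (Sum.inr i)⟩

/-- a thin list of powers of linear polynomials is one block -/
theorem sim_blk_prod : ∀ L : List F[X], (∀ g ∈ L, ∃ (a : F) (k : ℕ), 0 < k ∧ g = (X - C a) ^ k) →
    Thin (blk L) → Sim (blk L) (blk [L.prod]) ∧ L.Pairwise IsCoprime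
  | [], _, _ => by
    refine ⟨?_, List.Pairwise.nil⟩
    have hsz : sz [([] : List F[X]).prod] = 0 := by simp [sz]
    haveI : IsEmpty (Fin (sz [([] : List F[X]).prod])) := by rw [hsz]; exact Fin.isEmpty'
    haveI : IsEmpty (Fin (sz ([] : List F[X]))) := Fin.isEmpty'
    exact ⟨0, 0, Subsingleton.elim _ _, Subsingleton.elim _ _, Subsingleton.elim _ _⟩
  | g :: L, hL, hT => by
    have hT' : Thin (fromBlocks (comp (cof g)) 0 0 (blk L)) := hT.of_sim (blk_cons g L).symm
    have hL' := fun f hf => hL f (List.mem_cons_of_mem _ hf)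
    obtain ⟨ih, hp⟩ := sim_blk_prod L hL' hT'.right
    classical
    obtain ⟨a, k, hk, rfl⟩ := hL g List.mem_cons_self
    have hco : ∀ f ∈ L, IsCoprime ((X - C a) ^ k) f := by
      intro f hf
      obtain ⟨b, l, hl, rfl⟩ := hL' f hf
      refine IsCoprime.pow (Polynomial.isCoprime_X_sub_C_of_isUnit_sub (sub_ne_zero.2 ?_).isUnit)
      rintro rfl
      obtain ⟨M, hM⟩ : ∃ M, L.Perm ((X - C a) ^ l :: M) := ⟨_, List.perm_cons_erase hf⟩
      have hT2 : Thin (fromBlocks (comp (cof ((X - C a) ^ k : F[X]))) 0 0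
          (fromBlocks (comp (cof ((X - C a) ^ l : F[X]))) 0 0 (blk M))) :=
        hT'.of_sim ((Sim.refl _).blocks ((blk_perm hM).trans (blk_cons _ M))).symm
      have root : ∀ j, 0 < j → (cpoly (cof ((X - C a) ^ j : F[X]))).eval a = 0 := fun j hj => by
        rw [cpoly_cof ((monic_X_sub_C a).pow j)]; simp [hj.ne']
      obtain ⟨u, hu, hua⟩ := comp_eigvec _ (root k hk)
      obtain ⟨w, hw, hwa⟩ := comp_eigvec _ (root l hl)
      obtain ⟨e, he⟩ := hT2 a
      obtain ⟨c, hc⟩ := he (Sum.elim u (0 : (Fin ((X - C a) ^ l : F[X]).natDegree) ⊕ Fin (sz M) → F)) (by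
        rw [fromBlocks_mulVec]; ext (i | i) <;> simp [hua])
      obtain ⟨d, hd⟩ := he (Sum.elim (0 : Fin ((X - C a) ^ k : F[X]).natDegree → F) (Sum.elim w (0 : Fin (sz M) → F))) (blocks_eigvec _ _ (by
        rw [fromBlocks_mulVec]; ext (i | i) <;> simp [hwa]))
      obtain ⟨i, hi⟩ := Function.ne_iff.1 hw
      obtain ⟨j, hj⟩ := Function.ne_iff.1 hu
      have h1 := congrFun hd (Sum.inr (Sum.inl i))
      have h2 := congrFun hc (Sum.inr (Sum.inl i))
      have h3 := congrFun hc (Sum.inl j)
      simp only [Sum.elim_inr, Sum.elim_inl, Pi.smul_apply, smul_eq_mul, Pi.zero_apply] at h1 h2 h3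
      rcases mul_eq_zero.1 h2.symm with h | h
      · exact hj (by rw [h3, h, zero_mul, Pi.zero_apply])
      · exact hi (by rw [h1, h, mul_zero, Pi.zero_apply])
    refine ⟨?_, List.pairwise_cons.2 ⟨hco, hp⟩⟩
    rw [List.prod_cons]
    refine ((blk_cons _ L).trans (((Sim.refl _).blocks ih).trans (blk_cons _ _).symm)).trans
      (blk_merge ((monic_X_sub_C a).pow k) ?_ ?_ [])
    · exact monic_list_prod fun f hf => by
        obtain ⟨b, l, -, rfl⟩ := hL' f hf
        exact (monic_X_sub_C b).pow l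
    · exact coprime_list_prod hco
where
  monic_list_prod {L : List F[X]} (h : ∀ f ∈ L, f.Monic) : L.prod.Monic := by
    induction L with
    | nil => simp
    | cons f L ih =>
      rw [List.prod_cons]
      exact (h f List.mem_cons_self).mul (ih fun g hg => h g (List.mem_cons_of_mem _ hg))
  coprime_list_prod {L : List F[X]} {g : F[X]} (h : ∀ f ∈ L, IsCoprime g f) : IsCoprime g L.prod := by
    induction L with
    | nil => exact isCoprime_one_right
    | cons f L ih =>
      rw [List.prod_cons]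
      exact (h f List.mem_cons_self).mul_right (ih fun g hg => h g (List.mem_cons_of_mem _ hg))

/-- a thin split matrix is cyclic -/
theorem Spl.exists_cyc {n : ℕ} {Z : Matrix (Fin n) (Fin n) F} {β : μ → F} (h : Spl Z β) (hd : Z.det ≠ 0) :
    ∃ v, Cyc Z v := by
  classical
  obtain ⟨L, hs, hL, -, -⟩ := exists_primary Z hd
  have hT : Thin (blk L) := h.1.of_sim hs.symm
  have hlin : ∀ g ∈ L, ∃ (a : F) (k : ℕ), 0 < k ∧ g = (X - C a) ^ k := by
    intro g hg
    obtain ⟨-, p, k, hp, hi, hk, rfl⟩ := hL g hg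
    -- the characteristic polynomial kills the block
    have hblk : Sim Z (fromBlocks (comp (cof (p ^ k))) 0 0 (blk (L.erase (p ^ k)))) :=
      hs.trans ((blk_perm (List.perm_cons_erase hg)).trans (blk_cons _ _))
    have h0 : aeval (fromBlocks (comp (cof (p ^ k))) 0 0 (blk (L.erase (p ^ k)))) (∏ i, (X - C (β i))) = 0 :=
      aeval_sim hblk.symm (by rw [← h.2]; exact Matrix.aeval_self_charpoly Z)
    rw [aeval_fromBlocks] at h0
    have h1 : aeval (comp (cof (p ^ k))) (∏ i, (X - C (β i))) = 0 := by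
      ext i j; simpa using congrFun (congrFun h0 (Sum.inl i)) (Sum.inl j)
    have h2 := dvd_of_aeval_ev (cof (p ^ k)) (r := ∏ i, (X - C (β i))) (by rw [h1, Matrix.zero_mulVec])
    rw [cpoly_cof (hp.pow k)] at h2
    obtain ⟨i, -, hi'⟩ := hi.prime.exists_mem_finset_dvd ((dvd_pow_self p hk.ne').trans h2)
    exact ⟨β i, k, hk, by rw [eq_of_monic_of_associated hp (monic_X_sub_C _)
      (hi.associated_of_dvd (irreducible_X_sub_C _) hi')]⟩
  obtain ⟨hprod, -⟩ := sim_blk_prod L hlin hT
  exact cyc_of_sim (hs.trans (hprod.trans (blk_single _))) (comp_cyc _)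

theorem card_of_charpoly {A : Matrix ι ι F} {β : μ → F} (h : A.charpoly = ∏ i, (X - C (β i))) :
    Fintype.card ι = Fintype.card μ := by
  have := congrArg natDegree h
  rwa [Matrix.charpoly_natDegree_eq_dim, natDegree_prod_of_monic _ _ fun i _ => monic_X_sub_C _,
    Finset.sum_congr rfl fun i _ => natDegree_X_sub_C _, Finset.sum_const, smul_eq_mul, mul_one,
    Finset.card_univ] at this

/-- thin split matrices are similar if their eigenvalues agree -/
theorem Spl.sim {n : ℕ} {Z W : Matrix (Fin n) (Fin n) F} {β : μ → F} (hZ : Spl Z β) (hW : Spl W β)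
    (hd : Z.det ≠ 0) (hd' : W.det ≠ 0) : Sim Z W := by
  obtain ⟨v, hv⟩ := hZ.exists_cyc hd
  obtain ⟨w, hw⟩ := hW.exists_cyc hd'
  have key : ∀ {A : Matrix (Fin n) (Fin n) F} {x}, Cyc A x → A.charpoly = ∏ i, (X - C (β i)) →
      Sim A (comp (cof (∏ i, (X - C (β i))))) := by
    intro A x hx hA
    refine sim_comp ?_ A x hx _ ?_
    · rw [← hA, Matrix.charpoly_natDegree_eq_dim]
    · rw [cpoly_cof (monic_prod_of_monic _ _ fun i _ => monic_X_sub_C _), ← hA, Matrix.aeval_self_charpoly,
        Matrix.zero_mulVec]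
  exact (key hv hZ.2).trans (key hw hW.2).symm

theorem Spl.det_eq {A : Matrix ι ι F} {β : μ → F} (h : Spl A β) : A.det = ∏ i, β i := by
  rw [Matrix.det_eq_sign_charpoly_coeff, h.2, coeff_zero_prod, card_of_charpoly h.2]
  simp only [coeff_sub, coeff_X_zero, coeff_C_zero, zero_sub, Finset.prod_neg, Finset.card_univ]
  rw [← mul_assoc, ← mul_pow, neg_one_mul, neg_neg, one_pow, one_mul]

theorem Spl.perm {A : Matrix ι ι F} {β : μ → F} (h : Spl A β) {ν : Type*} [Fintype ν] (e : ν ≃ μ) :
    Spl A (β ∘ e) :=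
  ⟨h.1, h.2.trans (e.prod_comp fun i => X - C (β i)).symm⟩

namespace LTN

variable {n : ℕ} {Z : Matrix (Fin n) (Fin n) F} {β : Fin n → F}

theorem isLowerTriangular (h : LTN Z β) : Zᵀ.IsUpperTriangular := fun i j hij => h.low j i hij

theorem charpoly (h : LTN Z β) : Z.charpoly = ∏ i, (X - C (β i)) := by
  rw [← Matrix.charpoly_transpose, Matrix.charpoly_of_isUpperTriangular _ h.isLowerTriangular]
  simp [h.diag]

theorem thin (h : LTN Z β) (hc : Contig β) : Thin Z := by
  intro v
  by_cases hex : ∃ i, β i = v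
  · classical
    obtain ⟨p, hp, hmax⟩ : ∃ p, β p = v ∧ ∀ i, β i = v → i ≤ p := by
      have hne : (Finset.univ.filter fun i => β i = v).Nonempty := by
        obtain ⟨i, hi⟩ := hex; exact ⟨i, by simp [hi]⟩
      refine ⟨Finset.max' _ hne, (Finset.mem_filter.1 (Finset.max'_mem _ hne)).2, fun i hi => ?_⟩
      exact Finset.le_max' _ i (by simp [hi])
    refine thin_at p fun w hw hwp => ?_
    have key : ∀ k : ℕ, ∀ i : Fin n, (i : ℕ) = k → w i = 0 := by
      intro k
      induction k using Nat.strong_induction_on with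
      | _ k ih =>
        intro i hik
        have hrow : ∀ r : Fin n, ∑ j, Z r j * w j = v * w r := fun r => congrFun hw r
        by_cases hiv : β i = v
        · rcases (hmax i hiv).eq_or_lt with rfl | hlt
          · exact hwp
          have hlt' : (i : ℕ) + 1 < n := by have := p.2; have : (i : ℕ) < p := hlt; omega
          obtain ⟨i', hi'⟩ : ∃ i' : Fin n, (i' : ℕ) = i + 1 := ⟨⟨i + 1, hlt'⟩, rfl⟩
          have hsame : β i' = v := by
            rw [← hiv]
            exact hc i i' p (Fin.le_def.2 (by omega)) (Fin.le_def.2 (by have : (i : ℕ) < p := hlt; omega))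
              (hiv.trans hp.symm)
          have := hrow i'
          rw [Finset.sum_eq_add (s := Finset.univ) i i' (by intro e; rw [e] at hi'; omega)
            (fun j _ hj => ?_) (by simp) (by simp), h.diag, hsame] at this
          · simpa [h.sub i' i hi'.symm] using this
          · rcases lt_trichotomy (j : ℕ) i with hj' | hj' | hj'
            · rw [ih _ (by omega) j rfl, mul_zero]
            · exact absurd (Fin.ext hj') hj.1
            · rw [h.low i' j (Fin.lt_def.2 (by have : (j : ℕ) ≠ i' := fun e => hj.2 (Fin.ext e); omega)), zero_mul]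
        · have := hrow i
          rw [Finset.sum_eq_single i, h.diag] at this
          · exact (mul_eq_mul_right_iff.1 this).resolve_left hiv
          · intro j _ hj
            rcases lt_trichotomy (j : ℕ) i with hj' | hj' | hj'
            · rw [ih _ (by omega) j rfl, mul_zero]
            · exact absurd (Fin.ext hj') hj
            · rw [h.low i j (Fin.lt_def.2 hj'), zero_mul]
          · simp
    exact funext fun i => key _ i rfl
  · push Not at hex
    refine ⟨0, fun w hw => ⟨0, ?_⟩⟩
    rw [smul_zero]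
    have hev : IsUnit (Z - v • (1 : Matrix (Fin n) (Fin n) F)).det := by
      rw [← Matrix.det_transpose, Matrix.transpose_sub, Matrix.transpose_smul, Matrix.transpose_one,
        Matrix.det_of_isUpperTriangular (fun i j hij => by simp [h.low j i hij, (ne_of_gt (show j < i from hij))])]
      refine isUnit_iff_ne_zero.2 (Finset.prod_ne_zero_iff.2 fun i _ => ?_)
      simpa [h.diag, sub_eq_zero] using hex i
    have h0 : (Z - v • (1 : Matrix (Fin n) (Fin n) F)) *ᵥ w = 0 := by
      rw [Matrix.sub_mulVec, Matrix.smul_mulVec, Matrix.one_mulVec, hw, sub_self]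
    have := congrArg ((Z - v • (1 : Matrix (Fin n) (Fin n) F))⁻¹ *ᵥ ·) h0
    simpa [Matrix.mulVec_mulVec, Matrix.nonsing_inv_mul _ hev] using this

theorem spl (h : LTN Z β) (hc : Contig β) : Spl Z β := ⟨h.thin hc, h.charpoly⟩

end LTN

/-- upper triangular with nonzero superdiagonal -/
structure UTN {n : ℕ} (Z : Matrix (Fin n) (Fin n) F) (β : Fin n → F) : Prop where
  upp : ∀ i j, j < i → Z i j = 0
  sup : ∀ i j : Fin n, (i : ℕ) + 1 = j → Z i j ≠ 0
  diag : ∀ i, Z i i = β i

theorem UTN.rev {n : ℕ} {Z : Matrix (Fin n) (Fin n) F} {β : Fin n → F} (h : UTN Z β) :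
    LTN (Z.submatrix Fin.rev Fin.rev) (β ∘ Fin.rev) where
  low i j hij := h.upp _ _ (Fin.rev_lt_rev.2 hij)
  sub i j hij := h.sup _ _ (by simp [Fin.val_rev]; omega)
  diag i := h.diag _

theorem UTN.spl {n : ℕ} {Z : Matrix (Fin n) (Fin n) F} {β : Fin n → F} (h : UTN Z β) (hc : Contig β) :
    Spl Z β := by
  have hc' : Contig (β ∘ Fin.rev) := fun i j k hij hjk e => by
    have := hc (Fin.rev k) (Fin.rev j) (Fin.rev i) (Fin.rev_le_rev.2 hjk) (Fin.rev_le_rev.2 hij) e.symm
    exact this.trans e.symm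
  have h2 : Spl Z (β ∘ Fin.rev) := (h.rev.spl hc').of_sim (Sim.reindex Z Fin.revPerm)
  have := h2.perm (Fin.revPerm (n := n))
  simpa [Function.comp_def] using this

/-- any list of values can be ordered with equal values adjacent -/
theorem exists_contig {n : ℕ} (β : Fin n → F) [Finite F] : ∃ e : Fin n ≃ Fin n, Contig (β ∘ e) := by
  classical
  haveI := Fintype.ofFinite F
  let r : F → ℕ := fun a => (Fintype.equivFin F a : ℕ)
  have hr : Function.Injective r := fun a b e => (Fintype.equivFin F).injective (Fin.ext e)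
  refine ⟨Tuple.sort (r ∘ β), fun i j k hij hjk e => hr ?_⟩
  have h1 := Tuple.monotone_sort (r ∘ β) hij
  have h2 := Tuple.monotone_sort (r ∘ β) hjk
  have h3 : r (β (Tuple.sort (r ∘ β) i)) = r (β (Tuple.sort (r ∘ β) k)) := congrArg r e
  simp only [Function.comp_apply] at h1 h2 ⊢
  omega

/-- the diagonal of a polynomial in a triangular matrix -/
theorem aeval_tri {n : ℕ} {Z : Matrix (Fin n) (Fin n) F} (hZ : ∀ i j, i < j → Z i j = 0) (P : F[X]) :
    (∀ i j, i < j → aeval Z P i j = 0) ∧ ∀ i, aeval Z P i i = P.eval (Z i i) := by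
  induction P using Polynomial.induction_on' with
  | add p q hp hq =>
    exact ⟨fun i j h => by simp [hp.1 i j h, hq.1 i j h], fun i => by simp [hp.2 i, hq.2 i]⟩
  | monomial k a =>
    have hk : (∀ i j, i < j → (Z ^ k) i j = 0) ∧ ∀ i, (Z ^ k) i i = Z i i ^ k := by
      induction k with
      | zero => exact ⟨fun i j h => by simp [h.ne], fun i => by simp⟩
      | succ k ih =>
        refine ⟨fun i j h => ?_, fun i => ?_⟩
        · rw [pow_succ, Matrix.mul_apply]
          refine Finset.sum_eq_zero fun l _ => ?_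
          rcases lt_or_ge i l with hl | hl
          · rw [ih.1 i l hl, zero_mul]
          · rw [hZ l j (lt_of_le_of_lt hl h), mul_zero]
        · rw [pow_succ, Matrix.mul_apply, Finset.sum_eq_single i, ih.2 i, pow_succ]
          · intro l _ hl
            rcases lt_or_gt_of_ne hl with hl | hl
            · rw [hZ l i hl, mul_zero]
            · rw [ih.1 i l hl, zero_mul]
          · simp
    refine ⟨fun i j h => ?_, fun i => ?_⟩
    · simp [aeval_monomial, ← Algebra.smul_def, hk.1 i j h]
    · simp [aeval_monomial, ← Algebra.smul_def, hk.2 i]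

/-- one multiplicity prime to `q - 1` gives centralisers of every determinant -/
theorem full_of_tri [Fintype F] [DecidableEq F] {n : ℕ} {Z : Matrix (Fin n) (Fin n) F} {β : Fin n → F}
    (hZ : ∀ i j, i < j → Z i j = 0) (hd : ∀ i, Z i i = β i) (v : F)
    (h : Nat.Coprime (Fintype.card F - 1) (Finset.univ.filter fun i => β i = v).card) : Full Z := by
  intro c hc
  have hcop : (Nat.card Fˣ).Coprime (Finset.univ.filter fun i => β i = v).card := by
    rwa [Nat.card_units, Nat.card_eq_fintype_card]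
  obtain ⟨uu, huu⟩ := (powCoprime hcop).surjective (Units.mk0 c hc)
  have hu : (uu : F) ^ (Finset.univ.filter fun i => β i = v).card = c := by
    have := congrArg Units.val huu
    simpa using this
  let P : F[X] := 1 + C ((uu : F) - 1) * (1 - (X - C v) ^ (Fintype.card F - 1))
  have hq : Fintype.card F - 1 ≠ 0 := by have := Fintype.one_lt_card (α := F); omega
  have hev : ∀ a : F, P.eval a = if a = v then (uu : F) else 1 := fun a => by
    split_ifs with h
    · simp [P, h, hq]
    · simp [P, FiniteField.pow_card_sub_one_eq_one _ (sub_ne_zero.2 h)]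
  obtain ⟨h1, h2⟩ := aeval_tri hZ P
  refine ⟨aeval Z P, ?_, ?_⟩
  · conv_lhs => arg 1; rw [← aeval_X (R := F) Z]
    conv_rhs => arg 2; rw [← aeval_X (R := F) Z]
    rw [← map_mul, ← map_mul, mul_comm]
  · rw [← Matrix.det_transpose, Matrix.det_of_isUpperTriangular (show (aeval Z P)ᵀ.IsUpperTriangular from
      fun i j hij => h1 j i hij)]
    simp only [Matrix.transpose_apply, h2, hd, hev, Finset.prod_ite, Finset.prod_const_one, mul_one,
      Finset.prod_const, hu]

theorem LTN.full [Fintype F] [DecidableEq F] {n : ℕ} {Z : Matrix (Fin n) (Fin n) F} {β : Fin n → F}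
    (h : LTN Z β) (v : F) (hv : Nat.Coprime (Fintype.card F - 1) (Finset.univ.filter fun i => β i = v).card) :
    Full Z := full_of_tri h.low h.diag v hv

end CfsgLib.Known.CoverPSL
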