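import Cfsg.Agent.Lib.Known.CoverPSL.Products

/-!
# Determinants of centralisers

`CD X c`: some matrix commuting with `X` has determinant `c`. A primary block `p ^ k` gives all `k`-th powers,
a triangular matrix gives all powers by multiplicities.
-/

set_option autoImplicit false
set_option linter.unusedSectionVars false
set_option linter.style.haveILetI false

open Matrix Polynomial CfsgLib.Ore

namespace CfsgLib.Known.CoverPSL

universe u

variable {F : Type u} [Field F]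
variable {ι κ : Type*} [Fintype ι] [DecidableEq ι] [Fintype κ] [DecidableEq κ]

/-- some commuting matrix has determinant `c` -/
def CD (X : Matrix ι ι F) (c : F) : Prop := ∃ D, X * D = D * X ∧ D.det = c

/-- all nonzero `k`-th powers are determinants of commuting matrices -/
def Pow (X : Matrix ι ι F) (k : ℕ) : Prop := ∀ y : F, y ≠ 0 → CD X (y ^ k)

theorem CD.one (X : Matrix ι ι F) : CD X 1 := ⟨1, by rw [Matrix.mul_one, Matrix.one_mul], det_one⟩

theorem CD.mul {X : Matrix ι ι F} {a b : F} (ha : CD X a) (hb : CD X b) : CD X (a * b) := by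
  obtain ⟨D, hD, rfl⟩ := ha
  obtain ⟨E, hE, rfl⟩ := hb
  exact ⟨D * E, by rw [← Matrix.mul_assoc, hD, Matrix.mul_assoc, hE, Matrix.mul_assoc], det_mul _ _⟩

theorem Pow.of_sim {A : Matrix ι ι F} {B : Matrix κ κ F} (h : Sim A B) {k : ℕ} (hB : Pow B k) : Pow A k := by
  intro y hy
  obtain ⟨D, hD, hd⟩ := hB y hy
  obtain ⟨P, Q, h1, h2, rfl⟩ := sim_exists h
  refine ⟨P * D * Q, ?_, by rw [det_conj_rect h1 h2, hd]⟩
  calc P * B * Q * (P * D * Q) = P * B * (Q * P) * D * Q := by simp only [Matrix.mul_assoc]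
    _ = P * (D * B) * Q := by rw [h2, Matrix.mul_one, Matrix.mul_assoc P B D, hD]
    _ = P * D * (Q * P) * B * Q := by rw [h2, Matrix.mul_one]; simp only [Matrix.mul_assoc]
    _ = P * D * Q * (P * B * Q) := by simp only [Matrix.mul_assoc]

theorem Pow.left {A : Matrix ι ι F} (B : Matrix κ κ F) {k : ℕ} (h : Pow A k) : Pow (fromBlocks A 0 0 B) k := by
  intro y hy
  obtain ⟨D, hD, hd⟩ := h y hy
  exact ⟨fromBlocks D 0 0 1, by simp [fromBlocks_multiply, hD], by simp [hd]⟩

theorem Pow.right (A : Matrix ι ι F) {B : Matrix κ κ F} {k : ℕ} (h : Pow B k) : Pow (fromBlocks A 0 0 B) k := by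
  intro y hy
  obtain ⟨D, hD, hd⟩ := h y hy
  exact ⟨fromBlocks 1 0 0 D, by simp [fromBlocks_multiply, hD], by simp [hd]⟩

theorem Pow.full {X : Matrix ι ι F} (h : Pow X 1) : Full X := fun c hc => by
  simpa [CD] using h c hc

theorem Pow.blk_mem {L : List F[X]} {g : F[X]} (hg : g ∈ L) {k : ℕ} (h : Pow (CfsgLib.Ore.comp (cof g)) k) :
    Pow (blk L) k := by
  classical
  exact Pow.of_sim ((blk_perm (List.perm_cons_erase hg)).trans (blk_cons _ _)) (h.left _)

theorem charpoly_comp {m : ℕ} (c : Fin m → F) : (CfsgLib.Ore.comp c).charpoly = cpoly c := by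
  refine (Polynomial.eq_of_monic_of_dvd_of_natDegree_le (cpoly_monic c) (Matrix.charpoly_monic _)
    (dvd_of_aeval_ev c (by rw [Matrix.aeval_self_charpoly, Matrix.zero_mulVec])) ?_)
  rw [Matrix.charpoly_natDegree_eq_dim, cpoly_natDegree, Fintype.card_fin]

theorem det_linear_shift {E : Type*} [Field E] (A : Matrix ι ι E) (r : E) :
    (A - algebraMap E (Matrix ι ι E) r).det = (-1) ^ Fintype.card ι * A.charpoly.eval r := by
  rw [Matrix.eval_charpoly, show A - algebraMap E (Matrix ι ι E) r = -(Matrix.scalar ι r - A) by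
    rw [neg_sub]; rfl, Matrix.det_neg]

theorem map_aeval {E : Type u} [Field E] [Algebra F E] (A : Matrix ι ι F) (g : F[X]) :
    (aeval A g).map (algebraMap F E) = aeval (A.map (algebraMap F E)) (g.map (algebraMap F E)) := by
  rw [aeval_map_algebraMap]
  exact (aeval_algHom_apply (Algebra.ofId F E).mapMatrix A g).symm

/-- the determinant of a polynomial in `A` depends on the characteristic polynomial only -/
theorem det_aeval_pow {A : Matrix ι ι F} {B : Matrix κ κ F} {k : ℕ} (h : A.charpoly = B.charpoly ^ k) (g : F[X]) :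
    (aeval A g).det = (aeval B g).det ^ k := by
  classical
  let E := AlgebraicClosure F
  let φ := algebraMap F E
  have hcard : Fintype.card ι = Fintype.card κ * k := by
    rw [← Matrix.charpoly_natDegree_eq_dim A, h, natDegree_pow, Matrix.charpoly_natDegree_eq_dim B, mul_comm]
  have hchar : (A.map φ).charpoly = (B.map φ).charpoly ^ k := by
    rw [Matrix.charpoly_map, Matrix.charpoly_map, h, Polynomial.map_pow]
  apply φ.injective
  rw [map_pow, RingHom.map_det, RingHom.map_det, RingHom.mapMatrix_apply, RingHom.mapMatrix_apply]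
  rw [map_aeval, map_aeval]
  rw [(IsAlgClosed.splits (g.map φ)).eq_prod_roots]
  simp only [map_mul, aeval_C, Matrix.algebraMap_eq_diagonal]
  rw [det_mul, det_mul, Matrix.det_diagonal, Matrix.det_diagonal]
  simp only [Finset.prod_const, Finset.card_univ, Pi.algebraMap_apply, Algebra.algebraMap_self, RingHom.id_apply]
  rw [hcard, mul_pow, pow_mul]
  congr 1
  induction (g.map φ).roots using Multiset.induction_on with
  | empty => simp
  | cons r R ih =>
    simp only [Multiset.map_cons, Multiset.prod_cons, map_mul, det_mul, mul_pow, ih]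
    congr 1
    rw [map_sub, map_sub, aeval_X, aeval_X, aeval_C, aeval_C, det_linear_shift, det_linear_shift, hchar, eval_pow,
      hcard, mul_pow, pow_mul]

/-- a primary block gives all `k`-th powers -/
theorem pow_primary [Finite F] {p : F[X]} (hp : p.Monic) (hi : Irreducible p) (k : ℕ) :
    Pow (CfsgLib.Ore.comp (cof (p ^ k))) k := by
  classical
  haveI := Fact.mk hi
  haveI : Module.Finite F (AdjoinRoot p) := (AdjoinRoot.powerBasis hi.ne_zero).finite
  haveI : Finite (AdjoinRoot p) := Module.finite_of_finite F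
  intro y hy
  obtain ⟨e, he⟩ := FiniteField.norm_surjective F (AdjoinRoot p) y
  obtain ⟨g, rfl⟩ := AdjoinRoot.mk_surjective e
  let pb := AdjoinRoot.powerBasis hi.ne_zero
  have hM : (Algebra.leftMulMatrix pb.basis pb.gen).charpoly = (CfsgLib.Ore.comp (cof p)).charpoly := by
    rw [charpoly_leftMulMatrix, charpoly_comp, cpoly_cof hp]
    simp [pb, AdjoinRoot.powerBasis_gen, AdjoinRoot.minpoly_root hi.ne_zero, hp.leadingCoeff]
  have hgen : aeval pb.gen g = AdjoinRoot.mk p g := by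
    simp [pb, AdjoinRoot.powerBasis_gen, AdjoinRoot.aeval_eq]
  refine ⟨aeval (CfsgLib.Ore.comp (cof (p ^ k))) g, ?_, ?_⟩
  · conv_lhs => arg 1; rw [← aeval_X (R := F) (CfsgLib.Ore.comp (cof (p ^ k)))]
    conv_rhs => arg 2; rw [← aeval_X (R := F) (CfsgLib.Ore.comp (cof (p ^ k)))]
    rw [← map_mul, ← map_mul, mul_comm]
  · have h1 : (CfsgLib.Ore.comp (cof (p ^ k))).charpoly = (Algebra.leftMulMatrix pb.basis pb.gen).charpoly ^ k := by
      rw [hM, charpoly_comp, charpoly_comp, cpoly_cof hp, cpoly_cof (hp.pow k)]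
    rw [det_aeval_pow h1, ← he, ← hgen, Algebra.norm_eq_matrix_det pb.basis, aeval_algHom_apply]

/-- powers combine -/
theorem Pow.gcd {X : Matrix ι ι F} {a b : ℕ} (ha : Pow X a) (hb : Pow X b) : Pow X (Nat.gcd a b) := by
  intro y hy
  have key : y ^ (Nat.gcd a b) = (y ^ Nat.gcdA a b) ^ a * (y ^ Nat.gcdB a b) ^ b := by
    rw [← zpow_natCast y, ← zpow_natCast (y ^ Nat.gcdA a b), ← zpow_natCast (y ^ Nat.gcdB a b), ← _root_.zpow_mul, ← _root_.zpow_mul,
      ← zpow_add₀ hy]
    congr 1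
    rw [Nat.gcd_eq_gcd_ab]; ring
  rw [key]
  exact (ha _ (zpow_ne_zero _ hy)).mul (hb _ (zpow_ne_zero _ hy))

theorem Pow.card [Fintype F] (X : Matrix ι ι F) : Pow X (Fintype.card F - 1) := fun y hy => by
  rw [FiniteField.pow_card_sub_one_eq_one y hy]; exact CD.one X

/-- a triangular matrix gives the powers by the multiplicity -/
theorem pow_tri [Fintype F] [DecidableEq F] {n : ℕ} {Z : Matrix (Fin n) (Fin n) F} {β : Fin n → F}
    (hZ : ∀ i j, i < j → Z i j = 0) (hd : ∀ i, Z i i = β i) (v : F) :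
    Pow Z (Finset.univ.filter fun i => β i = v).card := by
  intro y hy
  let P : F[X] := 1 + C (y - 1) * (1 - (X - C v) ^ (Fintype.card F - 1))
  have hq : Fintype.card F - 1 ≠ 0 := by have := Fintype.one_lt_card (α := F); omega
  have hev : ∀ a : F, P.eval a = if a = v then y else 1 := fun a => by
    split_ifs with h
    · simp [P, h, hq]
    · simp [P, FiniteField.pow_card_sub_one_eq_one _ (sub_ne_zero.2 h)]
  obtain ⟨h1, h2⟩ := aeval_tri hZ P
  refine ⟨aeval Z P, ?_, ?_⟩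
  · conv_lhs => arg 1; rw [← aeval_X (R := F) Z]
    conv_rhs => arg 2; rw [← aeval_X (R := F) Z]
    rw [← map_mul, ← map_mul, mul_comm]
  · rw [← Matrix.det_transpose, Matrix.det_of_isUpperTriangular (show (aeval Z P)ᵀ.IsUpperTriangular from
      fun i j hij => h1 j i hij)]
    simp only [Matrix.transpose_apply, h2, hd, hev, Finset.prod_ite, Finset.prod_const_one, mul_one,
      Finset.prod_const]

/-- all similar products are reached by conjugates of determinant one -/
theorem sprods_pair [Fintype F] [DecidableEq F] {n : ℕ} {X : Matrix (Fin n) (Fin n) F} {g : ℕ} (hg : Pow X g)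
    {ρ r : F} {A H : Matrix (Fin n) (Fin n) F} {β : Fin n → F} (hP : HasPair X ρ A H) (hr : ρ = r ^ g)
    (hT : TPair A H β) (v : F) (hv : Nat.Coprime g (Finset.univ.filter fun i => β i = v).card)
    {S : Matrix (Fin n) (Fin n) F} (hS : Sim S (A * H)) : SProds X 2 S := by
  obtain ⟨P, P', R, R', a1, a2, a3, a4, a5, a6, a7⟩ := hP
  obtain ⟨T, T', t1, t2, hT'⟩ := hS
  obtain ⟨c, hc⟩ : ∃ c, c = (Finset.univ.filter fun i => β i = v).card := ⟨_, rfl⟩
  have hC := pow_tri hT.low hT.diag v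
  rw [← hc] at hC hv
  have hne : ∀ {M M' : Matrix (Fin n) (Fin n) F}, M * M' = 1 → M.det ≠ 0 := fun {M M'} h h0 => by
    have := congrArg Matrix.det h
    rw [det_mul, h0, zero_mul, det_one] at this
    exact zero_ne_one this
  have hu : (T * P).det ≠ 0 := by rw [det_mul]; exact mul_ne_zero (hne t1) (hne a1)
  have hρ : R.det = ρ * P.det := by
    rw [← a7, det_mul, mul_assoc, ← det_mul, a2, det_one, mul_one]
  have hr0 : r ^ g ≠ 0 := by
    rw [← hr]; intro h; rw [h, zero_mul] at hρ; exact hne a3 hρ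
  obtain ⟨w, hw, hw1, hw2⟩ : ∃ w : F, w ≠ 0 ∧ CD X (w ^ g) ∧ ∃ z : F, z ≠ 0 ∧ w ^ g * z ^ c = (T * P).det⁻¹ := by
    refine ⟨(T * P).det⁻¹ ^ Nat.gcdA g c, zpow_ne_zero _ (inv_ne_zero hu), hg _ (zpow_ne_zero _ (inv_ne_zero hu)),
      (T * P).det⁻¹ ^ Nat.gcdB g c, zpow_ne_zero _ (inv_ne_zero hu), ?_⟩
    rw [← zpow_natCast _ g, ← zpow_natCast _ c, ← _root_.zpow_mul, ← _root_.zpow_mul, ← zpow_add₀ (inv_ne_zero hu)]
    conv_rhs => rw [← zpow_one ((T * P).det⁻¹)]
    congr 1
    have := Nat.gcd_eq_gcd_ab g c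
    rw [hv] at this
    rw [mul_comm, mul_comm (Nat.gcdB g c)]
    exact this.symm
  obtain ⟨z, hz, hz'⟩ := hw2
  obtain ⟨E, hE, hEd⟩ := hC z hz
  obtain ⟨D, hD, hDd⟩ := hw1
  have hinv : CD X (r ^ g)⁻¹ := by
    by_cases h0 : r = 0
    · rcases Nat.eq_zero_or_pos g with rfl | hg0
      · simpa using CD.one X
      · exact absurd (by rw [h0, zero_pow hg0.ne']) hr0
    · rw [← inv_pow]; exact hg _ (inv_ne_zero h0)
  obtain ⟨D', hD', hD'd⟩ := (CD.mul ⟨D, hD, hDd⟩ hinv : CD X (w ^ g * (r ^ g)⁻¹))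
  have hd1 : (T * E * P * D).det = 1 := by
    rw [det_mul, det_mul, det_mul, hDd, hEd]
    rw [det_mul] at hz' hu
    calc T.det * z ^ c * P.det * w ^ g = T.det * P.det * (w ^ g * z ^ c) := by ring
      _ = 1 := by rw [hz', mul_inv_cancel₀ hu]
  have hd2 : (T * E * R * D').det = 1 := by
    rw [det_mul, det_mul, det_mul, hD'd, hρ, hr, ← hd1, det_mul, det_mul, det_mul, hDd]
    field_simp
  have hu1 : IsUnit (T * E * P * D).det := by rw [hd1]; exact isUnit_one
  have hu2 : IsUnit (T * E * R * D').det := by rw [hd2]; exact isUnit_one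
  obtain ⟨M₁, hM₁⟩ : ∃ M, M = T * E := ⟨_, rfl⟩
  rw [← hM₁] at hd1 hd2 hu1 hu2
  refine ⟨[M₁ * P * D * X * (M₁ * P * D)⁻¹, M₁ * R * D' * X * (M₁ * R * D')⁻¹], rfl, ?_, ?_⟩
  · intro Y hY
    simp only [List.mem_cons, List.not_mem_nil, or_false] at hY
    rcases hY with rfl | rfl
    · exact ⟨_, hd1, by rw [Matrix.mul_assoc, Matrix.nonsing_inv_mul _ hu1, Matrix.mul_one]⟩
    · exact ⟨_, hd2, by rw [Matrix.mul_assoc, Matrix.nonsing_inv_mul _ hu2, Matrix.mul_one]⟩
  · -- the product is `M₁ (A H) M₁⁻¹`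
    have hM₁u : IsUnit M₁.det := by
      refine isUnit_iff_ne_zero.2 ?_
      rw [hM₁, det_mul, hEd]
      exact mul_ne_zero (hne t1) (pow_ne_zero _ hz)
    have conjA : ∀ (P₀ P₀' D₀ A₀ : Matrix (Fin n) (Fin n) F), X * D₀ = D₀ * X → A₀ * P₀ = P₀ * X →
        IsUnit (M₁ * P₀ * D₀).det → M₁ * P₀ * D₀ * X * (M₁ * P₀ * D₀)⁻¹ = M₁ * A₀ * M₁⁻¹ := by
      intro P₀ P₀' D₀ A₀ h1 h2 h3
      have e : M₁ * A₀ * M₁⁻¹ * (M₁ * P₀ * D₀) = M₁ * P₀ * D₀ * X := by
        calc M₁ * A₀ * M₁⁻¹ * (M₁ * P₀ * D₀) = M₁ * A₀ * (M₁⁻¹ * M₁) * P₀ * D₀ := by simp only [Matrix.mul_assoc]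
          _ = M₁ * (A₀ * P₀) * D₀ := by rw [Matrix.nonsing_inv_mul _ hM₁u, Matrix.mul_one, Matrix.mul_assoc M₁ A₀ P₀]
          _ = M₁ * P₀ * (X * D₀) := by rw [h2]; simp only [Matrix.mul_assoc]
          _ = M₁ * P₀ * D₀ * X := by rw [h1]; simp only [Matrix.mul_assoc]
      rw [← e, Matrix.mul_nonsing_inv_cancel_right _ _ h3]
    have hS' : M₁ * (A * H) * M₁⁻¹ = S := by
      have e : S * M₁ = M₁ * (A * H) := by
        rw [hM₁, ← Matrix.mul_assoc, hT', Matrix.mul_assoc, hE, Matrix.mul_assoc]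
      rw [← e, Matrix.mul_nonsing_inv_cancel_right _ _ hM₁u]
    rw [List.prod_cons, List.prod_singleton, conjA P P' D A hD a5 hu1, conjA R R' D' H hD' a6 hu2, ← hS']
    calc M₁ * A * M₁⁻¹ * (M₁ * H * M₁⁻¹) = M₁ * A * (M₁⁻¹ * M₁) * H * M₁⁻¹ := by simp only [Matrix.mul_assoc]
      _ = M₁ * (A * H) * M₁⁻¹ := by rw [Matrix.nonsing_inv_mul _ hM₁u, Matrix.mul_one, Matrix.mul_assoc M₁ A H]

end CfsgLib.Known.CoverPSL
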