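import Cfsg.Agent.Lib.Known.CoverPSL.Linear

/-!
# Peeling an eigenvalue

`X = [[α, ρ], [0, Xb]]`. All factors but the last are taken upper triangular, the last one lower triangular.
A product of `m - 1` factors similar to `Xb` without common eigenvector for `α` lifts to a product of `m`
conjugates of `X` by matrices of determinant one, again without such an eigenvector.
-/

set_option autoImplicit false
set_option linter.unusedSectionVars false
set_option linter.style.haveILetI false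

open Matrix CfsgLib.Ore

namespace CfsgLib.Known.CoverPSL

variable {F : Type*} [Field F]
variable {ι κ μ σ : Type*} [Fintype ι] [DecidableEq ι] [Fintype κ] [DecidableEq κ] [Fintype μ] [DecidableEq μ]
  [Fintype σ] [DecidableEq σ]

theorem exists_det_diagonal [Nonempty ι] (c : F) : ∃ Z : Matrix ι ι F, Z.det = c := by
  classical
  obtain ⟨i⟩ := ‹Nonempty ι›
  refine ⟨Matrix.diagonal (Function.update (fun _ => 1) i c), ?_⟩
  rw [Matrix.det_diagonal, Finset.prod_update_of_mem (Finset.mem_univ i)]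
  simp

/-- the upper triangular conjugates -/
theorem upper_conj1 [Nonempty ι] (α : F) (ρ : Matrix ι κ F) {Xb Y : Matrix κ κ F} (hY : Sim Y Xb) :
    ∃ u₀ : Matrix ι κ F, ∀ w : Matrix ι κ F,
      Conj1 (fromBlocks (α • 1) ρ 0 Xb) (fromBlocks (α • 1) (u₀ + w * (Y - α • 1)) 0 Y) := by
  obtain ⟨P, Q, h1, h2, h3⟩ := hY
  have hne : P.det ≠ 0 := fun h => by
    have := congrArg Matrix.det h1
    rw [det_mul, h, zero_mul, det_one] at this
    exact zero_ne_one this
  obtain ⟨Z, hZ⟩ := exists_det_diagonal (ι := ι) P.det⁻¹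
  refine ⟨Z * ρ * Q, fun w => ⟨fromBlocks Z (w * P) 0 P, ?_, ?_⟩⟩
  · rw [det_fromBlocks_zero₂₁, hZ, inv_mul_cancel₀ hne]
  · rw [fromBlocks_multiply, fromBlocks_multiply]
    simp only [Matrix.mul_zero, Matrix.zero_mul, add_zero, zero_add, Matrix.smul_mul, Matrix.one_mul,
      Matrix.mul_smul, Matrix.mul_one, h3]
    congr 1
    · rw [Matrix.add_mul, Matrix.mul_sub, Matrix.sub_mul, Matrix.mul_assoc w Y P, h3, Matrix.mul_smul,
        Matrix.mul_one, Matrix.smul_mul, Matrix.mul_assoc (Z * ρ) Q P, h2, Matrix.mul_one, ← Matrix.mul_assoc]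
      abel
    all_goals simp

/-- what upper triangular products reach -/
theorem exists_uppers [Nonempty ι] {α : F} (hα : α ≠ 0) (ρ : Matrix ι κ F) (Xb : Matrix κ κ F) :
    ∀ l : List (Matrix κ κ F), (∀ Y ∈ l, Sim Y Xb) →
      ∃ (U₀ : Matrix ι κ F) (W : Submodule F (κ → F)),
        (∀ D : Matrix ι κ F, (∀ i, D i ∈ W) → ∃ l' : List (Matrix (ι ⊕ κ) (ι ⊕ κ) F), l'.length = l.length ∧
          (∀ M ∈ l', Conj1 (fromBlocks (α • 1) ρ 0 Xb) M) ∧
          l'.prod = fromBlocks (α ^ l.length • 1) (U₀ + D) 0 l.prod ∧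
          ∀ w, (∀ M ∈ l', M *ᵥ w = α • w) → ∀ Y ∈ l, Y *ᵥ (w ∘ Sum.inr) = α • (w ∘ Sum.inr)) ∧
        ∀ x : κ → F, (∀ r ∈ W, r ⬝ᵥ x = 0) → ∀ Y ∈ l, Y *ᵥ x = α • x
  | [], _ => by
    refine ⟨0, ⊥, fun D hD => ⟨[], rfl, by simp, ?_, fun _ _ Y hY => absurd hY (by simp)⟩, by simp⟩
    have : D = 0 := funext fun i => (Submodule.mem_bot F).1 (hD i)
    simp [this]
  | Y :: l, hl => by
    obtain ⟨U₀, W, hW, hx⟩ := exists_uppers hα ρ Xb l fun Z hZ => hl Z (List.mem_cons_of_mem _ hZ)
    obtain ⟨u₀, hu⟩ := upper_conj1 α ρ (hl Y List.mem_cons_self)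
    let f : (κ → F) →ₗ[F] (κ → F) := Matrix.vecMulLinear ((Y - α • 1) * l.prod)
    refine ⟨α • U₀ + u₀ * l.prod, W ⊔ LinearMap.range f, fun D hD => ?_, fun x hxW => ?_⟩
    · have hd : ∀ i, ∃ a ∈ W, ∃ w : κ → F, a + w ᵥ* ((Y - α • 1) * l.prod) = D i := fun i => by
        obtain ⟨a, ha, b, hb, e⟩ := Submodule.mem_sup.1 (hD i)
        obtain ⟨w, rfl⟩ := LinearMap.mem_range.1 hb
        exact ⟨a, ha, w, e⟩
      choose a ha w hw using hd
      obtain ⟨l', h1, h2, h3, h4⟩ := hW (α⁻¹ • Matrix.of a) fun i => W.smul_mem _ (ha i)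
      refine ⟨fromBlocks (α • 1) (u₀ + Matrix.of w * (Y - α • 1)) 0 Y :: l', by simp [h1],
        List.forall_mem_cons.2 ⟨hu _, h2⟩, ?_, fun x hx Z hZ => ?_⟩
      · rw [List.prod_cons, h3, fromBlocks_multiply, List.prod_cons, List.length_cons]
        simp only [Matrix.mul_zero, Matrix.zero_mul, add_zero, zero_add, Matrix.smul_mul, Matrix.one_mul]
        congr 1
        · rw [smul_smul, ← pow_succ']
        · rw [smul_add, smul_smul, mul_inv_cancel₀ hα, one_smul, Matrix.add_mul, Matrix.mul_assoc (Matrix.of w)]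
          have : D = Matrix.of a + Matrix.of w * ((Y - α • 1) * l.prod) := by
            funext i; rw [← hw i]; rfl
          rw [this]; abel
      · rcases List.mem_cons.1 hZ with rfl | hZ
        · have := hx _ List.mem_cons_self
          funext i
          simpa [fromBlocks_mulVec] using congrFun this (Sum.inr i)
        · exact h4 x (fun M hM => hx M (List.mem_cons_of_mem _ hM)) Z hZ
    · have hl' := hx x fun r hr => hxW r (Submodule.mem_sup_left hr)
      have hP : ∀ l : List (Matrix κ κ F), (∀ Z ∈ l, Z *ᵥ x = α • x) → l.prod *ᵥ x = α ^ l.length • x := by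
        intro l hl
        induction l with
        | nil => simp
        | cons Z l ih =>
          rw [List.prod_cons, ← Matrix.mulVec_mulVec, ih fun M hM => hl M (List.mem_cons_of_mem _ hM),
            Matrix.mulVec_smul, hl Z List.mem_cons_self, smul_smul, List.length_cons, pow_succ]
      refine List.forall_mem_cons.2 ⟨?_, hl'⟩
      have hY : (Y - α • 1) *ᵥ x = 0 := by
        funext i
        have := hxW (f (Pi.single i 1)) (Submodule.mem_sup_right ⟨_, rfl⟩)
        simp only [f, Matrix.vecMulLinear_apply] at this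
        rw [← Matrix.dotProduct_mulVec, ← Matrix.mulVec_mulVec, hP l hl', Matrix.mulVec_smul, dotProduct_smul,
          smul_eq_zero] at this
        simpa using this.resolve_left (pow_ne_zero _ hα)
      rwa [Matrix.sub_mulVec, Matrix.smul_mulVec, Matrix.one_mulVec, sub_eq_zero] at hY

/-- the product with the lower triangular last factor -/
theorem engine_core [Nonempty ι] {α : F} (hα : α ≠ 0) {ρ : Matrix ι κ F} {Xb : Matrix κ κ F}
    {v c : Matrix κ ι F} {Y : Matrix κ κ F} (hL : Conj1 (fromBlocks (α • 1) ρ 0 Xb) (fromBlocks (α • 1) 0 v Y))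
    (hYu : IsUnit Y.det) (hc : Y * c = v) (hv : ∀ w, v *ᵥ w = 0 → w = 0) {l : List (Matrix κ κ F)}
    (hl : ∀ Z ∈ l, Sim Z Xb) (hav : Avoid α l) {G : Matrix (ι ⊕ κ) (ι ⊕ κ) F}
    (h22 : G.toBlocks₂₂ = l.prod * Y) (h21 : G.toBlocks₂₁ = G.toBlocks₂₂ * c)
    (h11 : G.toBlocks₁₁ = α ^ (l.length + 1) • 1 + G.toBlocks₁₂ * c) :
    SPA (fromBlocks (α • 1) ρ 0 Xb) α (l.length + 1) G := by
  obtain ⟨U₀, W, hW, hx⟩ := exists_uppers hα ρ Xb l hl
  have htop : W = ⊤ := by
    by_contra hne
    obtain ⟨φ, hφ, hφW⟩ := Submodule.exists_dual_map_eq_bot_of_lt_top (Ne.lt_top hne) inferInstance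
    let x : κ → F := fun i => φ (Pi.single i 1)
    have hdot : ∀ r, r ⬝ᵥ x = φ r := fun r => by
      conv_rhs => rw [pi_eq_sum_univ' r]
      simp [x, dotProduct]
    have hx0 : x ≠ 0 := by
      intro e
      refine hφ (LinearMap.ext fun r => ?_)
      rw [← hdot, e, dotProduct_zero, LinearMap.zero_apply]
    refine hx0 (hav x (hx x fun r hr => ?_))
    rw [hdot]
    have : φ r ∈ W.map φ := Submodule.mem_map_of_mem hr
    rw [hφW] at this
    simpa using this
  obtain ⟨l', h1, h2, h3, h4⟩ := hW (G.toBlocks₁₂ * Y⁻¹ - U₀) fun i => by rw [htop]; exact Submodule.mem_top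
  rw [add_sub_cancel] at h3
  refine ⟨l' ++ [fromBlocks (α • 1) 0 v Y], by simp [h1], ?_, ?_, ?_⟩
  · intro M hM
    rcases List.mem_append.1 hM with hM | hM
    · exact h2 M hM
    · rw [List.mem_singleton.1 hM]; exact hL
  · conv_rhs => rw [← fromBlocks_toBlocks G]
    rw [List.prod_append, List.prod_singleton, h3, fromBlocks_multiply]
    congr 1
    · rw [h11, ← hc, Matrix.mul_assoc, ← Matrix.mul_assoc Y⁻¹, Matrix.nonsing_inv_mul _ hYu, Matrix.one_mul,
        Matrix.smul_mul, Matrix.one_mul, smul_smul, ← pow_succ]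
    · rw [Matrix.mul_zero, zero_add, Matrix.mul_assoc, Matrix.nonsing_inv_mul _ hYu, Matrix.mul_one]
    · rw [Matrix.zero_mul, zero_add, h21, h22, ← hc, Matrix.mul_assoc]
    · rw [Matrix.zero_mul, zero_add, h22]
  · intro w hw
    have hw2 : w ∘ Sum.inr = 0 := hav _ fun Z hZ => h4 w (fun M hM => hw M (List.mem_append_left _ hM)) Z hZ
    have hlast := hw _ (List.mem_append_right _ (List.mem_singleton.2 rfl))
    have hw1 : w ∘ Sum.inl = 0 := hv _ (funext fun i => by
      have := congrFun hlast (Sum.inr i)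
      have e : w (Sum.inr i) = 0 := congrFun hw2 i
      simpa [fromBlocks_mulVec, hw2, e] using this)
    funext i
    rcases i with i | i
    · exact congrFun hw1 i
    · exact congrFun hw2 i

/-- from the normal form back to `G` -/
theorem spa_of_conj {X G P Q : Matrix ι ι F} {α : F} {m : ℕ} (hP : P.det = 1) (hQP : Q * P = 1)
    (h : SPA X α m (Q * G * P)) : SPA X α m G := by
  have hPQ : P * Q = 1 := mul_eq_one_comm.1 hQP
  obtain ⟨l, hl, hc, hp, ha⟩ := h
  have hX : Conj1 X (P * X * Q) := ⟨P, hP, by rw [Matrix.mul_assoc, hQP, Matrix.mul_one]⟩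
  refine ⟨l.map fun Y => P * Y * Q, by simp [hl], ?_, ?_, avoid_map_conj hPQ hQP ha⟩
  · intro Z hZ
    obtain ⟨Y, hY, rfl⟩ := List.mem_map.1 hZ
    exact hX.trans ((hc Y hY).map hPQ hQP)
  · rw [prod_map_conj hPQ hQP, hp]
    calc P * (Q * G * P) * Q = P * Q * G * (P * Q) := by simp only [Matrix.mul_assoc]
      _ = G := by rw [hPQ, Matrix.one_mul, Matrix.mul_one]

/-- the shape of a conjugate in a basis adapted to `z` and `c` -/
theorem form_of_map {G P Q : Matrix (ι ⊕ κ) (ι ⊕ κ) F} (hQP : Q * P = 1) {s : F} {z : ι → (ι ⊕ κ) → F}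
    {c : Matrix κ ι F} (h1 : ∀ a, P *ᵥ Pi.single (Sum.inl a) 1 = G *ᵥ z a)
    (h2 : ∀ a, P *ᵥ Sum.elim (0 : ι → F) (fun i => c i a) = G *ᵥ z a - s • z a) :
    (Q * G * P).toBlocks₂₁ = (Q * G * P).toBlocks₂₂ * c ∧
      (Q * G * P).toBlocks₁₁ = s • 1 + (Q * G * P).toBlocks₁₂ * c := by
  have key : ∀ a i, (Q * G * P) i (Sum.inl a) - ∑ k, (Q * G * P) i (Sum.inr k) * c k a =
      s * (if i = Sum.inl a then 1 else 0) := by
    intro a i
    have e : (Q * G * P) *ᵥ (Pi.single (Sum.inl a) 1 - Sum.elim (0 : ι → F) (fun i => c i a)) =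
        s • Pi.single (Sum.inl a) 1 := by
      rw [← Matrix.mulVec_mulVec, ← Matrix.mulVec_mulVec, Matrix.mulVec_sub P, h1, h2, sub_sub_cancel,
        Matrix.mulVec_smul, Matrix.mulVec_smul, ← h1, Matrix.mulVec_mulVec, hQP, Matrix.one_mulVec]
    have := congrFun e i
    rw [Matrix.mulVec_sub, Pi.sub_apply, Matrix.mulVec_single_one] at this
    simp only [Matrix.col_apply, Matrix.mulVec, dotProduct, Fintype.sum_sum_type, Sum.elim_inl, Sum.elim_inr,
      Pi.zero_apply, mul_zero, Finset.sum_const_zero, zero_add, Pi.smul_apply, smul_eq_mul, Pi.single_apply] at this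
    exact this
  constructor
  · ext i a
    have := key a (Sum.inr i)
    simp only [reduceCtorEq, if_false, mul_zero, sub_eq_zero] at this
    simpa [Matrix.toBlocks₂₁, Matrix.toBlocks₂₂, Matrix.mul_apply] using this
  · ext b a
    have := key a (Sum.inl b)
    simp only [Sum.inl.injEq, sub_eq_iff_eq_add] at this
    simpa [Matrix.toBlocks₁₁, Matrix.toBlocks₁₂, Matrix.mul_apply, Matrix.one_apply] using this

/-- moving an independent family by a matrix of determinant one -/
theorem exists_map_det_one {a b : σ → ι → F} (ha : LinearIndependent F a) (hb : LinearIndependent F b)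
    (hcard : Fintype.card σ < Fintype.card ι) : ∃ P : Matrix ι ι F, P.det = 1 ∧ ∀ i, P *ᵥ a i = b i := by
  classical
  obtain ⟨P, Q, hPQ, hQP, hP⟩ := exists_inv_map rfl ha hb
  have hne : P.det ≠ 0 := fun h => by
    have := congrArg Matrix.det hPQ
    rw [det_mul, h, zero_mul, det_one] at this
    exact zero_ne_one this
  have hlt : Submodule.span F (Set.range a) < ⊤ := by
    refine Ne.lt_top fun e => ?_
    have := finrank_range_le_card (R := F) a
    rw [Set.finrank, e, finrank_top, Module.finrank_fintype_fun_eq_card] at this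
    omega
  obtain ⟨φ, hφ, hφa⟩ := Submodule.exists_dual_map_eq_bot_of_lt_top hlt inferInstance
  let r : ι → F := fun i => φ (Pi.single i 1)
  have hdot : ∀ y, r ⬝ᵥ y = φ y := fun y => by
    conv_rhs => rw [pi_eq_sum_univ' y]
    simp [r, dotProduct, mul_comm]
  obtain ⟨j, hj⟩ : ∃ j, r j ≠ 0 := by
    by_contra h
    push Not at h
    refine hφ (LinearMap.ext fun y => ?_)
    rw [← hdot, show r = 0 from funext h, zero_dotProduct, LinearMap.zero_apply]
  refine ⟨P * (1 + vecMulVec ((P.det⁻¹ - 1) • (r j)⁻¹ • Pi.single j 1) r), ?_, fun i => ?_⟩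
  · rw [det_mul, det_one_add_outer, dotProduct_smul, dotProduct_smul, dotProduct_single, smul_eq_mul, smul_eq_mul,
      mul_one, inv_mul_cancel₀ hj, mul_one, add_sub_cancel, mul_inv_cancel₀ hne]
  · have h0 : r ⬝ᵥ a i = 0 := by
      rw [hdot]
      have : φ (a i) ∈ (Submodule.span F (Set.range a)).map φ :=
        Submodule.mem_map_of_mem (Submodule.subset_span ⟨i, rfl⟩)
      rw [hφa] at this
      exact (Submodule.mem_bot F).1 this
    rw [← Matrix.mulVec_mulVec, Matrix.add_mulVec, Matrix.one_mulVec, Matrix.vecMulVec_mulVec, h0]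
    simp [hP i]

/-- the peeling step -/
theorem engine [Nonempty ι] {α : F} (hα : α ≠ 0) {ρ : Matrix ι κ F} {Xb : Matrix κ κ F}
    {v : Matrix κ ι F} {Y : Matrix κ κ F} (hL : Conj1 (fromBlocks (α • 1) ρ 0 Xb) (fromBlocks (α • 1) 0 v Y))
    (hYu : IsUnit Y.det) (hv : ∀ w, v *ᵥ w = 0 → w = 0) (hcard : Fintype.card ι < Fintype.card κ) {k : ℕ}
    {G : Matrix (ι ⊕ κ) (ι ⊕ κ) F} (hGdet : G.det ≠ 0) {z : ι → (ι ⊕ κ) → F}
    (hz : LinearIndependent F (Sum.elim z fun a => G *ᵥ z a))
    (ih : ∀ D : Matrix κ κ F, Nonscalar D → D.det * ((α ^ (k + 1)) ^ Fintype.card ι * Y.det) = G.det →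
      PA Xb α k D) :
    SPA (fromBlocks (α • 1) ρ 0 Xb) α (k + 1) G := by
  classical
  obtain ⟨c, hc⟩ : ∃ c, c = Y⁻¹ * v := ⟨_, rfl⟩
  have hYc : Y * c = v := by rw [hc, ← Matrix.mul_assoc, Matrix.mul_nonsing_inv _ hYu, Matrix.one_mul]
  have hcinj : ∀ w, c *ᵥ w = 0 → w = 0 := fun w hw => hv w (by
    rw [← hYc, ← Matrix.mulVec_mulVec, hw, Matrix.mulVec_zero])
  obtain ⟨s, hs⟩ : ∃ s, s = α ^ (k + 1) := ⟨_, rfl⟩
  have hs0 : s ≠ 0 := hs ▸ pow_ne_zero _ hα
  -- the two families
  have hfa : LinearIndependent F (Sum.elim (fun a : ι => (Pi.single (Sum.inl a) 1 : ι ⊕ κ → F))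
      (fun a : ι => Sum.elim (0 : ι → F) fun i => c i a)) := by
    rw [Fintype.linearIndependent_iff]
    intro g hg
    rw [Fintype.sum_sum_type] at hg
    have h1 : ∀ a, g (Sum.inl a) = 0 := fun a => by
      simpa [Finset.sum_apply, Pi.single_apply] using congrFun hg (Sum.inl a)
    have h2 : (fun a => g (Sum.inr a)) = 0 := hcinj _ (funext fun i => by
      have := congrFun hg (Sum.inr i)
      simpa [Finset.sum_apply, Matrix.mulVec, dotProduct, mul_comm] using this)
    intro i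
    rcases i with a | a
    · exact h1 a
    · exact congrFun h2 a
  have hfb : LinearIndependent F (Sum.elim (fun a => G *ᵥ z a) (fun a => G *ᵥ z a - s • z a)) := by
    rw [Fintype.linearIndependent_iff] at hz ⊢
    intro g hg
    rw [Fintype.sum_sum_type] at hg
    have := hz (Sum.elim (fun a => -(g (Sum.inr a) * s)) (fun a => g (Sum.inl a) + g (Sum.inr a))) (by
      rw [Fintype.sum_sum_type, ← hg]
      simp only [Sum.elim_inl, Sum.elim_inr, ← Finset.sum_add_distrib]
      refine Finset.sum_congr rfl fun a _ => ?_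
      module)
    have hr : ∀ a, g (Sum.inr a) = 0 := fun a => by simpa [hs0] using this (Sum.inl a)
    intro i
    rcases i with a | a
    · simpa [hr a] using this (Sum.inr a)
    · exact hr a
  obtain ⟨P, hP, hPm⟩ := exists_map_det_one hfa hfb (by simp; omega)
  have hP1 : ∀ a, P *ᵥ Pi.single (Sum.inl a) 1 = G *ᵥ z a := fun a => hPm (Sum.inl a)
  have hP2 : ∀ a, P *ᵥ Sum.elim (0 : ι → F) (fun i => c i a) = G *ᵥ z a - s • z a := fun a => hPm (Sum.inr a)
  have hQP : P⁻¹ * P = 1 := Matrix.nonsing_inv_mul _ (by rw [hP]; exact isUnit_one)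
  -- one step
  have step : ∀ P : Matrix (ι ⊕ κ) (ι ⊕ κ) F, P.det = 1 →
      (∀ a, P *ᵥ Pi.single (Sum.inl a) 1 = G *ᵥ z a) →
      (∀ a, P *ᵥ Sum.elim (0 : ι → F) (fun i => c i a) = G *ᵥ z a - s • z a) →
      Nonscalar ((P⁻¹ * G * P).toBlocks₂₂ * Y⁻¹) → SPA (fromBlocks (α • 1) ρ 0 Xb) α (k + 1) G := by
    intro P hP h1 h2 hns
    have hQP : P⁻¹ * P = 1 := Matrix.nonsing_inv_mul _ (by rw [hP]; exact isUnit_one)
    obtain ⟨e21, e11⟩ := form_of_map (G := G) hQP h1 h2
    have hdet : ((P⁻¹ * G * P).toBlocks₂₂ * Y⁻¹).det * ((α ^ (k + 1)) ^ Fintype.card ι * Y.det) = G.det := by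
      have hG : (P⁻¹ * G * P).det = G.det := by
        rw [det_mul, det_mul, mul_comm, ← mul_assoc, ← det_mul, Matrix.mul_nonsing_inv _ (by rw [hP]; exact isUnit_one),
          det_one, one_mul]
      have hE : (fromBlocks (1 : Matrix ι ι F) 0 (-c) (1 : Matrix κ κ F)).det = 1 := by simp
      rw [← hG, ← mul_one (P⁻¹ * G * P).det, ← hE, ← det_mul]
      conv_rhs => rw [← fromBlocks_toBlocks (P⁻¹ * G * P), fromBlocks_multiply]
      simp only [Matrix.mul_one, Matrix.mul_zero, zero_add, Matrix.mul_neg, ← e21, e11, add_neg_cancel,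
        add_neg_cancel_right]
      rw [det_fromBlocks_zero₂₁, det_smul, det_one, mul_one, det_mul, hs, Matrix.det_nonsing_inv,
        Ring.inverse_eq_inv']
      field_simp [hYu.ne_zero]
    obtain ⟨l, hl, hsim, hprod, hav⟩ := ih _ hns hdet
    subst hl
    refine spa_of_conj hP hQP (engine_core hα hL hYu hYc hv hsim hav ?_ e21 ?_)
    · rw [hprod, Matrix.nonsing_inv_mul_cancel_right _ _ hYu]
    · rw [e11, hs]
  by_cases hns : Nonscalar ((P⁻¹ * G * P).toBlocks₂₂ * Y⁻¹)
  · exact step P hP hP1 hP2 hns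
  simp only [Nonscalar, not_forall, not_not] at hns
  obtain ⟨d, hd⟩ := hns
  -- shift the basis
  obtain ⟨e21, -⟩ := form_of_map (G := G) hQP hP1 hP2
  obtain ⟨r, hr0, hrc⟩ : ∃ r : κ → F, r ≠ 0 ∧ r ᵥ* c = 0 := by
    by_contra h
    push Not at h
    have hinj : Function.Injective (Matrix.vecMulLinear c) := by
      rw [← LinearMap.ker_eq_bot, LinearMap.ker_eq_bot']
      intro r hr
      by_contra h0
      exact h r h0 hr
    have := LinearMap.finrank_le_finrank_of_injective hinj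
    simp at this
    omega
  obtain ⟨a₀⟩ := ‹Nonempty ι›
  let γ : Matrix ι κ F := vecMulVec (Pi.single a₀ 1) r
  have hγc : γ * c = 0 := by simp [γ, Matrix.vecMulVec_mul, hrc]
  let P' := P * fromBlocks (1 : Matrix ι ι F) γ 0 1
  have hP' : P'.det = 1 := by simp [P', hP]
  have h1' : ∀ a, P' *ᵥ Pi.single (Sum.inl a) 1 = G *ᵥ z a := fun a => by
    rw [← hP1]
    simp only [P', ← Matrix.mulVec_mulVec]
    congr 1
    funext i
    rcases i with i | i <;> simp [Matrix.mulVec_single_one, Matrix.one_apply, Pi.single_apply]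
  have h2' : ∀ a, P' *ᵥ Sum.elim (0 : ι → F) (fun i => c i a) = G *ᵥ z a - s • z a := fun a => by
    rw [← hP2]
    simp only [P', ← Matrix.mulVec_mulVec]
    congr 1
    rw [fromBlocks_mulVec]
    funext i
    rcases i with i | i
    · have := congrFun (congrFun hγc i) a
      simpa [Matrix.mul_apply, Matrix.mulVec, dotProduct] using this
    · simp
  refine step P' hP' h1' h2' fun d' hd' => ?_
  have hT : (P⁻¹ * G * P).toBlocks₂₂ = d • Y := by
    rw [← Matrix.mul_one (P⁻¹ * G * P).toBlocks₂₂, ← Matrix.nonsing_inv_mul _ hYu, ← Matrix.mul_assoc, hd,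
      Matrix.smul_mul, Matrix.one_mul]
  have hinv : P'⁻¹ = fromBlocks 1 (-γ) 0 1 * P⁻¹ := by
    refine Matrix.inv_eq_left_inv ?_
    simp only [P']
    rw [Matrix.mul_assoc, ← Matrix.mul_assoc P⁻¹, hQP, Matrix.one_mul, fromBlocks_multiply]
    simp [fromBlocks_one]
  have hT' : (P'⁻¹ * G * P').toBlocks₂₂ = (P⁻¹ * G * P).toBlocks₂₁ * γ + (P⁻¹ * G * P).toBlocks₂₂ := by
    rw [hinv, show fromBlocks 1 (-γ) 0 1 * P⁻¹ * G * P' =
      fromBlocks 1 (-γ) 0 1 * ((P⁻¹ * G * P) * fromBlocks 1 γ 0 1) by simp only [P', Matrix.mul_assoc]]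
    conv_lhs => rw [← fromBlocks_toBlocks (P⁻¹ * G * P), fromBlocks_multiply, fromBlocks_multiply]
    simp
  have hkey : d • (Y * (c * γ)) + d • Y = d' • Y := by
    have : (P'⁻¹ * G * P').toBlocks₂₂ = d' • Y := by
      rw [← Matrix.mul_one (P'⁻¹ * G * P').toBlocks₂₂, ← Matrix.nonsing_inv_mul _ hYu, ← Matrix.mul_assoc, hd',
        Matrix.smul_mul, Matrix.one_mul]
    rw [hT', e21, hT] at this
    rwa [Matrix.smul_mul, Matrix.smul_mul, Matrix.mul_assoc] at this
  have hcv : v *ᵥ Pi.single a₀ 1 ≠ 0 := fun e => by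
    have := congrFun (hv _ e) a₀
    simp at this
  have hdd : d = d' := by
    have h := congrArg (fun M : Matrix κ κ F => M *ᵥ (c *ᵥ Pi.single a₀ 1)) hkey
    simp only [Matrix.add_mulVec, Matrix.smul_mulVec, Matrix.mulVec_mulVec, Matrix.add_mul, Matrix.smul_mul,
      Matrix.mul_assoc, hγc, Matrix.mul_zero, Matrix.zero_mulVec, smul_zero, zero_add, hYc] at h
    exact smul_left_injective F hcv h
  rw [hdd] at hkey
  have hd0 : d' ≠ 0 := by
    intro e
    rw [← hdd] at e
    have hz0 : G.det = 0 := by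
      obtain ⟨e21', e11'⟩ := form_of_map (G := G) hQP hP1 hP2
      have hG : (P⁻¹ * G * P).det = G.det := by
        rw [det_mul, det_mul, mul_comm, ← mul_assoc, ← det_mul, Matrix.mul_nonsing_inv _ (by rw [hP]; exact isUnit_one),
          det_one, one_mul]
      rw [← hG, ← fromBlocks_toBlocks (P⁻¹ * G * P), e21', hT, e, zero_smul, Matrix.zero_mul, det_fromBlocks_zero₂₁]
      haveI : Nonempty κ := Fintype.card_pos_iff.1 (by omega)
      simp
    exact hGdet hz0
  have h0 : Y * (c * γ) = 0 := by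
    have : d' • (Y * (c * γ)) = 0 := by simpa using hkey
    exact (smul_eq_zero.1 this).resolve_left hd0
  rw [← Matrix.mul_assoc, hYc] at h0
  obtain ⟨j, hj⟩ := Function.ne_iff.1 hr0
  refine hcv (funext fun i => ?_)
  have := congrFun (congrFun h0 i) j
  simp [γ, Matrix.mul_apply, Matrix.vecMulVec_apply, Pi.single_apply] at this
  simpa [Matrix.mulVec_single_one] using this.resolve_right hj

/-- the lower form, by a conjugation of determinant one -/
theorem exists_lower [Nonempty ι] {α : F} {ρ : Matrix ι κ F} {Xb Y : Matrix κ κ F} {v : Matrix κ ι F}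
    (h : Sim (fromBlocks (α • 1) 0 v Y) (fromBlocks (α • 1) ρ 0 Xb)) :
    ∃ Z : Matrix ι ι F, IsUnit Z.det ∧ Conj1 (fromBlocks (α • 1) ρ 0 Xb) (fromBlocks (α • 1) 0 (v * Z⁻¹) Y) := by
  obtain ⟨P, Q, h1, -, h3⟩ := h
  have hne : P.det ≠ 0 := fun e => by
    have := congrArg Matrix.det h1
    rw [det_mul, e, zero_mul, det_one] at this
    exact zero_ne_one this
  obtain ⟨Z, hZ⟩ := exists_det_diagonal (ι := ι) P.det⁻¹
  have hu : IsUnit Z.det := by rw [hZ]; exact (inv_ne_zero hne).isUnit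
  refine ⟨Z, hu, fromBlocks Z 0 0 (1 : Matrix κ κ F) * P, ?_, ?_⟩
  · rw [det_mul, det_fromBlocks_zero₂₁, hZ, det_one, mul_one, inv_mul_cancel₀ hne]
  · rw [Matrix.mul_assoc, ← h3, ← Matrix.mul_assoc, ← Matrix.mul_assoc]
    congr 1
    rw [fromBlocks_multiply, fromBlocks_multiply]
    simp [Matrix.mul_assoc, Matrix.nonsing_inv_mul _ hu]

/-- a nonscalar matrix moves some vector off its line -/
theorem exists_moved {G : Matrix ι ι F} (h : Nonscalar G) : ∃ z : ι → F, LinearIndependent F ![z, G *ᵥ z] := by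
  classical
  by_contra hno
  push Not at hno
  have eig : ∀ z : ι → F, z ≠ 0 → ∃ d : F, d • z = G *ᵥ z := fun z hz => by
    have := hno z
    rw [LinearIndependent.pair_iff' hz] at this
    push Not at this
    exact this
  have hd : ∀ i, ∃ d : F, G *ᵥ Pi.single i 1 = d • Pi.single i 1 := fun i => by
    obtain ⟨d, e⟩ := eig (Pi.single i 1) (by simp)
    exact ⟨d, e.symm⟩
  choose d hd using hd
  rcases isEmpty_or_nonempty ι with hι | ⟨⟨k⟩⟩
  · exact h 0 (Subsingleton.elim _ _)
  refine h (d k) (Matrix.ext fun i j => ?_)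
  have hval : ∀ i j, G i j = d j * (Pi.single j (1 : F) : ι → F) i := fun i j => by
    simpa [Matrix.mulVec_single_one] using congrFun (hd j) i
  by_cases hij : i = j
  · subst hij
    by_cases hik : i = k
    · subst hik; simp [hval]
    · obtain ⟨e, he⟩ := eig (Pi.single i 1 + Pi.single k 1) (fun e0 => by simpa [hik] using congrFun e0 i)
      rw [Matrix.mulVec_add, hd, hd] at he
      have h1 := congrFun he i
      have h2 := congrFun he k
      simp [hik, Ne.symm hik] at h1 h2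
      simp [hval, ← h1, h2]
  · simp [hval, hij]

end CfsgLib.Known.CoverPSL
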