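import Cfsg.Agent.Lib.Known.CoverPSL.Linear
import Cfsg.Agent.Lib.Known.CoverPSL.Cyclic

/-!
# Products of two triangular matrices with prescribed diagonals

If `G` has size at least three and differs from every scalar by a matrix of rank at least two, then `G` is
similar to `L * U` with `L` lower, `U` upper triangular, both with prescribed diagonals (of the right product)
and without zeros next to the diagonal.
-/

set_option autoImplicit false
set_option linter.unusedSectionVars false
set_option linter.style.haveILetI false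

open Matrix Polynomial CfsgLib.Ore

namespace CfsgLib.Known.CoverPSL

universe u

variable {F : Type u} [Field F]
variable {ι : Type*} [Fintype ι] [DecidableEq ι]

/-- a field element outside a small set -/
theorem exists_avoid_list [Fintype F] (l : List F) (h : l.length < Fintype.card F) : ∃ s : F, s ∉ l := by
  classical
  by_contra hno
  push Not at hno
  have : Fintype.card F ≤ l.toFinset.card := by
    rw [← Finset.card_univ]
    exact Finset.card_le_card fun a _ => List.mem_toFinset.2 (hno a)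
  exact absurd (this.trans (List.toFinset_card_le l)) (not_le.2 h)

theorem exists_notMem_two {p q : Submodule F (ι → F)} (hp : p ≠ ⊤) (hq : q ≠ ⊤) :
    ∃ w, w ∉ p ∧ w ∉ q := by
  obtain ⟨a, -, ha⟩ := SetLike.exists_of_lt hp.lt_top
  obtain ⟨b, -, hb⟩ := SetLike.exists_of_lt hq.lt_top
  by_cases h1 : a ∈ q
  · by_cases h2 : b ∈ p
    · refine ⟨a + b, fun h => ha ?_, fun h => hb ?_⟩
      · simpa using p.sub_mem h h2
      · simpa using q.sub_mem h h1
    · exact ⟨b, h2, hb⟩
  · exact ⟨a, ha, h1⟩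

theorem span_ne_top {σ : Type*} [Fintype σ] (a : σ → ι → F) (h : Fintype.card σ < Fintype.card ι) :
    Submodule.span F (Set.range a) ≠ ⊤ := by
  intro e
  have := finrank_range_le_card (R := F) a
  rw [Set.finrank, e, finrank_top, Module.finrank_fintype_fun_eq_card] at this
  omega

theorem indep_snoc {k : ℕ} {a : Fin k → ι → F} (ha : LinearIndependent F a) {x : ι → F}
    (hx : x ∉ Submodule.span F (Set.range a)) : LinearIndependent F (Fin.snoc a x : Fin (k + 1) → ι → F) :=
  linearIndependent_finSnoc.2 ⟨ha, hx⟩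

theorem indep_four {a b c d : ι → F} (h : LinearIndependent F ![a, b, c])
    (hd : d ∉ Submodule.span F (Set.range ![a, b, c])) : LinearIndependent F ![a, b, c, d] := by
  have := indep_snoc h hd
  convert this using 1
  funext i
  fin_cases i <;> rfl

theorem indep_three {a b c : ι → F} (h : LinearIndependent F ![a, b])
    (hc : c ∉ Submodule.span F (Set.range ![a, b])) : LinearIndependent F ![a, b, c] := by
  have := indep_snoc h hc
  convert this using 1
  funext i
  fin_cases i <;> rfl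

theorem mem_span2 {a b x : ι → F} : x ∈ Submodule.span F (Set.range ![a, b]) ↔ ∃ r s : F, r • a + s • b = x := by
  rw [Submodule.mem_span_range_iff_exists_fun]
  constructor
  · rintro ⟨c, rfl⟩
    exact ⟨c 0, c 1, by simp [Fin.sum_univ_two]⟩
  · rintro ⟨r, s, rfl⟩
    exact ⟨![r, s], by simp [Fin.sum_univ_two]⟩

theorem mem_span3 {a b c x : ι → F} :
    x ∈ Submodule.span F (Set.range ![a, b, c]) ↔ ∃ r s t : F, r • a + s • b + t • c = x := by
  rw [Submodule.mem_span_range_iff_exists_fun]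
  constructor
  · rintro ⟨d, rfl⟩
    exact ⟨d 0, d 1, d 2, by simp [Fin.sum_univ_three]⟩
  · rintro ⟨r, s, t, rfl⟩
    exact ⟨![r, s, t], by simp [Fin.sum_univ_three]⟩

theorem indep4_iff {a b c d : ι → F} :
    LinearIndependent F ![a, b, c, d] ↔
      ∀ p q r s : F, p • a + q • b + r • c + s • d = 0 → p = 0 ∧ q = 0 ∧ r = 0 ∧ s = 0 := by
  rw [Fintype.linearIndependent_iff]
  constructor
  · intro h p q r s e
    have := h ![p, q, r, s] (by simpa [Fin.sum_univ_four] using e)
    exact ⟨this 0, this 1, this 2, this 3⟩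
  · intro h g e i
    obtain ⟨h0, h1, h2, h3⟩ := h (g 0) (g 1) (g 2) (g 3) (by simpa [Fin.sum_univ_four] using e)
    fin_cases i <;> assumption

theorem indep3_iff {a b c : ι → F} :
    LinearIndependent F ![a, b, c] ↔ ∀ p q r : F, p • a + q • b + r • c = 0 → p = 0 ∧ q = 0 ∧ r = 0 := by
  rw [Fintype.linearIndependent_iff]
  constructor
  · intro h p q r e
    have := h ![p, q, r] (by simpa [Fin.sum_univ_three] using e)
    exact ⟨this 0, this 1, this 2⟩
  · intro h g e i
    obtain ⟨h0, h1, h2⟩ := h (g 0) (g 1) (g 2) (by simpa [Fin.sum_univ_three] using e)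
    fin_cases i <;> assumption

/-- a third Krylov vector gives two independent pairs -/
theorem exists_quad_of_cyclic (G : Matrix ι ι F) (hn : 4 ≤ Fintype.card ι) {v : ι → F}
    (h : LinearIndependent F ![v, G *ᵥ v, G *ᵥ (G *ᵥ v)]) :
    ∃ x, LinearIndependent F ![v, G *ᵥ v, x, G *ᵥ x] := by
  by_cases h3 : G *ᵥ (G *ᵥ (G *ᵥ v)) ∈ Submodule.span F (Set.range ![v, G *ᵥ v, G *ᵥ (G *ᵥ v)])
  swap
  · exact ⟨_, indep_four h h3⟩
  obtain ⟨y, -, hy⟩ := SetLike.exists_of_lt
    (span_ne_top ![v, G *ᵥ v, G *ᵥ (G *ᵥ v)] (by simp; omega)).lt_top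
  by_contra hno
  push Not at hno
  have hy2 : y ∉ Submodule.span F (Set.range ![v, G *ᵥ v]) := fun e => hy (by
    obtain ⟨r, s, e⟩ := mem_span2.1 e
    exact mem_span3.2 ⟨r, s, 0, by simp [e]⟩)
  have hvy : LinearIndependent F ![v, G *ᵥ v] := by
    rw [LinearIndependent.pair_iff]
    intro r s e
    obtain ⟨h1, h2, -⟩ := indep3_iff.1 h r s 0 (by simp [e])
    exact ⟨h1, h2⟩
  have hb : ∀ c : F, y + c • (G *ᵥ v) ∉ Submodule.span F (Set.range ![v, G *ᵥ v]) := fun c e => hy2 (by
    have := Submodule.sub_mem _ e (Submodule.smul_mem _ c (Submodule.subset_span ⟨1, rfl⟩ :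
      G *ᵥ v ∈ Submodule.span F (Set.range ![v, G *ᵥ v])))
    simpa using this)
  have hm : ∀ c : F, G *ᵥ (y + c • (G *ᵥ v)) ∈
      Submodule.span F (Set.range ![v, G *ᵥ v, y + c • (G *ᵥ v)]) := fun c => by
    by_contra e
    exact hno _ (indep_four (indep_three hvy (hb c)) e)
  obtain ⟨r, s, t, e0⟩ := mem_span3.1 (hm 0)
  obtain ⟨r', s', t', e1⟩ := mem_span3.1 (hm 1)
  simp only [zero_smul, add_zero, one_smul, Matrix.mulVec_add] at e0 e1
  have key : G *ᵥ (G *ᵥ v) = (r' - r) • v + (s' - s + t') • (G *ᵥ v) + (t' - t) • y := by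
    rw [← e0] at e1
    linear_combination (norm := module) -e1
  have htt : t' = t := by
    by_contra hne
    refine hy (mem_span3.2 ⟨-(r' - r) / (t' - t), -(s' - s + t') / (t' - t), 1 / (t' - t), ?_⟩)
    have hz : t' - t ≠ 0 := sub_ne_zero.2 hne
    rw [key, smul_add, smul_add, smul_smul, smul_smul, smul_smul, one_div, inv_mul_cancel₀ hz, one_smul,
      div_eq_mul_inv, div_eq_mul_inv]
    module
  obtain ⟨-, -, hc⟩ := indep3_iff.1 h (-(r' - r)) (-(s' - s + t')) 1 (by
    rw [key, htt, sub_self, zero_smul, add_zero]; module)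
  exact one_ne_zero hc

/-- either two independent pairs, or a rank one deviation from a scalar -/
theorem quad_or_rankone (G : Matrix ι ι F) (hn : 4 ≤ Fintype.card ι) :
    (∃ v x, LinearIndependent F ![v, G *ᵥ v, x, G *ᵥ x]) ∨ ∃ (t : F) (x y : ι → F), G = t • 1 + vecMulVec x y := by
  by_contra hno
  push Not at hno
  obtain ⟨hq, hr⟩ := hno
  -- a vector which is no eigenvector
  obtain ⟨v, hv⟩ : ∃ v, LinearIndependent F ![v, G *ᵥ v] := by
    by_contra hno
    push Not at hno
    have hev : ∀ v, v ≠ 0 → ∃ c : F, G *ᵥ v = c • v := fun v hv => by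
      have := hno v
      rw [LinearIndependent.pair_iff' hv] at this
      push Not at this
      obtain ⟨c, hc⟩ := this
      exact ⟨c, hc.symm⟩
    obtain ⟨c, hc⟩ : ∃ c : F, ∀ v, G *ᵥ v = c • v := by
      haveI : Nontrivial (ι → F) := by
        haveI : Nonempty ι := Fintype.card_pos_iff.1 (by omega)
        infer_instance
      obtain ⟨p, hp⟩ := exists_ne (0 : ι → F)
      obtain ⟨c, hc⟩ := hev p hp
      refine ⟨c, fun w => ?_⟩
      by_cases hwp : ∃ s : F, s • p = w
      · obtain ⟨s, rfl⟩ := hwp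
        rw [Matrix.mulVec_smul, hc, smul_comm]
      · push Not at hwp
        obtain ⟨d, hd⟩ := hev w (fun e => hwp 0 (by rw [zero_smul, e]))
        obtain ⟨e, he⟩ := hev (p + w) (fun e => hwp (-1) (by rw [neg_one_smul]; exact (eq_neg_of_add_eq_zero_right e).symm))
        have hind : LinearIndependent F ![p, w] := (LinearIndependent.pair_iff' hp).2 hwp
        rw [Matrix.mulVec_add, hc, hd, smul_add] at he
        obtain ⟨h1, h2⟩ := LinearIndependent.pair_iff.1 hind (c - e) (d - e)
          (by linear_combination (norm := module) he)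
        rw [hd, show d = c by linear_combination h2 - h1]
    refine hr c 0 0 (Matrix.ext_iff_mulVec.2 fun w => ?_)
    simp [hc w, Matrix.smul_mulVec]
  set S := Submodule.span F (Set.range ![v, G *ᵥ v]) with hS
  have hSv : v ∈ S := Submodule.subset_span ⟨0, rfl⟩
  have hSGv : G *ᵥ v ∈ S := Submodule.subset_span ⟨1, rfl⟩
  have hbad : ∀ w, w ∉ S → ∃ s ∈ S, ∃ a : F, G *ᵥ w = a • w + s := by
    intro w hw
    have h3 := indep_three hv hw
    have : G *ᵥ w ∈ Submodule.span F (Set.range ![v, G *ᵥ v, w]) := by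
      by_contra e; exact hq v w (indep_four h3 e)
    obtain ⟨r, s, t, e⟩ := mem_span3.1 this
    exact ⟨_, S.add_mem (S.smul_mem r hSv) (S.smul_mem s hSGv), t, by rw [← e]; abel⟩
  have hStop : S ≠ ⊤ := span_ne_top _ (by simp; omega)
  obtain ⟨w₁, -, hw₁⟩ := SetLike.exists_of_lt hStop.lt_top
  obtain ⟨w₂, hw₂⟩ : ∃ w₂, w₂ ∉ Submodule.span F (Set.range ![v, G *ᵥ v, w₁]) := by
    obtain ⟨w, -, hw⟩ := SetLike.exists_of_lt (span_ne_top ![v, G *ᵥ v, w₁] (by simp; omega)).lt_top
    exact ⟨w, hw⟩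
  have hS3 : ∀ {x : ι → F}, x ∈ S → x ∈ Submodule.span F (Set.range ![v, G *ᵥ v, w₁]) := fun hx => by
    obtain ⟨r, s, e⟩ := mem_span2.1 hx
    exact mem_span3.2 ⟨r, s, 0, by simp [e]⟩
  have hw₂S : w₂ ∉ S := fun e => hw₂ (hS3 e)
  -- the space is invariant
  have hG2 : G *ᵥ (G *ᵥ v) ∈ S := by
    have key : ∀ w, w ∉ S → ∃ s ∈ S, ∃ c : F, G *ᵥ (G *ᵥ v) = c • w + s := by
      intro w hw
      obtain ⟨s, hs, a, e⟩ := hbad w hw
      obtain ⟨s', hs', b, e'⟩ := hbad (w + G *ᵥ v) (fun h => hw (by simpa using S.sub_mem h hSGv))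
      refine ⟨b • (G *ᵥ v) + s' - s, S.sub_mem (S.add_mem (S.smul_mem b hSGv) hs') hs, b - a, ?_⟩
      rw [Matrix.mulVec_add, e] at e'
      linear_combination (norm := module) e'
    obtain ⟨s, hs, c, e⟩ := key w₁ hw₁
    obtain ⟨s', hs', c', e'⟩ := key w₂ hw₂S
    by_cases hc : c' = 0
    · rw [e', hc, zero_smul, zero_add]; exact hs'
    · refine absurd ?_ hw₂
      have hx : w₂ = (c / c') • w₁ + c'⁻¹ • (s - s') := by
        have h := e'.symm.trans e
        calc w₂ = c'⁻¹ • (c' • w₂ + s' - s') := by rw [add_sub_cancel_right, smul_smul, inv_mul_cancel₀ hc, one_smul]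
          _ = _ := by rw [h, div_eq_inv_mul]; module
      rw [hx]
      exact Submodule.add_mem _ (Submodule.smul_mem _ _ (Submodule.subset_span ⟨2, rfl⟩))
        (hS3 (S.smul_mem _ (S.sub_mem hs hs')))
  obtain ⟨s₁, hs₁, α, eα⟩ := hbad w₁ hw₁
  let N := G - α • (1 : Matrix ι ι F)
  have hNmul : ∀ x, N *ᵥ x = G *ᵥ x - α • x := fun x => by simp [N, Matrix.sub_mulVec, Matrix.smul_mulVec]
  have hNS : ∀ x ∈ S, N *ᵥ x ∈ S := by
    intro x hx
    obtain ⟨r, s, rfl⟩ := mem_span2.1 hx
    rw [hNmul, Matrix.mulVec_add, Matrix.mulVec_smul, Matrix.mulVec_smul]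
    exact S.sub_mem (S.add_mem (S.smul_mem _ hSGv) (S.smul_mem _ hG2)) (S.smul_mem _ hx)
  have hN : ∀ x, N *ᵥ x ∈ S := by
    intro x
    by_cases hx : x ∈ Submodule.span F (Set.range ![v, G *ᵥ v, w₁])
    · obtain ⟨r, s, t, rfl⟩ := mem_span3.1 hx
      rw [Matrix.mulVec_add, Matrix.mulVec_smul N t w₁, hNmul w₁, eα, add_sub_cancel_left]
      exact S.add_mem (hNS _ (S.add_mem (S.smul_mem r hSv) (S.smul_mem s hSGv))) (S.smul_mem t hs₁)
    · have hxS : x ∉ S := fun h => hx (hS3 h)
      obtain ⟨s, hs, a, e⟩ := hbad x hxS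
      obtain ⟨s', hs', b, e'⟩ := hbad (x + w₁) (fun h => hx (by
        have := Submodule.sub_mem _ (hS3 h)
          (Submodule.subset_span ⟨2, rfl⟩ : w₁ ∈ Submodule.span F (Set.range ![v, G *ᵥ v, w₁]))
        simpa using this))
      rw [Matrix.mulVec_add, e, eα] at e'
      have ha : a = b := by
        by_contra hab
        refine hx ?_
        have hz : a - b ≠ 0 := sub_ne_zero.2 hab
        have : x = ((b - α) / (a - b)) • w₁ + (a - b)⁻¹ • (s' - s - s₁) := by
          calc x = (a - b)⁻¹ • ((a - b) • x) := by rw [smul_smul, inv_mul_cancel₀ hz, one_smul]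
            _ = _ := by
              rw [show (a - b) • x = (b - α) • w₁ + (s' - s - s₁) by linear_combination (norm := module) e',
                smul_add, smul_smul, inv_mul_eq_div]
        rw [this]
        exact Submodule.add_mem _ (Submodule.smul_mem _ _ (Submodule.subset_span ⟨2, rfl⟩))
          (hS3 (S.smul_mem _ (S.sub_mem (S.sub_mem hs' hs) hs₁)))
      have hb : b = α := by
        by_contra hba
        refine hw₁ ?_
        have : w₁ = (α - b)⁻¹ • (s' - s - s₁) := by
          rw [show s' - s - s₁ = (α - b) • w₁ by rw [ha] at e'; linear_combination (norm := module) -e',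
            smul_smul, inv_mul_cancel₀ (sub_ne_zero.2 (Ne.symm hba)), one_smul]
        rw [this]
        exact S.smul_mem _ (S.sub_mem (S.sub_mem hs' hs) hs₁)
      rw [hNmul, e, ha, hb, add_sub_cancel_left]
      exact hs
  -- the image is all of `S`, otherwise the deviation has rank one
  by_cases hline : ∃ e, ∀ x, ∃ c : F, N *ᵥ x = c • e
  · obtain ⟨e, he⟩ := hline
    choose c hc using he
    refine hr α e (fun j => c (Pi.single j 1)) (Matrix.ext fun i j => ?_)
    have := congrFun (hc (Pi.single j 1)) i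
    simp [N, Matrix.sub_mulVec, Matrix.smul_mulVec, sub_eq_iff_eq_add] at this
    rw [this]
    simp [Matrix.vecMulVec_apply, Matrix.one_apply, Pi.single_apply]
    ring
  push Not at hline
  have hker : LinearMap.ker N.mulVecLin ≠ ⊤ := fun e => by
    obtain ⟨x, hx⟩ := hline 0
    exact hx 0 (by
      have : x ∈ LinearMap.ker N.mulVecLin := by rw [e]; exact Submodule.mem_top
      simpa using this)
  obtain ⟨p, hpS, hpk⟩ := exists_notMem_two hStop hker
  have hpk' : N *ᵥ p ≠ 0 := by simpa using hpk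
  have hline' : Submodule.comap N.mulVecLin (F ∙ (N *ᵥ p)) ≠ ⊤ := fun e => by
    obtain ⟨x, hx⟩ := hline (N *ᵥ p)
    have : x ∈ Submodule.comap N.mulVecLin (F ∙ (N *ᵥ p)) := by rw [e]; exact Submodule.mem_top
    obtain ⟨c, hc⟩ := Submodule.mem_span_singleton.1 this
    exact hx c (by simpa using hc.symm)
  obtain ⟨r, hr1, hr2⟩ := exists_notMem_two (span_ne_top ![v, G *ᵥ v, p] (by simp; omega)) hline'
  refine hq p r ?_
  rw [indep4_iff]
  intro a b c d e
  have eN : (b • (N *ᵥ p) + d • (N *ᵥ r)) + ((a + α * b) • p + (c + α * d) • r) = 0 := by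
    rw [hNmul, hNmul]
    linear_combination (norm := module) e
  obtain ⟨i, j, hij⟩ := mem_span2.1 (S.add_mem (S.smul_mem b (hN p)) (S.smul_mem d (hN r)))
  rw [← hij] at eN
  obtain ⟨hi, hj, hp', hr'⟩ := indep4_iff.1 (indep_four (indep_three hv hpS) hr1) i j (a + α * b) (c + α * d)
    (by linear_combination (norm := module) eN)
  have e0 : b • (N *ᵥ p) + d • (N *ᵥ r) = 0 := by rw [← hij, hi, hj, zero_smul, zero_smul, add_zero]
  have hd : d = 0 := by
    by_contra hd
    refine hr2 (Submodule.mem_span_singleton.2 ⟨-b / d, ?_⟩)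
    show (-b / d) • (N *ᵥ p) = N *ᵥ r
    rw [div_eq_inv_mul, ← smul_smul, show (-b) • (N *ᵥ p) = d • (N *ᵥ r) by linear_combination (norm := module) -e0,
      smul_smul, inv_mul_cancel₀ hd, one_smul]
  rw [hd, zero_smul, add_zero, smul_eq_zero] at e0
  have hb := e0.resolve_right hpk'
  rw [hb, mul_zero, add_zero] at hp'
  rw [hd, mul_zero, add_zero] at hr'
  exact ⟨hp', hb, hr', hd⟩

/-- in dimension three: a cyclic vector, or a rank one deviation from a scalar -/
theorem cyclic_or_rankone (G : Matrix ι ι F) (hn : Fintype.card ι = 3) :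
    (∃ v, LinearIndependent F ![v, G *ᵥ v, G *ᵥ (G *ᵥ v)]) ∨
      ∃ (t : F) (x y : ι → F), G = t • 1 + vecMulVec x y := by
  by_contra hno
  push Not at hno
  obtain ⟨hq, hr⟩ := hno
  obtain ⟨v, hv⟩ : ∃ v, LinearIndependent F ![v, G *ᵥ v] := by
    by_contra hno
    push Not at hno
    -- every vector is an eigenvector
    have hev : ∀ v, v ≠ 0 → ∃ c : F, c • v = G *ᵥ v := fun v hv => by
      have := hno v
      rw [LinearIndependent.pair_iff' hv] at this
      push Not at this
      exact this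
    haveI : Nonempty ι := Fintype.card_pos_iff.1 (by omega)
    obtain ⟨p⟩ := (inferInstance : Nonempty ι)
    have hd : ∀ j, ∃ c : F, c • (Pi.single j 1 : ι → F) = G *ᵥ Pi.single j 1 := fun j => hev _ (by simp)
    choose c hc using hd
    have heq : ∀ j, c j = c p := fun j => by
      by_cases hj : j = p
      · rw [hj]
      obtain ⟨e, he⟩ := hev (Pi.single j 1 + Pi.single p 1) (fun e => by
        have := congrFun e j; simp [hj] at this)
      rw [Matrix.mulVec_add, ← hc, ← hc] at he
      have h1 := congrFun he j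
      have h2 := congrFun he p
      simp [hj, Ne.symm hj] at h1 h2
      exact h1.symm.trans h2
    refine hr (c p) 0 0 (Matrix.ext fun i j => ?_)
    have := congrFun (hc j) i
    simp [heq] at this
    rw [← this]
    simp [Matrix.one_apply, Pi.single_apply]
  set S := Submodule.span F (Set.range ![v, G *ᵥ v]) with hS
  have hSv : v ∈ S := Submodule.subset_span ⟨0, rfl⟩
  have hSGv : G *ᵥ v ∈ S := Submodule.subset_span ⟨1, rfl⟩
  have hG2 : G *ᵥ (G *ᵥ v) ∈ S := by by_contra e; exact hq v (indep_three hv e)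
  obtain ⟨x, -, hx⟩ := SetLike.exists_of_lt (span_ne_top ![v, G *ᵥ v] (by simp; omega)).lt_top
  have hbasis : ∀ y, y ∈ Submodule.span F (Set.range ![v, G *ᵥ v, x]) := fun y => by
    have h := (indep_three hv hx).span_eq_top_of_card_eq_finrank (by simp [hn])
    rw [h]; exact Submodule.mem_top
  obtain ⟨r, s, α, eα⟩ := mem_span3.1 (hbasis (G *ᵥ x))
  let N := G - α • (1 : Matrix ι ι F)
  have hNmul : ∀ x, N *ᵥ x = G *ᵥ x - α • x := fun x => by simp [N, Matrix.sub_mulVec, Matrix.smul_mulVec]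
  have hNx : N *ᵥ x = r • v + s • (G *ᵥ v) := by rw [hNmul, ← eα, add_sub_cancel_right]
  have hN2 : N *ᵥ (N *ᵥ v) ∈ S := by
    rw [hNmul, hNmul, Matrix.mulVec_sub, Matrix.mulVec_smul]
    exact S.sub_mem (S.sub_mem hG2 (S.smul_mem _ hSGv)) (S.smul_mem _ (S.sub_mem hSGv (S.smul_mem _ hSv)))
  -- it is enough to find a Krylov basis for `N`
  have krylov : ∀ w, LinearIndependent F ![w, N *ᵥ w, N *ᵥ (N *ᵥ w)] → False := fun w h => by
    refine hq w (indep3_iff.2 fun a b c e => ?_)
    obtain ⟨h1, h2, h3⟩ := indep3_iff.1 h (a + α * b + α * α * c) (b + 2 * α * c) c (by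
      rw [hNmul, hNmul, Matrix.mulVec_sub, Matrix.mulVec_smul]
      linear_combination (norm := module) e)
    rw [h3, mul_zero, add_zero] at h2
    rw [h2, h3] at h1
    exact ⟨by simpa using h1, h2, h3⟩
  have hNv : N *ᵥ v ≠ 0 := fun e => by
    rw [hNmul, sub_eq_zero] at e
    have := LinearIndependent.pair_iff.1 hv (-α) 1 (by rw [e]; module)
    exact one_ne_zero this.2
  by_cases hinj : ∀ y ∈ S, N *ᵥ y = 0 → y = 0
  · -- then some translate of `x` is an eigenvector
    obtain ⟨y, hyS, hy⟩ : ∃ y ∈ S, N *ᵥ y = N *ᵥ x := by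
      have hind : LinearIndependent F ![N *ᵥ v, N *ᵥ (G *ᵥ v)] := by
        rw [LinearIndependent.pair_iff]
        intro a b e
        have := hinj (a • v + b • (G *ᵥ v)) (S.add_mem (S.smul_mem _ hSv) (S.smul_mem _ hSGv))
          (by rw [Matrix.mulVec_add, Matrix.mulVec_smul, Matrix.mulVec_smul]; exact e)
        exact LinearIndependent.pair_iff.1 hv a b this
      have hmem : N *ᵥ (G *ᵥ v) ∈ S := by
        rw [hNmul]; exact S.sub_mem hG2 (S.smul_mem _ hSGv)
      have hNvS : N *ᵥ v ∈ S := by rw [hNmul]; exact S.sub_mem hSGv (S.smul_mem _ hSv)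
      have hle : Submodule.span F (Set.range ![N *ᵥ v, N *ᵥ (G *ᵥ v)]) ≤ S := by
        rw [Submodule.span_le]; rintro _ ⟨i, rfl⟩; fin_cases i
        · exact hNvS
        · exact hmem
      have heq : Submodule.span F (Set.range ![N *ᵥ v, N *ᵥ (G *ᵥ v)]) = S :=
        Submodule.eq_of_le_of_finrank_eq hle (by
          rw [finrank_span_eq_card hind, hS, finrank_span_eq_card hv])
      have : N *ᵥ x ∈ Submodule.span F (Set.range ![N *ᵥ v, N *ᵥ (G *ᵥ v)]) := by
        rw [heq, hNx]; exact S.add_mem (S.smul_mem _ hSv) (S.smul_mem _ hSGv)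
      obtain ⟨a, b, e⟩ := mem_span2.1 this
      exact ⟨a • v + b • (G *ᵥ v), S.add_mem (S.smul_mem _ hSv) (S.smul_mem _ hSGv),
        by rw [Matrix.mulVec_add, Matrix.mulVec_smul, Matrix.mulVec_smul, e]⟩
    have hz : x - y ∉ S := fun e => hx (by have h := S.add_mem e hyS; rwa [sub_add_cancel] at h)
    have hNz : N *ᵥ (x - y) = 0 := by rw [Matrix.mulVec_sub, hy, sub_self]
    refine krylov (v + (x - y)) (indep3_iff.2 fun a b c e => ?_)
    rw [Matrix.mulVec_add, hNz, add_zero] at e
    have hNvS : N *ᵥ v ∈ S := by rw [hNmul]; exact S.sub_mem hSGv (S.smul_mem _ hSv)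
    have ha : a = 0 := by
      by_contra ha
      refine hz ?_
      have : x - y = a⁻¹ • -(a • v + b • (N *ᵥ v) + c • (N *ᵥ (N *ᵥ v))) := by
        rw [show -(a • v + b • (N *ᵥ v) + c • (N *ᵥ (N *ᵥ v))) = a • (x - y) by linear_combination (norm := module) -e,
          smul_smul, inv_mul_cancel₀ ha, one_smul]
      rw [this]
      exact S.smul_mem _ (S.neg_mem (S.add_mem (S.add_mem (S.smul_mem _ hSv) (S.smul_mem _ hNvS)) (S.smul_mem _ hN2)))
    rw [ha, zero_smul, zero_add] at e
    have e' := hinj (b • v + c • (N *ᵥ v)) (S.add_mem (S.smul_mem _ hSv) (S.smul_mem _ hNvS))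
      (by rw [Matrix.mulVec_add, Matrix.mulVec_smul, Matrix.mulVec_smul]; exact e)
    obtain ⟨h1, h2⟩ := LinearIndependent.pair_iff.1 hv (b - α * c) c
      (by rw [hNmul] at e'; linear_combination (norm := module) e')
    exact ⟨ha, by simpa [h2] using h1, h2⟩
  push Not at hinj
  obtain ⟨e₀, he₀S, he₀, he₀0⟩ := hinj
  -- the image of `S` is the line of `N v`
  have hline : ∀ y ∈ S, ∃ c : F, N *ᵥ y = c • (N *ᵥ v) := by
    intro y hy
    obtain ⟨a, b, e⟩ := mem_span2.1 he₀S
    obtain ⟨a', b', rfl⟩ := mem_span2.1 hy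
    have hb : b ≠ 0 := fun hb => by
      rw [hb, zero_smul, add_zero] at e
      have ha : a ≠ 0 := fun ha => he₀0 (by rw [← e, ha, zero_smul])
      rw [← e, Matrix.mulVec_smul, smul_eq_zero] at he₀
      exact he₀.elim ha hNv
    rw [← e, Matrix.mulVec_add, Matrix.mulVec_smul, Matrix.mulVec_smul] at he₀
    refine ⟨a' - b' * (a / b), ?_⟩
    have hG : N *ᵥ (G *ᵥ v) = (-(a / b)) • (N *ᵥ v) := by
      calc N *ᵥ (G *ᵥ v) = b⁻¹ • (b • (N *ᵥ (G *ᵥ v))) := by rw [smul_smul, inv_mul_cancel₀ hb, one_smul]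
        _ = b⁻¹ • ((-a) • (N *ᵥ v)) := by
          congr 1; linear_combination (norm := module) he₀
        _ = _ := by rw [smul_smul]; congr 1; ring
    rw [Matrix.mulVec_add, Matrix.mulVec_smul, Matrix.mulVec_smul, hG]
    module
  by_cases hxl : ∃ c : F, N *ᵥ x = c • (N *ᵥ v)
  · have hall : ∀ y, ∃ c : F, N *ᵥ y = c • (N *ᵥ v) := fun y => by
      obtain ⟨a, b, c, rfl⟩ := mem_span3.1 (hbasis y)
      obtain ⟨d, hd⟩ := hline _ (S.add_mem (S.smul_mem a hSv) (S.smul_mem b hSGv))
      obtain ⟨d', hd'⟩ := hxl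
      exact ⟨d + c * d', by rw [Matrix.mulVec_add, hd, Matrix.mulVec_smul, hd']; module⟩
    choose c hc using hall
    refine hr α (N *ᵥ v) (fun j => c (Pi.single j 1)) (Matrix.ext fun i j => ?_)
    have := congrFun (hc (Pi.single j 1)) i
    simp [N, Matrix.sub_mulVec, Matrix.smul_mulVec, sub_eq_iff_eq_add] at this
    rw [this]
    simp [N, Matrix.vecMulVec_apply, Matrix.one_apply, Pi.single_apply, Matrix.sub_mulVec, Matrix.smul_mulVec]
    ring
  have hxS : N *ᵥ x ∈ S := by rw [hNx]; exact S.add_mem (S.smul_mem _ hSv) (S.smul_mem _ hSGv)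
  by_cases hs0 : N *ᵥ (N *ᵥ x) = 0
  · -- use `x + v`
    obtain ⟨μ, hμ⟩ := hline (N *ᵥ v) (by rw [hNmul]; exact S.sub_mem hSGv (S.smul_mem _ hSv))
    have hμ0 : μ ≠ 0 := by
      intro e
      rw [e, zero_smul] at hμ
      -- the kernel in `S` would be the line of `N v`
      have hind : LinearIndependent F ![N *ᵥ v, v] := by
        rw [LinearIndependent.pair_iff]
        intro a b e
        rw [hNmul] at e
        obtain ⟨h1, h2⟩ := LinearIndependent.pair_iff.1 hv (b - α * a) a (by linear_combination (norm := module) e)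
        exact ⟨h2, by simpa [h2] using h1⟩
      have hspan : N *ᵥ x ∈ Submodule.span F (Set.range ![N *ᵥ v, v]) := by
        have hle : Submodule.span F (Set.range ![N *ᵥ v, v]) ≤ S := by
          rw [Submodule.span_le]; rintro _ ⟨i, rfl⟩; fin_cases i
          · show N *ᵥ v ∈ S; rw [hNmul]; exact S.sub_mem hSGv (S.smul_mem _ hSv)
          · exact hSv
        rw [Submodule.eq_of_le_of_finrank_eq hle (by rw [finrank_span_eq_card hind, hS, finrank_span_eq_card hv])]
        exact hxS
      obtain ⟨a, b, e'⟩ := mem_span2.1 hspan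
      rw [← e', Matrix.mulVec_add, Matrix.mulVec_smul, Matrix.mulVec_smul, hμ, smul_zero, zero_add,
        smul_eq_zero] at hs0
      exact hxl ⟨a, by rw [← e', hs0.resolve_right hNv, zero_smul, add_zero]⟩
    refine krylov (x + v) (indep3_iff.2 fun a b c e => ?_)
    rw [Matrix.mulVec_add, Matrix.mulVec_add, hs0, zero_add, hμ] at e
    have ha : a = 0 := by
      by_contra ha
      refine hx ?_
      have : x = a⁻¹ • -(a • v + b • (N *ᵥ x + N *ᵥ v) + c • μ • (N *ᵥ v)) := by
        rw [show -(a • v + b • (N *ᵥ x + N *ᵥ v) + c • μ • (N *ᵥ v)) = a • x by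
          linear_combination (norm := module) -e, smul_smul, inv_mul_cancel₀ ha, one_smul]
      rw [this]
      have hNvS : N *ᵥ v ∈ S := by rw [hNmul]; exact S.sub_mem hSGv (S.smul_mem _ hSv)
      exact S.smul_mem _ (S.neg_mem (S.add_mem (S.add_mem (S.smul_mem _ hSv)
        (S.smul_mem _ (S.add_mem hxS hNvS))) (S.smul_mem _ (S.smul_mem _ hNvS))))
    rw [ha, zero_smul, zero_add] at e
    have hb : b = 0 := by
      by_contra hb
      refine hxl ⟨-(b + c * μ) / b, ?_⟩
      calc N *ᵥ x = b⁻¹ • (b • (N *ᵥ x)) := by rw [smul_smul, inv_mul_cancel₀ hb, one_smul]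
        _ = b⁻¹ • ((-(b + c * μ)) • (N *ᵥ v)) := by congr 1; linear_combination (norm := module) e
        _ = _ := by rw [smul_smul, inv_mul_eq_div]
    rw [hb, zero_smul, zero_add, smul_smul, smul_eq_zero] at e
    exact ⟨ha, hb, (mul_eq_zero.1 (e.resolve_right hNv)).resolve_right hμ0⟩
  · refine krylov x (indep3_iff.2 fun a b c e => ?_)
    obtain ⟨d, hd⟩ := hline _ hxS
    have ha : a = 0 := by
      by_contra ha
      refine hx ?_
      have : x = a⁻¹ • -(b • (N *ᵥ x) + c • (N *ᵥ (N *ᵥ x))) := by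
        rw [show -(b • (N *ᵥ x) + c • (N *ᵥ (N *ᵥ x))) = a • x by linear_combination (norm := module) -e,
          smul_smul, inv_mul_cancel₀ ha, one_smul]
      rw [this, hd]
      have hNvS : N *ᵥ v ∈ S := by rw [hNmul]; exact S.sub_mem hSGv (S.smul_mem _ hSv)
      exact S.smul_mem _ (S.neg_mem (S.add_mem (S.smul_mem _ hxS) (S.smul_mem _ (S.smul_mem _ hNvS))))
    rw [ha, zero_smul, zero_add] at e
    have hb : b = 0 := by
      by_contra hb
      refine hxl ⟨-(c * d) / b, ?_⟩
      calc N *ᵥ x = b⁻¹ • (b • (N *ᵥ x)) := by rw [smul_smul, inv_mul_cancel₀ hb, one_smul]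
        _ = b⁻¹ • ((-(c * d)) • (N *ᵥ v)) := by congr 1; rw [hd] at e; linear_combination (norm := module) e
        _ = _ := by rw [smul_smul, inv_mul_eq_div]
    rw [hb, zero_smul, zero_add, smul_eq_zero] at e
    exact ⟨ha, hb, e.resolve_right hs0⟩

end CfsgLib.Known.CoverPSL
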