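import Cfsg.Agent.Lib.Known.CoverPSL.Products

/-!
# Reflections and transvections

A matrix with leading minors `δ ^ k` is a product of `n` row reflections of determinant `δ`.
Hence every `G` of determinant `δ ^ n` other than a scalar different from `δ` is a product of `n`
matrices similar to one fixed `1 + x yᵀ` of determinant `δ`.
-/

set_option autoImplicit false
set_option linter.unusedSectionVars false
set_option linter.style.haveILetI false

open Matrix Polynomial CfsgLib.Ore

namespace CfsgLib.Known.CoverPSL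

universe u

variable {F : Type u} [Field F]

/-- the first `k` rows of `M`, the other rows of one -/
def topRows {n : ℕ} (M : Matrix (Fin n) (Fin n) F) (k : ℕ) : Matrix (Fin n) (Fin n) F :=
  Matrix.of fun i j => if (i : ℕ) < k then M i j else (1 : Matrix (Fin n) (Fin n) F) i j

theorem exists_row_step {n : ℕ} {δ : F} (hδ : δ ≠ 0) {A B : Matrix (Fin n) (Fin n) F} (p : Fin n)
    (hA : A.det ≠ 0) (hB : B.det = δ * A.det) (h : ∀ i, i ≠ p → ∀ j, B i j = A i j) :
    ∃ x y, 1 + y ⬝ᵥ x = δ ∧ B = (1 + vecMulVec x y) * A := by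
  classical
  have hu : IsUnit A.det := isUnit_iff_ne_zero.2 hA
  obtain ⟨y, hy⟩ : ∃ y, y = (fun j => B p j - A p j) ᵥ* A⁻¹ := ⟨_, rfl⟩
  have hBe : B = (1 + vecMulVec (Pi.single p 1) y) * A := by
    rw [Matrix.add_mul, Matrix.one_mul, Matrix.vecMulVec_mul, hy, Matrix.vecMul_vecMul,
      Matrix.nonsing_inv_mul _ hu, Matrix.vecMul_one]
    ext i j
    by_cases hi : i = p
    · subst hi; simp [Matrix.vecMulVec_apply]
    · simp [Matrix.vecMulVec_apply, hi, h i hi j]
  refine ⟨Pi.single p 1, y, ?_, hBe⟩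
  have := congrArg Matrix.det hBe
  rw [det_mul, det_one_add_outer, hB] at this
  exact (mul_right_cancel₀ hA this).symm

/-- products of row reflections -/
theorem prod_of_minors {n : ℕ} {δ : F} (hδ : δ ≠ 0) (M : Matrix (Fin n) (Fin n) F)
    (hM : ∀ k, k ≤ n → (topRows M k).det = δ ^ k) :
    ∀ k, k ≤ n → ∃ l : List (Matrix (Fin n) (Fin n) F), l.length = k ∧
      (∀ Y ∈ l, ∃ x y, 1 + y ⬝ᵥ x = δ ∧ Y = 1 + vecMulVec x y) ∧ l.prod = topRows M k := by
  intro k
  induction k with
  | zero => exact fun _ => ⟨[], rfl, by simp, by ext i j; simp [topRows]⟩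
  | succ k ih =>
    intro hk
    obtain ⟨l, h1, h2, h3⟩ := ih (by omega)
    obtain ⟨x, y, hxy, hB⟩ := exists_row_step hδ ⟨k, by omega⟩ (A := topRows M k) (B := topRows M (k + 1))
      (by rw [hM k (by omega)]; exact pow_ne_zero _ hδ) (by rw [hM k (by omega), hM (k + 1) hk, pow_succ'])
      (fun i hi j => by
        have : (i : ℕ) ≠ k := fun e => hi (Fin.ext e)
        have e : ((i : ℕ) < k + 1) = ((i : ℕ) < k) := by simp; omega
        simp only [topRows, Matrix.of_apply, e])
    exact ⟨(1 + vecMulVec x y) :: l, by simp [h1], List.forall_mem_cons.2 ⟨⟨x, y, hxy, rfl⟩, h2⟩,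
      by rw [List.prod_cons, h3, hB]⟩

/-- triangular factors give the minors -/
theorem minors_lu {n : ℕ} {δ : F} {L U : Matrix (Fin n) (Fin n) F} (hL : ∀ i j, i < j → L i j = 0)
    (hLd : ∀ i, L i i = δ) (hU : ∀ i j, j < i → U i j = 0) (hUd : ∀ i, U i i = 1) (k : ℕ) (hk : k ≤ n) :
    (topRows (L * U) k).det = δ ^ k := by
  classical
  have hprod : topRows (L * U) k = topRows L k * topRows U k := by
    ext i j
    simp only [topRows, Matrix.mul_apply, Matrix.of_apply]
    by_cases hi : (i : ℕ) < k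
    · simp only [if_pos hi]
      refine Finset.sum_congr rfl fun l _ => ?_
      by_cases hl : (l : ℕ) < k
      · rw [if_pos hl]
      · rw [hL i l (Fin.lt_def.2 (by omega))]; simp
    · simp only [if_neg hi, Matrix.one_apply, ite_mul, one_mul, zero_mul, Finset.sum_ite_eq, Finset.mem_univ, if_true]
  have h1 : (topRows L k)ᵀ.IsUpperTriangular := fun i j (hij : j < i) => by
    simp only [topRows, Matrix.transpose_apply, Matrix.of_apply, hL j i hij, Matrix.one_apply, hij.ne, if_false,
      ite_self]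
  have h2 : (topRows U k).IsUpperTriangular := fun i j (hij : j < i) => by
    simp only [topRows, Matrix.of_apply, hU i j hij, Matrix.one_apply, hij.ne', if_false, ite_self]
  rw [hprod, det_mul, ← Matrix.det_transpose (topRows L k), Matrix.det_of_isUpperTriangular h1,
    Matrix.det_of_isUpperTriangular h2]
  simp only [topRows, Matrix.transpose_apply, Matrix.of_apply, hLd, hUd, Matrix.one_apply_eq, ite_self,
    Finset.prod_const_one, mul_one, Finset.prod_ite, Finset.prod_const]
  rw [Fin.card_filter_val_lt, min_eq_right hk]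

/-- every matrix is similar to one with minors `δ ^ k` -/
theorem exists_minors [Fintype F] (h4 : 4 ≤ Fintype.card F) {n : ℕ} (hn : 3 ≤ n) {δ : F} (hδ : δ ≠ 0)
    (G : Matrix (Fin n) (Fin n) F) (hdet : G.det = δ ^ n) (hG : Nonscalar G ∨ G = δ • 1) :
    ∃ M : Matrix (Fin n) (Fin n) F, Sim G M ∧ ∀ k, k ≤ n → (topRows M k).det = δ ^ k := by
  classical
  rcases hG with hns | rfl
  · by_cases hr : ∃ (t : F) (x y : Fin n → F), G = t • 1 + vecMulVec x y
    · obtain ⟨s, a, b, rfl⟩ := hr
      have hs : s ≠ 0 := by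
        intro e
        haveI : Nontrivial (Fin n) := Fin.nontrivial_iff_two_le.2 (by omega)
        rw [e, zero_smul, zero_add, Matrix.det_vecMulVec] at hdet
        exact pow_ne_zero n hδ hdet.symm
      have ha : a ≠ 0 := fun e => hns s (by rw [e, Matrix.zero_vecMulVec, add_zero])
      have hb : s⁻¹ • b ≠ 0 := smul_ne_zero (inv_ne_zero hs) fun e => hns s (by rw [e, Matrix.vecMulVec_zero, add_zero])
      have hG' : s • 1 + vecMulVec a b = s • (1 + vecMulVec a (s⁻¹ • b)) := by
        rw [smul_add, Matrix.vecMulVec_smul, smul_smul, mul_inv_cancel₀ hs, one_smul]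
      have hab : s ^ n * (1 + (s⁻¹ • b) ⬝ᵥ a) = δ ^ n := by
        rw [← hdet, hG', det_smul, det_one_add_outer, Fintype.card_fin]
      by_cases hsd : s = δ
      · subst hsd
        let i₀ : Fin n := ⟨0, by omega⟩
        let i₁ : Fin n := ⟨1, by omega⟩
        have hne : i₁ ≠ i₀ := by simp [i₀, i₁, Fin.ext_iff]
        have h0 : (s⁻¹ • b) ⬝ᵥ a = 0 := by
          have := mul_left_cancel₀ (pow_ne_zero n hs) (hab.trans (mul_one _).symm)
          simpa using this
        have hs1 : Sim (s • 1 + vecMulVec a b) (s • (1 + vecMulVec (Pi.single i₁ (1 : F)) (Pi.single i₀ 1))) := by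
          rw [hG']
          refine Sim.smul (sim_outer rfl ha hb ?_ ?_ ?_) s
          · simp
          · simp
          · rw [h0, dotProduct_single, Pi.single_eq_of_ne hne, zero_mul]
        refine ⟨s • (1 + vecMulVec (Pi.single i₁ 1) (Pi.single i₀ 1)), hs1, fun k hk => ?_⟩
        rw [← Matrix.mul_one (s • _)]
        refine minors_lu (fun i j hij => ?_) (fun i => ?_) (fun i j hij => Matrix.one_apply_ne hij.ne')
          (fun i => Matrix.one_apply_eq i) k hk
        · have : ¬ (i = i₁ ∧ j = i₀) := by rintro ⟨rfl, rfl⟩; simp [i₀, i₁, Fin.lt_def] at hij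
          simp [Matrix.vecMulVec_apply, hij.ne, Pi.single_apply]
          tauto
        · by_cases hi : i = i₀
          · subst hi; simp [Matrix.vecMulVec_apply, Ne.symm hne]
          · simp [Matrix.vecMulVec_apply, hi]
      · let σ : ℕ → F := fun k => δ ^ k / s ^ k - 1
        let b' : Fin n → F := fun i => σ (i + 1) - σ i
        have hsum : ∀ k, k ≤ n → b' ⬝ᵥ (fun i : Fin n => if (i : ℕ) < k then (1 : F) else 0) = σ k := by
          intro k hk
          simp only [dotProduct, mul_ite, mul_one, mul_zero, b']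
          rw [Fin.sum_univ_eq_sum_range (fun i => if i < k then σ (i + 1) - σ i else 0) n, ← Finset.sum_filter,
            show (Finset.range n).filter (· < k) = Finset.range k by ext i; simp; omega, Finset.sum_range_sub]
          simp [σ]
        have hb' : b' ≠ 0 := fun e => hsd (by
          have := hsum 1 (by omega)
          rw [e, zero_dotProduct] at this
          simp only [σ, pow_one] at this
          field_simp at this
          linear_combination this)
        have hone : (fun _ : Fin n => (1 : F)) ≠ 0 := fun e => one_ne_zero (congrFun e ⟨0, by omega⟩)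
        have hs1 : Sim (s • 1 + vecMulVec a b) (s • (1 + vecMulVec (fun _ : Fin n => (1 : F)) b')) := by
          rw [hG']
          refine Sim.smul (sim_outer rfl ha hb hone hb' ?_) s
          have h1 := hsum n le_rfl
          simp only [Fin.is_lt, if_true] at h1
          rw [h1]
          simp only [σ]
          rw [← hab]
          field_simp
          ring
        refine ⟨s • (1 + vecMulVec (fun _ => 1) b'), hs1, fun k hk => ?_⟩
        · have : topRows (s • (1 + vecMulVec (fun _ => (1 : F)) b')) k =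
              Matrix.diagonal (fun i : Fin n => if (i : ℕ) < k then s else 1) *
                (1 + vecMulVec (fun i : Fin n => if (i : ℕ) < k then (1 : F) else 0) b') := by
            ext i j
            rw [Matrix.diagonal_mul]
            by_cases hi : (i : ℕ) < k <;> simp [topRows, hi, Matrix.vecMulVec_apply, mul_add]
          rw [this, det_mul, Matrix.det_diagonal, det_one_add_outer, hsum k hk, Finset.prod_ite, Finset.prod_const,
            Finset.prod_const_one, mul_one, Fin.card_filter_val_lt, min_eq_right hk]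
          simp only [σ]
          field_simp
          ring
    · push Not at hr
      obtain ⟨P, Q, L, U, hPQ, hG, hL, hU⟩ := exists_lu h4 hn G (fun _ => δ) (fun _ => 1) (fun _ => hδ)
        (fun _ => one_ne_zero) (by simp [hdet]) hr
      exact ⟨L * U, hG ▸ sim_conj hPQ (mul_eq_one_comm.1 hPQ) _,
        fun k hk => minors_lu hL.low hL.diag hU.upp hU.diag k hk⟩
  · refine ⟨δ • 1, Sim.refl _, fun k hk => ?_⟩
    rw [← Matrix.mul_one (δ • (1 : Matrix (Fin n) (Fin n) F))]
    exact minors_lu (fun i j hij => by simp [Matrix.one_apply, hij.ne]) (fun i => by simp)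
      (fun i j hij => Matrix.one_apply_ne hij.ne') (fun i => Matrix.one_apply_eq i) k hk

/-- a nontrivial transvection -/
def IsTv {n : ℕ} (Y : Matrix (Fin n) (Fin n) F) : Prop :=
  ∃ x y, x ≠ 0 ∧ y ≠ 0 ∧ y ⬝ᵥ x = 0 ∧ Y = 1 + vecMulVec x y

/-- more transvections with the same product -/
theorem tv_pad [Fintype F] (h4 : 4 ≤ Fintype.card F) {n : ℕ} {l : List (Matrix (Fin n) (Fin n) F)}
    (hl : ∀ Y ∈ l, IsTv Y) (hne : l ≠ []) :
    ∀ m, l.length ≤ m → ∃ l' : List (Matrix (Fin n) (Fin n) F), l'.length = m ∧ (∀ Y ∈ l', IsTv Y) ∧ l'.prod = l.prod := by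
  intro m hm
  induction m, hm using Nat.le_induction with
  | base => exact ⟨l, rfl, hl, rfl⟩
  | succ m hm ih =>
    obtain ⟨l', h1, h2, h3⟩ := ih
    have := List.length_pos_of_ne_nil hne
    cases l' with
    | nil => simp at h1; omega
    | cons Y l'' =>
      obtain ⟨⟨x, y, hx, hy, hxy, rfl⟩, h2'⟩ := List.forall_mem_cons.1 h2
      obtain ⟨a, ha⟩ := exists_avoid_list [0, (1 : F)] (by simp; omega)
      simp only [List.mem_cons, List.not_mem_nil, or_false, not_or] at ha
      refine ⟨(1 + vecMulVec x (a • y)) :: (1 + vecMulVec x ((1 - a) • y)) :: l'', by simp at h1 ⊢; omega,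
        List.forall_mem_cons.2 ⟨⟨x, _, hx, smul_ne_zero ha.1 hy, by simp [hxy], rfl⟩, List.forall_mem_cons.2
          ⟨⟨x, _, hx, smul_ne_zero (sub_ne_zero.2 (Ne.symm ha.2)) hy, by simp [hxy], rfl⟩, h2'⟩⟩, ?_⟩
      have hmul : (1 + vecMulVec x (a • y)) * (1 + vecMulVec x ((1 - a) • y)) = 1 + vecMulVec x y := by
        rw [Matrix.add_mul, Matrix.one_mul, Matrix.mul_add, Matrix.mul_one, Matrix.vecMulVec_mul_vecMulVec]
        simp only [smul_dotProduct, hxy, smul_zero, zero_smul, Matrix.vecMulVec_zero, add_zero,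
          Matrix.vecMulVec_smul]
        module
      rw [← h3, List.prod_cons, List.prod_cons, List.prod_cons, ← Matrix.mul_assoc, hmul]

/-- products in the class of `1 + x yᵀ` -/
theorem prods_outer [Fintype F] (h4 : 4 ≤ Fintype.card F) {n : ℕ} (hn : 3 ≤ n) {δ : F} (hδ : δ ≠ 0)
    {x y : Fin n → F} (hx : x ≠ 0) (hy : y ≠ 0) (hxy : 1 + y ⬝ᵥ x = δ) (G : Matrix (Fin n) (Fin n) F)
    (hdet : G.det = δ ^ n) (hG : Nonscalar G ∨ G = δ • 1) : Prods (1 + vecMulVec x y) n G := by
  classical
  obtain ⟨M, hGM, hM⟩ := exists_minors h4 hn hδ G hdet hG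
  refine Prods.of_sim ?_ hGM
  obtain ⟨l, hl, hlY, hlp⟩ := prod_of_minors hδ M hM n le_rfl
  rw [show topRows M n = M by ext i j; simp [topRows]] at hlp
  have key : ∀ a b : Fin n → F, a ≠ 0 → b ≠ 0 → 1 + b ⬝ᵥ a = δ → Sim (1 + vecMulVec a b) (1 + vecMulVec x y) :=
    fun a b ha hb hab => sim_outer rfl ha hb hx hy (by linear_combination hab - hxy)
  by_cases hd : δ = 1
  · subst hd
    have hfil : ∀ l : List (Matrix (Fin n) (Fin n) F),
        (∀ Y ∈ l, ∃ x y, 1 + y ⬝ᵥ x = (1 : F) ∧ Y = 1 + vecMulVec x y) →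
        ∃ l' : List (Matrix (Fin n) (Fin n) F), l'.length ≤ l.length ∧ (∀ Y ∈ l', IsTv Y) ∧ l'.prod = l.prod := by
      intro l
      induction l with
      | nil => exact fun _ => ⟨[], le_rfl, by simp, rfl⟩
      | cons Y l ih =>
        intro h
        obtain ⟨l', e1, e2, e3⟩ := ih fun Z hZ => h Z (List.mem_cons_of_mem _ hZ)
        obtain ⟨a, b, hab, rfl⟩ := h Y List.mem_cons_self
        by_cases h0 : a = 0 ∨ b = 0
        · refine ⟨l', by simp; omega, e2, ?_⟩
          rw [List.prod_cons, e3]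
          rcases h0 with rfl | rfl <;> simp
        · push Not at h0
          exact ⟨(1 + vecMulVec a b) :: l', by simp; omega,
            List.forall_mem_cons.2 ⟨⟨a, b, h0.1, h0.2, by simpa using hab, rfl⟩, e2⟩, by simp [e3]⟩
    obtain ⟨l₁, e1, e2, e3⟩ := hfil l hlY
    obtain ⟨l₂, f1, f2, f3, f4⟩ : ∃ l₂ : List (Matrix (Fin n) (Fin n) F),
        l₂.length ≤ n ∧ l₂ ≠ [] ∧ (∀ Y ∈ l₂, IsTv Y) ∧ l₂.prod = l.prod := by
      by_cases he : l₁ = []
      · have hxy0 : y ⬝ᵥ x = 0 := by linear_combination hxy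
        refine ⟨[1 + vecMulVec x y, 1 + vecMulVec x (-y)], by simp; omega, by simp, ?_, ?_⟩
        · simp only [List.mem_cons, List.not_mem_nil, or_false, forall_eq_or_imp, forall_eq]
          exact ⟨⟨x, y, hx, hy, hxy0, rfl⟩, ⟨x, -y, hx, neg_ne_zero.2 hy, by simp [hxy0], rfl⟩⟩
        · rw [← e3, he, List.prod_nil, List.prod_cons, List.prod_singleton, Matrix.add_mul, Matrix.one_mul,
            Matrix.mul_add, Matrix.mul_one, Matrix.vecMulVec_mul_vecMulVec]
          simp [hxy0, Matrix.vecMulVec_neg]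
      · exact ⟨l₁, by rw [hl] at e1; exact e1, he, e2, e3⟩
    obtain ⟨l₃, g1, g2, g3⟩ := tv_pad h4 f3 f2 n f1
    refine ⟨l₃, g1, fun Y hY => ?_, by rw [g3, f4, hlp]⟩
    obtain ⟨a, b, ha, hb, hab, rfl⟩ := g2 Y hY
    exact key a b ha hb (by rw [hab, add_zero])
  · refine ⟨l, hl, fun Y hY => ?_, hlp⟩
    obtain ⟨a, b, hab, rfl⟩ := hlY Y hY
    refine key a b (fun e => hd ?_) (fun e => hd ?_) hab
    · rw [← hab, e, dotProduct_zero, add_zero]
    · rw [← hab, e, zero_dotProduct, add_zero]

end CfsgLib.Known.CoverPSL
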