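import Cfsg.Agent.Lib.Known.CoverPSL.Ladder
import Cfsg.Agent.Lib.Known.CoverPSL.Reflection
import Cfsg.Agent.Lib.Known.CoverPSL.Triple
import Cfsg.Agent.Lib.Known.CoverPSL.LU

/-!
# Classes whose centraliser has every determinant
-/

set_option autoImplicit false
set_option linter.unusedSectionVars false
set_option linter.style.haveILetI false

open Matrix Polynomial CfsgLib.Ore

namespace CfsgLib.Known.CoverPSL

universe u

variable {F : Type u} [Field F]
variable {ι κ : Type*} [Fintype ι] [DecidableEq ι] [Fintype κ] [DecidableEq κ]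

/-- a scalar plus a matrix of rank at most one -/
def RankOne (X : Matrix ι ι F) : Prop := ∃ (s : F) (x y : ι → F), X = s • 1 + vecMulVec x y

theorem RankOne.of_sim {A : Matrix ι ι F} {B : Matrix κ κ F} (h : Sim A B) (hB : RankOne B) : RankOne A := by
  obtain ⟨P, Q, h1, -, rfl⟩ := sim_exists h
  obtain ⟨s, x, y, rfl⟩ := hB
  refine ⟨s, P *ᵥ x, y ᵥ* Q, ?_⟩
  rw [Matrix.mul_add, Matrix.add_mul, Matrix.mul_smul, Matrix.mul_one, Matrix.smul_mul, h1,
    Matrix.mul_vecMulVec, Matrix.vecMulVec_mul]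

theorem Prods.smul {X : Matrix κ κ F} {G : Matrix ι ι F} {m : ℕ} (h : Prods X m G) (t : F) :
    Prods (t • X) m (t ^ m • G) := by
  obtain ⟨l, h1, h2, h3⟩ := h
  refine ⟨l.map (t • ·), by simp [h1], ?_, by rw [list_prod_smul, h1, h3]⟩
  intro Z hZ
  obtain ⟨Y, hY, rfl⟩ := List.mem_map.1 hZ
  exact Sim.smul (h2 Y hY) t

/-- `n` factors similar to a scalar plus rank one -/
theorem rankone_good [Fintype F] (h4 : 4 ≤ Fintype.card F) {n : ℕ} (hn : 3 ≤ n) {X : Matrix (Fin n) (Fin n) F}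
    (hX : X.det = 1) (hns : Nonscalar X) (hr : RankOne X) (hfull : Full X) : Good X n ∧ GoodS X n := by
  obtain ⟨s, x, y, rfl⟩ := hr
  have hx : x ≠ 0 := fun e => hns s (by rw [e, Matrix.zero_vecMulVec, add_zero])
  have hy : y ≠ 0 := fun e => hns s (by rw [e, Matrix.vecMulVec_zero, add_zero])
  have hs : s ≠ 0 := fun e => by
    haveI : Nontrivial (Fin n) := Fin.nontrivial_iff_two_le.2 (by omega)
    rw [e, zero_smul, zero_add, Matrix.det_vecMulVec] at hX
    exact zero_ne_one hX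
  have heq : s • (1 : Matrix (Fin n) (Fin n) F) + vecMulVec x y = s • (1 + vecMulVec (s⁻¹ • x) y) := by
    rw [smul_add, Matrix.smul_vecMulVec, smul_smul, mul_inv_cancel₀ hs, one_smul]
  obtain ⟨δ, hδ⟩ : ∃ δ, δ = 1 + y ⬝ᵥ (s⁻¹ • x) := ⟨_, rfl⟩
  have hdet : s ^ n * δ = 1 := by
    rw [← hX, heq, det_smul, Fintype.card_fin, det_one_add_outer, hδ]
  have hδ0 : δ ≠ 0 := fun e => by rw [e, mul_zero] at hdet; exact zero_ne_one hdet
  have hδs : δ = (s ^ n)⁻¹ := eq_inv_of_mul_eq_one_right hdet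
  have key : ∀ G : Matrix (Fin n) (Fin n) F, G.det = 1 → (Nonscalar G ∨ G = 1) →
      SProds (s • 1 + vecMulVec x y) n G := by
    intro G hG hc
    have hp : Prods (1 + vecMulVec (s⁻¹ • x) y) n ((s ^ n)⁻¹ • G) :=
      prods_outer h4 hn hδ0 (smul_ne_zero (inv_ne_zero hs) hx) hy hδ.symm _
        (by rw [det_smul, hG, mul_one, Fintype.card_fin, hδs]) (hc.imp (fun h c e => h (s ^ n * c) (by
          rw [← smul_smul, ← e, smul_smul, mul_inv_cancel₀ (pow_ne_zero _ hs), one_smul])) fun h => by rw [h, hδs])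
    refine Prods.sprods ?_ hfull
    have h := hp.smul s
    rwa [smul_smul, mul_inv_cancel₀ (pow_ne_zero _ hs), one_smul, ← heq] at h
  exact ⟨fun G hG hd => key G (by rw [hd, hX, one_pow]) (Or.inl hG),
    ⟨1, by rw [one_smul]; exact key 1 det_one (Or.inr rfl)⟩⟩

/-- a repeated eigenvalue alone -/
theorem sim_replicate (t : F) (j : ℕ) :
    Sim (blk (List.replicate j (Polynomial.X - C t))) (t • (1 : Matrix (Fin j) (Fin j) F)) := by
  induction j with
  | zero =>
    haveI : IsEmpty (Fin (sz (List.replicate 0 (Polynomial.X - C t)))) := Fin.isEmpty'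
    exact ⟨0, 0, Subsingleton.elim _ _, Subsingleton.elim _ _, Subsingleton.elim _ _⟩
  | succ j ih =>
    rw [List.replicate_succ]
    refine ((blk_cons _ _).trans (((blk_single _).symm.trans (blk_linear_one t)).blocks ih)).trans ?_
    rw [← smul_zero (A := Matrix (Fin 1) (Fin j) F) t, ← smul_zero (A := Matrix (Fin j) (Fin 1) F) t,
      ← fromBlocks_smul, fromBlocks_one]
    refine Sim.smul ((Sim.reindex _ (Fintype.equivOfCardEq (by simp; omega) : Fin (j + 1) ≃ Fin 1 ⊕ Fin j)).trans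
      (Sim.of_eq (Matrix.submatrix_one_equiv _))) t

/-- two eigenvalues only, one of them simple -/
theorem rankone_two {g : F[X]} (hg : g.Monic) (hd : g.natDegree = 2) {t : F} (ht : g.eval t = 0) (j : ℕ) :
    RankOne (blk ([g] ++ List.replicate j (Polynomial.X - C t))) := by
  obtain ⟨c, hc, hsc, hci⟩ := exists_comp hg hd
  refine RankOne.of_sim ((blk_append [g] _).trans (((blk_single g).trans hsc).blocks (sim_replicate t j)))
    ⟨t, Sum.elim ![-t, 1] 0, Sum.elim ![1, -c 1 - t] 0, ?_⟩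
  have hev : t ^ 2 + c 1 * t + c 0 = 0 := by
    rw [← hc] at ht
    simp [cpoly, Fin.sum_univ_two] at ht
    linear_combination ht
  ext i k
  rcases i with i | i <;> rcases k with k | k
  · fin_cases i <;> fin_cases k <;> simp [CfsgLib.Ore.comp, Matrix.vecMulVec_apply]
    linear_combination hev
  all_goals simp [Matrix.vecMulVec_apply, Matrix.one_apply]

/-- a pair for `X` gives everything with four factors -/
theorem goodP_of_pairData [Fintype F] (h4 : 4 ≤ Fintype.card F) {n : ℕ} (hn : 3 ≤ n)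
    {X : Matrix (Fin n) (Fin n) F} (hX : X.det ≠ 0) {t : F} (h : PairData t X) : GoodP X 4 := by
  obtain ⟨m, A, H, ρ, β, hP, hT, -⟩ := h
  obtain rfl : m = n := by simpa using hP.card
  intro G hG hd
  obtain ⟨l, l1, l2, l3, -⟩ := pa_four h4 hn hP hT hX G hG hd
  exact ⟨l, l1, l2, l3⟩

/-- an equivalence between a sum and `Fin` -/
theorem sim_fin_sum {d n : ℕ} {M : Matrix (Fin d ⊕ κ) (Fin d ⊕ κ) F} (hc : d + Fintype.card κ = n) :
    ∃ e : Fin d ⊕ κ ≃ Fin n, Sim (M.submatrix e.symm e.symm) M :=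
  ⟨Fintype.equivOfCardEq (by simp [hc]), (Sim.reindex _ _).symm⟩

/-- the scalar from the ladder: peel two eigenvalues -/
theorem goodS_ladder [Fintype F] {t : F} (ht : t ≠ 0) {n : ℕ} (hn : 5 ≤ n) {X : Matrix (Fin n) (Fin n) F}
    (hX : X.det = 1) (hr : ¬ RankOne X) (hfull : Full X) {Xb : Matrix κ κ F} (hd : Xb.det ≠ 0)
    (hns : Nonscalar Xb) (hlad : Lad t Xb) (hc : 2 + Fintype.card κ = n)
    (hsim : Sim X (fromBlocks (t • (1 : Matrix (Fin 2) (Fin 2) F)) 0 0 Xb)) : GoodS X n := by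
  classical
  obtain ⟨eqv, he⟩ := sim_fin_sum (M := fromBlocks (t • (1 : Matrix (Fin 2) (Fin 2) F)) 0 0 Xb) hc
  -- two independent vectors in the image of `Xb - t`, or the engine with a rank two family
  obtain ⟨v, x, hvx⟩ := (quad_or_rankone X (by simp; omega)).resolve_right hr
  obtain ⟨U, hU⟩ : ∃ U : Matrix κ (Fin 2) F, ∀ w, (t • U - Xb * U) *ᵥ w = 0 → w = 0 := by
    obtain ⟨d, hd'⟩ : ∃ d, d = Xb - t • (1 : Matrix κ κ F) := ⟨_, rfl⟩
    obtain ⟨a, b, hab⟩ : ∃ a b, LinearIndependent F ![d *ᵥ a, d *ᵥ b] := by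
      by_contra hno
      push Not at hno
      -- the image is at most a line, so `X` is a scalar plus rank one
      obtain ⟨a, ha⟩ : ∃ a, d *ᵥ a ≠ 0 := by
        by_contra hz
        push Not at hz
        refine hns t (sub_eq_zero.1 (Matrix.ext_iff_mulVec.2 fun u => ?_))
        rw [← hd', hz u, Matrix.zero_mulVec]
      have hline : ∀ b, ∃ k : F, k • (d *ᵥ a) = d *ᵥ b := fun b => by
        have h := hno a b
        rw [LinearIndependent.pair_iff' ha] at h
        push Not at h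
        exact h
      choose k hk using hline
      have hd2 : d = vecMulVec (d *ᵥ a) (fun i => k (Pi.single i 1)) := by
        ext i j
        have := congrFun (hk (Pi.single j 1)) i
        simp only [Pi.smul_apply, smul_eq_mul] at this
        rw [Matrix.vecMulVec_apply, mul_comm, this]
        simp
      refine hr (RankOne.of_sim hsim ⟨t, Sum.elim 0 (d *ᵥ a), Sum.elim 0 (fun i => k (Pi.single i 1)), ?_⟩)
      have hXb : Xb = t • 1 + d := by rw [hd', add_sub_cancel]
      ext i j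
      rcases i with i | i <;> rcases j with j | j
      · simp [Matrix.vecMulVec_apply, Matrix.one_apply]
      · simp [Matrix.vecMulVec_apply]
      · simp [Matrix.vecMulVec_apply]
      · have := congrFun (congrFun hd2 i) j
        rw [Matrix.vecMulVec_apply] at this
        simp [hXb, Matrix.vecMulVec_apply, Matrix.one_apply, this]
    refine ⟨Matrix.of fun i c => ![a, b] c i, fun w hw => ?_⟩
    rw [Fintype.linearIndependent_iff] at hab
    have := hab w (by
      have e : (t • (Matrix.of fun i c => ![a, b] c i) - Xb * Matrix.of fun i c => ![a, b] c i) =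
          -(d * Matrix.of fun i c => ![a, b] c i) := by
        rw [hd', Matrix.sub_mul, Matrix.smul_mul, Matrix.one_mul, neg_sub]
      rw [e, Matrix.neg_mulVec, neg_eq_zero] at hw
      rw [← hw, ← Matrix.mulVec_mulVec, Fin.sum_univ_two]
      have e2 : (Matrix.of fun i c => ![a, b] c i) *ᵥ w = w 0 • a + w 1 • b := by
        funext i; simp [Matrix.mulVec, dotProduct, Fin.sum_univ_two, mul_comm]
      rw [e2, Matrix.mulVec_add, Matrix.mulVec_smul, Matrix.mulVec_smul]
      simp)
    exact funext this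
  have hshear : Sim (fromBlocks (t • (1 : Matrix (Fin 2) (Fin 2) F)) 0 (t • U - Xb * U) Xb)
      (fromBlocks (t • (1 : Matrix (Fin 2) (Fin 2) F)) 0 0 Xb) := by
    refine ⟨fromBlocks 1 0 U 1, fromBlocks 1 0 (-U) 1, ?_, ?_, ?_⟩
    · simp [fromBlocks_multiply, fromBlocks_one]
    · simp [fromBlocks_multiply, fromBlocks_one]
    · simp [fromBlocks_multiply, Matrix.mul_smul]
  obtain ⟨Z, hZ, hL⟩ := exists_lower hshear
  have hv : ∀ w, ((t • U - Xb * U) * Z⁻¹) *ᵥ w = 0 → w = 0 := fun w e => by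
    rw [← Matrix.mulVec_mulVec] at e
    have h := congrArg (Z *ᵥ ·) (hU _ e)
    simp only [Matrix.mulVec_zero] at h
    rwa [Matrix.mulVec_mulVec, Matrix.mul_nonsing_inv _ hZ, Matrix.one_mulVec] at h
  -- the target is the inverse of a copy of `X`
  obtain ⟨M, hM⟩ : ∃ M, M = X.submatrix eqv eqv := ⟨_, rfl⟩
  have hMs : Sim X M := hM ▸ Sim.reindex X eqv
  have hMu : IsUnit M.det := by rw [← hMs.det_eq, hX]; exact isUnit_one
  have hz : LinearIndependent F (Sum.elim (fun a : Fin 2 => M *ᵥ (![v, x] a ∘ eqv))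
      fun a : Fin 2 => M⁻¹ *ᵥ (M *ᵥ (![v, x] a ∘ eqv))) := by
    simp only [Matrix.mulVec_mulVec, Matrix.nonsing_inv_mul _ hMu, Matrix.one_mulVec]
    have hmap := hvx.map' (LinearEquiv.funCongrLeft F F eqv).toLinearMap
      (LinearEquiv.ker _)
    let p : Fin 2 ⊕ Fin 2 ≃ Fin 4 :=
      { toFun := Sum.elim ![1, 3] ![0, 2]
        invFun := ![Sum.inr 0, Sum.inl 0, Sum.inr 1, Sum.inl 1]
        left_inv := by decide
        right_inv := by decide }
    refine (linearIndependent_equiv' p ?_).2 hmap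
    funext i
    rcases i with i | i <;> fin_cases i <;>
      simp [p, hM, Matrix.submatrix_mulVec_equiv, LinearEquiv.funCongrLeft_apply,
        LinearMap.funLeft, Function.comp_def]
  have hn2 : Fintype.card (Fin 2) < Fintype.card κ := by simp; omega
  obtain ⟨k, hk⟩ : ∃ k, n = k + 2 := ⟨n - 2, by omega⟩
  have hdB : (fromBlocks (t • (1 : Matrix (Fin 2) (Fin 2) F)) 0 0 Xb).det = t ^ 2 * Xb.det := by simp
  have h1 : t ^ 2 * Xb.det = 1 := by rw [← hdB, ← hsim.det_eq, hX]
  have hspa := engine ht hL hd.isUnit hv hn2 (k := k) (G := M⁻¹) (Matrix.isUnit_nonsing_inv_det _ hMu).ne_zero hz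
    fun D hD hDd => hlad k (by omega) D hD (by
      rw [Matrix.det_nonsing_inv, ← hMs.det_eq, hX, Ring.inverse_one, Fintype.card_fin, ← pow_mul] at hDd
      have e : t ^ (2 * k) * Xb.det ^ k = 1 := by rw [pow_mul, ← mul_pow, h1, one_pow]
      refine mul_right_cancel₀ (mul_ne_zero (pow_ne_zero ((k + 1) * 2) ht) hd) (hDd.trans ?_)
      calc (1 : F) = (t ^ (2 * k) * Xb.det ^ k) * (t ^ 2 * Xb.det) := by rw [e, h1, one_mul]
        _ = Xb.det ^ k * (t ^ ((k + 1) * 2) * Xb.det) := by ring)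
  -- back to `X`
  have hp : Prods X (k + 1) X⁻¹ := by
    refine (hspa.pa.prods.congr hsim.symm).of_sim ?_
    obtain ⟨P, Q, h1, h2, e⟩ := sim_exists hMs
    refine ⟨P, Q, h1, h2, ?_⟩
    have hXu : IsUnit X.det := by rw [hX]; exact isUnit_one
    have h3 : X * P = P * M := by rw [e, Matrix.mul_assoc, h2, Matrix.mul_one]
    calc X⁻¹ * P = X⁻¹ * (P * M) * M⁻¹ := by
          rw [Matrix.mul_assoc, Matrix.mul_assoc P, Matrix.mul_nonsing_inv _ hMu, Matrix.mul_one]
      _ = P * M⁻¹ := by rw [← h3, ← Matrix.mul_assoc, Matrix.nonsing_inv_mul _ hXu, Matrix.one_mul]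
  refine ⟨1, ?_⟩
  rw [one_smul, ← Matrix.mul_nonsing_inv X (by rw [hX]; exact isUnit_one)]
  have := (hp.sprods hfull).cons (Conj1.refl X)
  rwa [show k + 1 + 1 = n by omega] at this

end CfsgLib.Known.CoverPSL
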