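import Cfsg.Agent.Lib.Known.CoverPSL.FullCase

/-!
# The case of a full centraliser, all dimensions
-/

set_option autoImplicit false
set_option linter.unusedSectionVars false
set_option linter.style.haveILetI false

open Matrix Polynomial CfsgLib.Ore

namespace CfsgLib.Known.CoverPSL

universe u

variable {F : Type u} [Field F]
variable {κ : Type*} [Fintype κ] [DecidableEq κ]

theorem Full.pow_one {X : Matrix κ κ F} (h : Full X) : Pow X 1 := fun y hy => by
  rw [_root_.pow_one]; exact h y hy

/-- a quartic cyclic class -/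
theorem goodS_quartic [Fintype F] (h4 : 4 ≤ Fintype.card F) {X : Matrix (Fin 4) (Fin 4) F} (hX : X.det = 1)
    (hfull : Full X) (c : Fin 4 → F) (hsim : Sim (CfsgLib.Ore.comp c) X) : GoodS X 4 := by
  classical
  have hc0 : c 0 = 1 := by
    have := hsim.det_eq
    rw [det_comp, hX] at this
    norm_num at this
    exact this
  have hv : blockVals c (fun _ : Fin 3 => (1 : F)) = fun _ => 1 := by
    funext i; refine Fin.cases ?_ (fun j => ?_) i <;> simp [blockVals, hc0]
  obtain ⟨A, H, hP, hT, -, -⟩ := exists_block (m := 2) (le_trans (by norm_num) h4) c (by rw [hc0]; exact one_ne_zero)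
    (fun _ => 1) (fun _ => one_ne_zero) (Or.inl (by rw [hv]; exact fun i j k _ _ _ => rfl)) (fun h => absurd h (by norm_num))
  rw [hv] at hT
  exact goodS_four hfull.pow_one (hP.congr hsim) (_root_.pow_one _).symm hT 1 (Nat.coprime_one_left _)
    (by rw [hX]; exact one_ne_zero) one_ne_zero (Equiv.refl _) fun _ => one_mul 1

/-- a cubic block and an eigenvalue -/
theorem goodS_cubic_one [Fintype F] (h4 : 4 ≤ Fintype.card F) {X : Matrix (Fin 4) (Fin 4) F} (hX : X.det = 1)
    (hfull : Full X) {h : F[X]} (hh : h.Monic) (hd : h.natDegree = 3) {a : F}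
    (hsim : Sim X (blk [h, Polynomial.X - C a])) : GoodS X 4 := by
  classical
  obtain ⟨c, -, hsc, -⟩ := exists_comp hh (m := 1 + 2) hd
  have hs2 : Sim X (fromBlocks (a • (1 : Matrix (Fin 1) (Fin 1) F)) 0 0 (CfsgLib.Ore.comp c)) :=
    hsim.trans ((blk_perm (List.Perm.swap _ _ _)).trans ((blk_cons _ _).trans
      (((blk_single _).symm.trans (blk_linear_one a)).blocks ((blk_single h).trans hsc))))
  have hdet : a * -c 0 = 1 := by
    have := hs2.det_eq
    rw [hX, det_fromBlocks_zero₁₂, det_comp] at this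
    simp at this
    linear_combination -this
  have ha : a ≠ 0 := fun e => by simp [e] at hdet
  have hc0 : c 0 ≠ 0 := fun e => by simp [e] at hdet
  have hc2 : c 0 ^ 2 = (a ^ 2)⁻¹ := eq_inv_of_mul_eq_one_right (by linear_combination (a * -c 0 + 1) * hdet)
  have hv : blockVals c (fun _ : Fin 2 => (1 : F)) = ![(a ^ 2)⁻¹, 1, 1] := by
    funext i
    refine Fin.cases ?_ (fun j => ?_) i
    · simp [blockVals, hc2]
    · rw [blockVals, Fin.cons_succ]
      fin_cases j <;> rfl
  obtain ⟨A₂, H₂, hP₂, hT₂, -, hl⟩ := exists_block (m := 1) (le_trans (by norm_num) h4) c hc0 (fun _ => 1)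
    (fun _ => one_ne_zero) (Or.inl (contig_block (y := (1 : F)) (fun _ _ => rfl) (Or.inr rfl))) (fun h => absurd h one_ne_zero)
  rw [hv] at hT₂
  let A₁ : Matrix (Fin 1) (Fin 1) F := a • 1
  have hP₁ : HasPair A₁ 1 A₁ A₁ := by
    refine ⟨1, 1, 1, 1, Matrix.one_mul _, Matrix.one_mul _, Matrix.one_mul _, Matrix.one_mul _, ?_, ?_, ?_⟩ <;> simp
  have hT₁ : TPair A₁ A₁ (fun _ : Fin 1 => a ^ 2) := by
    refine ⟨fun i j hij => absurd hij (by rw [Subsingleton.elim i j]; exact lt_irrefl j), fun i => ?_,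
      fun v => ⟨fun _ => 1, fun w _ => ⟨w 0, funext fun i => by
        obtain rfl : i = 0 := Subsingleton.elim _ _
        simp⟩⟩⟩
    simp [A₁, pow_two, Matrix.smul_apply]
  obtain ⟨A, H, c1, c2, -, -⟩ := link hP₁ hP₂ hT₁ hT₂ (by simp [A₁, ha])
    (fun x y w f _ _ _ hf hA hH => by
      have := (hl x y f hf hA hH).1 0 (by decide)
      exact this rfl)
  refine goodS_four hfull.pow_one (c1.congr hs2.symm) (_root_.pow_one _).symm c2 1 (Nat.coprime_one_left _)
    (by rw [hX]; exact one_ne_zero) one_ne_zero (Equiv.swap (0 : Fin 4) 1) fun i => ?_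
  fin_cases i <;> simp [Fin.append, Fin.addCases, Equiv.swap_apply_def, ha]

/-- twice the same quadratic -/
theorem goodS_twins {X : Matrix (Fin 4) (Fin 4) F} (hfull : Full X) (hu : IsUnit X.det) {c : Fin 2 → F}
    (hc : c 0 ≠ 0) (hsim : Sim X (fromBlocks (CfsgLib.Ore.comp c) 0 0 (CfsgLib.Ore.comp c))) : GoodS X 4 := by
  classical
  let C₂ : Matrix (Fin 2) (Fin 2) F := CfsgLib.Ore.comp c
  let D₂ : Matrix (Fin 2) (Fin 2) F := !![-c 1, c 0; -1, 0]
  let R : Matrix (Fin 2) (Fin 2) F := !![1, -c 1; 0, -1]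
  have hR : R * R = 1 := by ext i j; fin_cases i <;> fin_cases j <;> simp [R, Matrix.mul_apply, Fin.sum_univ_two]
  have hDR : Sim D₂ C₂ := by
    refine ⟨R, R, hR, hR, ?_⟩
    ext i j
    fin_cases i <;> fin_cases j <;> simp [R, D₂, C₂, CfsgLib.Ore.comp, Matrix.mul_apply, Fin.sum_univ_two]
  have hDC : D₂ * C₂ = c 0 • 1 := by
    ext i j
    fin_cases i <;> fin_cases j <;> simp [D₂, C₂, CfsgLib.Ore.comp, Matrix.mul_apply, Fin.sum_univ_two] <;> ring
  obtain ⟨P, Q, h1, h2, hXe⟩ := sim_exists hsim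
  have hinv : (c 0)⁻¹ • (P * fromBlocks D₂ 0 0 D₂ * Q) * X = 1 := by
    rw [hXe, Matrix.smul_mul]
    calc (c 0)⁻¹ • (P * fromBlocks D₂ 0 0 D₂ * Q * (P * fromBlocks C₂ 0 0 C₂ * Q))
        = (c 0)⁻¹ • (P * (fromBlocks D₂ 0 0 D₂ * ((Q * P) * fromBlocks C₂ 0 0 C₂)) * Q) := by
          simp only [Matrix.mul_assoc]
      _ = 1 := by
          rw [h2, Matrix.one_mul, fromBlocks_multiply]
          simp only [Matrix.mul_zero, Matrix.zero_mul, add_zero, zero_add, hDC]
          rw [← smul_zero (A := Matrix (Fin 2) (Fin 2) F) (c 0), ← fromBlocks_smul, fromBlocks_one, Matrix.mul_smul,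
            Matrix.mul_one, Matrix.smul_mul, smul_smul, inv_mul_cancel₀ hc, one_smul, h1]
  have hY : Conj1 X (c 0 • X⁻¹) := hfull.conj1 (by
    rw [Matrix.inv_eq_left_inv hinv, smul_smul, mul_inv_cancel₀ hc, one_smul]
    exact (sim_conj h1 h2 _).trans ((hDR.blocks hDR).trans hsim.symm))
  refine ⟨c 0 ^ 2, [X, c 0 • X⁻¹, X, c 0 • X⁻¹], rfl, ?_, ?_⟩
  · refine List.forall_mem_cons.2 ⟨Conj1.refl X, List.forall_mem_cons.2 ⟨hY, List.forall_mem_cons.2
      ⟨Conj1.refl X, List.forall_mem_cons.2 ⟨hY, fun Z hZ => absurd hZ List.not_mem_nil⟩⟩⟩⟩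
  · simp [Matrix.mul_nonsing_inv _ hu, smul_smul, pow_two]

/-- two quadratics -/
theorem goodS_two_quad [Fintype F] (h4 : 4 ≤ Fintype.card F) {X : Matrix (Fin 4) (Fin 4) F} (hX : X.det = 1)
    (hfull : Full X) {g h : F[X]} (hg : g.Monic) (hg2 : g.natDegree = 2) (hg0 : g.coeff 0 ≠ 0) (hh : h.Monic)
    (hh2 : h.natDegree = 2) (hsim : Sim X (blk [g, h])) : GoodS X 4 := by
  classical
  have hu : IsUnit X.det := by rw [hX]; exact isUnit_one
  by_cases hco : IsCoprime g h
  · obtain ⟨c, -, hsc, -⟩ := exists_comp (hg.mul hh) (m := 4) (by rw [hg.natDegree_mul hh, hg2, hh2])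
    exact goodS_quartic h4 hX hfull c (hsim.trans ((blk_merge hg hh hco []).trans ((blk_single _).trans hsc))).symm
  by_cases he : g = h
  · subst he
    obtain ⟨c, -, hsc, hci⟩ := exists_comp hg hg2
    exact goodS_twins hfull hu (by rw [hci 0]; exact hg0)
      (hsim.trans ((blk_cons _ _).trans (hsc.blocks ((blk_single _).trans hsc))))
  -- one common root
  obtain ⟨a, ha1, ha2⟩ : ∃ a, g.eval a = 0 ∧ h.eval a = 0 := by
    have hne : g ≠ 0 := hg.ne_zero
    obtain ⟨q, hq, hqi, hqg, hqh⟩ : ∃ q, q.Monic ∧ Irreducible q ∧ q ∣ g ∧ q ∣ h := by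
      have hgu : ¬ IsUnit (EuclideanDomain.gcd g h) := fun h1 => hco (EuclideanDomain.gcd_isUnit_iff.1 h1)
      obtain ⟨q, hq, hqi, hqd⟩ := Polynomial.exists_monic_irreducible_factor _ hgu
      exact ⟨q, hq, hqi, hqd.trans (EuclideanDomain.gcd_dvd_left _ _), hqd.trans (EuclideanDomain.gcd_dvd_right _ _)⟩
    have hqd : q.natDegree ≤ 2 := hg2 ▸ natDegree_le_of_dvd hqg hne
    have hq1 := hqi.natDegree_pos
    rcases (show q.natDegree = 1 ∨ q.natDegree = 2 by omega) with h1 | h2
    · refine ⟨-q.coeff 0, ?_, ?_⟩ <;>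
      · refine dvd_iff_isRoot.1 (dvd_trans (dvd_of_eq ?_) (by assumption))
        rw [map_neg, sub_neg_eq_add]
        exact (hq.eq_X_add_C h1).symm
    · exact absurd ((Polynomial.eq_of_monic_of_dvd_of_natDegree_le hq hg hqg (by omega)).trans
        (Polynomial.eq_of_monic_of_dvd_of_natDegree_le hq hh hqh (by omega)).symm) he
  have split : ∀ f : F[X], f.Monic → f.natDegree = 2 → f.eval a = 0 → ∃ b, f = (Polynomial.X - C a) * (Polynomial.X - C b) := by
    intro f hf hd hr
    obtain ⟨q, hq⟩ := dvd_iff_isRoot.2 hr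
    have hqm : q.Monic := (monic_X_sub_C a).of_mul_monic_left (hq ▸ hf)
    have hqd : q.natDegree = 1 := by
      have := congrArg natDegree hq
      rw [(monic_X_sub_C a).natDegree_mul hqm, natDegree_X_sub_C] at this
      omega
    refine ⟨-q.coeff 0, ?_⟩
    rw [hq, map_neg, sub_neg_eq_add]
    conv_lhs => rw [hqm.eq_X_add_C hqd]
  obtain ⟨b, hb⟩ := split g hg hg2 ha1
  obtain ⟨e, he'⟩ := split h hh hh2 ha2
  have hbe : b ≠ e := fun e0 => he (by rw [hb, he', e0])
  have main : ∀ (g h : F[X]) (b e : F), g.Monic → g.natDegree = 2 → g = (Polynomial.X - C a) * (Polynomial.X - C b) →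
      h = (Polynomial.X - C a) * (Polynomial.X - C e) → e ≠ a → b ≠ e → Sim X (blk [g, h]) → GoodS X 4 := by
    intro g h b e hg hgd hgb hhe hea hbe hs
    have hco : IsCoprime (Polynomial.X - C a : F[X]) (Polynomial.X - C e) :=
      Polynomial.isCoprime_X_sub_C_of_isUnit_sub (sub_ne_zero.2 hea.symm).isUnit
    have hge : g.eval e ≠ 0 := by
      rw [hgb, eval_mul, eval_sub, eval_sub, eval_X, eval_C, eval_C]
      exact mul_ne_zero (sub_ne_zero.2 hea) (sub_ne_zero.2 hbe.symm)
    refine goodS_cubic_one h4 hX hfull (h := g * (Polynomial.X - C e)) (hg.mul (monic_X_sub_C e)) ?_ (a := a) ?_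
    · rw [hg.natDegree_mul (monic_X_sub_C e), hgd, natDegree_X_sub_C]
    · refine hs.trans ?_
      rw [hhe]
      refine (blk_cons_congr g (blk_merge (monic_X_sub_C a) (monic_X_sub_C e) hco []).symm).trans ?_
      exact (blk_perm ((List.Perm.swap _ _ _).cons g)).trans (blk_absorb hg hge _)
  rcases eq_or_ne e a with hea | hea
  · exact main h g e b hh hh2 he' hb (fun h0 => hbe (h0.trans hea.symm)) hbe.symm
      (hsim.trans (blk_perm (List.Perm.swap _ _ _)))
  · exact main g h b e hg hg2 hb he' hea hbe hsim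

/-- the full case -/
theorem full_good [Fintype F] (h4 : 4 ≤ Fintype.card F) {n : ℕ} (hn : 3 ≤ n) {X : Matrix (Fin n) (Fin n) F}
    (hX : X.det = 1) (hns : Nonscalar X) (hfull : Full X) : Good X n ∧ GoodS X n := by
  classical
  by_cases hr : RankOne X
  · exact rankone_good h4 hn hX hns hr hfull
  have hd0 : X.det ≠ 0 := by rw [hX]; exact one_ne_zero
  have hu : IsUnit X.det := hd0.isUnit
  obtain ⟨t, L, j, hs, hA, hJ⟩ := exists_normal X hd0
  have hsum : n = sz L + j := by
    have := congrArg natDegree (charpoly_of_sim hs)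
    rw [Matrix.charpoly_natDegree_eq_dim, Matrix.charpoly_natDegree_eq_dim, Fintype.card_fin, Fintype.card_fin] at this
    rw [this, sz_eq_sum, sz_eq_sum, List.map_append, List.sum_append, List.map_replicate, List.sum_replicate,
      natDegree_X_sub_C, smul_eq_mul, mul_one]
  have hdeg : ∀ g ∈ L, 2 ≤ g.natDegree := fun g hg => by
    rcases (hA g hg).2.2 with h | ⟨h, -⟩ <;> omega
  have hj : 0 < j → 3 ≤ sz L := by
    intro hj
    by_contra hlt
    obtain ⟨ht, hvan⟩ := hJ hj
    apply hr
    match L, hdeg, hs, hA, hvan, hlt with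
    | [], _, hs, _, _, _ => exact RankOne.of_sim hs (RankOne.of_sim (sim_replicate t j) ⟨t, 0, 0, by simp⟩)
    | [g], hdeg, hs, hA, hvan, hlt =>
      have : g.natDegree = 2 := by
        have := hdeg g (by simp)
        simp [sz] at hlt
        omega
      exact RankOne.of_sim hs (rankone_two (hA g (by simp)).1 this (hvan g (by simp)) j)
    | a :: b :: M, hdeg, _, _, _, hlt =>
      have := hdeg a (by simp)
      have := hdeg b (by simp)
      simp [sz] at hlt
      omega
  rcases Nat.lt_or_ge n 4 with hn4 | hn4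
  · -- dimension three
    obtain rfl : n = 3 := by omega
    have hj0 : j = 0 := by
      rcases Nat.eq_zero_or_pos j with h | h
      · exact h
      · have := hj h; omega
    subst hj0
    obtain ⟨g, rfl⟩ : ∃ g, L = [g] := by
      match L, hsum, hdeg with
      | [], h, _ => simp [sz] at h
      | [g], _, _ => exact ⟨g, rfl⟩
      | a :: b :: M, h, hdeg =>
        have := hdeg a (by simp); have := hdeg b (by simp)
        simp [sz] at h; omega
    have hg : g.natDegree = 2 + 1 := by simp [sz] at hsum; omega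
    obtain ⟨c, -, hsc, -⟩ := exists_comp (hA g (by simp)).1 hg
    rw [List.replicate_zero, List.append_nil] at hs
    have hsim : Sim X (CfsgLib.Ore.comp c) := hs.trans ((blk_single g).trans hsc)
    have hc0 : c 0 = -1 := by
      have := hsim.det_eq
      rw [det_comp, hX] at this
      norm_num at this
      linear_combination this
    refine ⟨Good.of_sim hsim (fun G hG hd => ?_), GoodS.of_sim hsim (goodS_cubic h4 c hc0)⟩
    exact ((pa_three h4 c (by rw [hc0]; exact neg_ne_zero.2 one_ne_zero) one_ne_zero G hG hd).prods).sprods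
      (Full.of_sim hsim.symm hfull)
  -- dimension at least four
  rcases Nat.lt_or_ge j 2 with hj2 | hj2
  · have hpd : PairData t X := by
      interval_cases j
      · rw [List.replicate_zero, List.append_nil] at hs
        exact ((pairDataR_blk h4 L hA).data).congr hs.symm
      · rw [List.replicate_one] at hs
        exact (pairData_one h4 L hA).congr hs.symm
    have h := (goodP_of_pairData h4 hn hd0 hpd).good hfull
    refine ⟨h.extend hu hns n hn4, ?_⟩
    rcases Nat.lt_or_ge 4 n with h5 | h5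
    · obtain ⟨m, rfl⟩ : ∃ m, n = m + 1 := ⟨n - 1, by omega⟩
      exact GoodS.of_good hX hns (h.extend hu hns m (by omega))
    obtain rfl : n = 4 := by omega
    interval_cases j
    · rw [List.replicate_zero, List.append_nil] at hs
      match L, hs, hsum, hdeg, hA with
      | [], _, h, _, _ => simp [sz] at h
      | [g], hs, h, _, hA =>
        obtain ⟨c, -, hsc, -⟩ := exists_comp (hA g (by simp)).1 (m := 4) (by simp [sz] at h; omega)
        exact goodS_quartic h4 hX hfull c (hs.trans ((blk_single g).trans hsc)).symm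
      | [g₁, g₂], hs, h, hdeg, hA =>
        have := hdeg g₁ (by simp); have := hdeg g₂ (by simp)
        simp [sz] at h
        exact goodS_two_quad h4 hX hfull (hA g₁ (by simp)).1 (by omega) (hA g₁ (by simp)).2.1 (hA g₂ (by simp)).1
          (by omega) hs
      | a :: b :: e :: M, _, h, hdeg, _ =>
        have := hdeg a (by simp); have := hdeg b (by simp); have := hdeg e (by simp)
        simp [sz] at h; omega
    · rw [List.replicate_one] at hs
      match L, hs, hsum, hdeg, hA with
      | [], _, h, _, _ => simp [sz] at h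
      | [g], hs, h, _, hA =>
        exact goodS_cubic_one h4 hX hfull (hA g (by simp)).1 (by simp [sz] at h; omega) hs
      | a :: b :: M, _, h, hdeg, _ =>
        have := hdeg a (by simp); have := hdeg b (by simp)
        simp [sz] at h; omega
  -- several repeated eigenvalues
  obtain ⟨ht, hvan⟩ := hJ (by omega)
  have h3 := hj (by omega)
  have hnsL : Nonscalar (blk L) := by
    intro c hc
    have hA' := hA
    match L, hc, h3, hA', hvan with
    | [], _, h3, _, _ => simp [sz] at h3
    | g :: M, hc, _, hA', _ =>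
      obtain ⟨hgm, -, hgd⟩ := hA' g (by simp)
      have h2 : 2 ≤ g.natDegree := by rcases hgd with h | ⟨h, -⟩ <;> omega
      obtain ⟨m, hm⟩ : ∃ m, g.natDegree = m + 2 := ⟨g.natDegree - 2, by omega⟩
      have h1 : CfsgLib.Ore.comp (cof g) = c • 1 := by
        have e : (fromBlocks (CfsgLib.Ore.comp (cof g)) 0 0 (blk M)).submatrix finSumFinEquiv.symm finSumFinEquiv.symm =
            c • (1 : Matrix (Fin (g.natDegree + sz M)) (Fin (g.natDegree + sz M)) F) := hc
        ext i k
        have := congrFun (congrFun e (finSumFinEquiv (Sum.inl i))) (finSumFinEquiv (Sum.inl k))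
        simpa [Matrix.one_apply] using this
      have := congrFun (congrFun h1 ⟨1, by omega⟩) ⟨0, by omega⟩
      simp [CfsgLib.Ore.comp, show ¬ (1 = g.natDegree) from by omega] at this
  obtain ⟨hlad, -⟩ := lad_blk h4 ht hA h3 hnsL j
  refine ⟨fun G hG hd => ?_, ?_⟩
  · exact ((hlad.congr hs.symm) n (by simp) G hG hd).prods.sprods hfull
  rcases Nat.lt_or_ge n 5 with h5 | h5
  · omega
  obtain ⟨i, rfl⟩ : ∃ i, j = i + 2 := ⟨j - 2, by omega⟩
  obtain ⟨hlad', hns'⟩ := lad_blk h4 ht hA h3 hnsL i
  have hd' : (blk (L ++ List.replicate i (Polynomial.X - C t))).det ≠ 0 := by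
    refine det_blk_ne fun g hg => ?_
    rcases List.mem_append.1 hg with hg | hg
    · exact ⟨(hA g hg).1, (hA g hg).2.1⟩
    · rw [List.eq_of_mem_replicate hg]; exact ⟨monic_X_sub_C t, by simpa using ht⟩
  refine goodS_ladder ht h5 hX hr hfull hd' hns' hlad' ?_ ?_
  · rw [Fintype.card_fin, sz_eq_sum, List.map_append, List.sum_append, List.map_replicate, List.sum_replicate,
      natDegree_X_sub_C, smul_eq_mul, mul_one, hsum, sz_eq_sum]
    omega
  · have h2 : Sim (blk [Polynomial.X - C t, Polynomial.X - C t]) (t • (1 : Matrix (Fin 2) (Fin 2) F)) := by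
      have h1 := (blk_single (Polynomial.X - C t)).symm.trans (blk_linear_one t)
      refine ((blk_cons _ _).trans (h1.blocks ((blk_single _).trans h1))).trans ?_
      rw [← smul_zero (A := Matrix (Fin 1) (Fin 1) F) t, ← fromBlocks_smul, fromBlocks_one]
      exact Sim.smul ((Sim.reindex _ finSumFinEquiv.symm).trans (Sim.of_eq (Matrix.submatrix_one_equiv _))) t
    refine (hs.trans ((blk_perm ?_).trans (blk_append [Polynomial.X - C t, Polynomial.X - C t] _))).trans (h2.blocks (Sim.refl _))
    rw [List.replicate_succ, List.replicate_succ]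
    exact List.perm_middle.trans (List.perm_middle.cons _)

end CfsgLib.Known.CoverPSL
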