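import Cfsg.Agent.Lib.Known.CoverPSL.Engine
import Cfsg.Agent.Lib.Known.CoverPSL.Align
import Cfsg.Agent.Lib.Known.CoverPSL.Cubic

/-!
# The ladder: repeated eigenvalues are peeled off one by one
-/

set_option autoImplicit false
set_option linter.unusedSectionVars false
set_option linter.style.haveILetI false

open Matrix Polynomial CfsgLib.Ore

namespace CfsgLib.Known.CoverPSL

universe u

variable {F : Type u} [Field F]
variable {ι κ : Type*} [Fintype ι] [DecidableEq ι] [Fintype κ] [DecidableEq κ]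

/-- all long products -/
def Lad (t : F) (X : Matrix κ κ F) : Prop :=
  ∀ m, Fintype.card κ ≤ m → ∀ G : Matrix κ κ F, Nonscalar G → G.det = X.det ^ m → PA X t m G

theorem SPA.pa {X G : Matrix ι ι F} {α : F} {m : ℕ} (h : SPA X α m G) : PA X α m G := by
  obtain ⟨l, h1, h2, h3, h4⟩ := h
  exact ⟨l, h1, fun Y hY => (h2 Y hY).sim, h3, h4⟩

theorem Lad.congr {t : F} {X : Matrix κ κ F} {Y : Matrix ι ι F} (h : Lad t X) (e : Sim X Y) : Lad t Y := by
  intro m hm G hG hd
  have hc : Fintype.card κ = Fintype.card ι := by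
    have := congrArg natDegree (charpoly_of_sim e)
    rwa [Matrix.charpoly_natDegree_eq_dim, Matrix.charpoly_natDegree_eq_dim] at this
  obtain ⟨eqv⟩ : Nonempty (κ ≃ ι) := ⟨Fintype.equivOfCardEq hc⟩
  have hs : Sim G (G.submatrix eqv eqv) := Sim.reindex G eqv
  exact ((h m (hc ▸ hm) _ (Nonscalar.of_sim hs.symm hG) (by rw [← hs.det_eq, hd, e.det_eq])).of_sim hs).congr e

/-- one more eigenvalue -/
theorem Lad.step {t : F} (ht : t ≠ 0) {Xb : Matrix κ κ F} (hd : Xb.det ≠ 0) (h3 : 2 ≤ Fintype.card κ)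
    (hns : Nonscalar Xb) (h : Lad t Xb) :
    Lad t (fromBlocks (t • (1 : Matrix (Fin 1) (Fin 1) F)) 0 0 Xb) := by
  intro m hm G hG hdet
  simp only [Fintype.card_sum, Fintype.card_fin] at hm
  obtain ⟨k, rfl⟩ : ∃ k, m = k + 1 := ⟨m - 1, by omega⟩
  obtain ⟨u, hu⟩ : ∃ u : κ → F, Xb *ᵥ u ≠ t • u := by
    by_contra hno
    push Not at hno
    exact hns t (Matrix.ext_iff_mulVec.2 fun u => by rw [hno u, Matrix.smul_mulVec, Matrix.one_mulVec])
  let U : Matrix κ (Fin 1) F := Matrix.of fun i _ => u i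
  let v₀ : Matrix κ (Fin 1) F := t • U - Xb * U
  have hsim : Sim (fromBlocks (t • (1 : Matrix (Fin 1) (Fin 1) F)) 0 v₀ Xb)
      (fromBlocks (t • (1 : Matrix (Fin 1) (Fin 1) F)) 0 0 Xb) := by
    refine ⟨fromBlocks 1 0 U 1, fromBlocks 1 0 (-U) 1, ?_, ?_, ?_⟩
    · simp [fromBlocks_multiply, fromBlocks_one]
    · simp [fromBlocks_multiply, fromBlocks_one]
    · simp [fromBlocks_multiply, v₀, Matrix.mul_smul]
  obtain ⟨Z, hZ, hL⟩ := exists_lower hsim
  have hz0 : Z 0 0 ≠ 0 := by
    have := hZ.ne_zero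
    rwa [Matrix.det_fin_one] at this
  have hv : ∀ w, (v₀ * Z⁻¹) *ᵥ w = 0 → w = 0 := fun w e => by
    obtain ⟨i, hi⟩ := Function.ne_iff.1 hu
    have hv0 : v₀ i 0 ≠ 0 := by
      have h1 : v₀ i 0 = t * u i - (Xb *ᵥ u) i := by simp [v₀, U, Matrix.mul_apply, Matrix.mulVec, dotProduct]
      rw [h1, sub_ne_zero]
      exact fun h2 => hi (by rw [Pi.smul_apply, smul_eq_mul, h2])
    have e' := congrFun e i
    simp [Matrix.mulVec, dotProduct, Matrix.mul_apply, hv0] at e'
    funext j
    obtain rfl : j = 0 := Subsingleton.elim _ _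
    exact e'.resolve_left hz0
  obtain ⟨z, hz⟩ := exists_moved hG
  have hz' : LinearIndependent F (Sum.elim (fun _ : Fin 1 => z) fun _ : Fin 1 => G *ᵥ z) := by
    have e : (Sum.elim (fun _ : Fin 1 => z) fun _ : Fin 1 => G *ᵥ z) = ![z, G *ᵥ z] ∘ finSumFinEquiv := by
      funext i
      rcases i with i | i <;> obtain rfl : i = 0 := Subsingleton.elim _ _ <;> rfl
    rw [e]
    exact hz.comp _ finSumFinEquiv.injective
  have hXd : (fromBlocks (t • (1 : Matrix (Fin 1) (Fin 1) F)) 0 0 Xb).det = t * Xb.det := by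
    simp
  refine (engine ht hL hd.isUnit hv (by simp; omega) (G := G) ?_ hz' fun D hD hDd => ?_).pa
  · rw [hdet, hXd]; exact pow_ne_zero _ (mul_ne_zero ht hd)
  · refine h k (by omega) D hD ?_
    rw [hdet, hXd, Fintype.card_fin, pow_one] at hDd
    refine mul_right_cancel₀ (mul_ne_zero (pow_ne_zero (k + 1) ht) hd) ?_
    rw [hDd]; ring

/-- the blocks without the repeated eigenvalue -/
theorem lad_base [Fintype F] (h4 : 4 ≤ Fintype.card F) {t : F} (ht : t ≠ 0) {L : List F[X]}
    (hL : ∀ g ∈ L, Admiss t g) (h3 : 3 ≤ sz L) (hns : Nonscalar (blk L)) : Lad t (blk L) := by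
  have hd : (blk L).det ≠ 0 := det_blk_ne fun g hg => ⟨(hL g hg).1, (hL g hg).2.1⟩
  rcases Nat.lt_or_ge 3 (sz L) with h | h
  · obtain ⟨n, A, H, ρ, β, hP, hT, -, hR⟩ := pairDataR_blk h4 L hL
    obtain rfl : n = sz L := by simpa using hP.card
    intro m hm
    refine pa_extend (m₀ := 4) hd.isUnit hns (fun G hG hdet => ?_) m (by simp at hm; omega)
    obtain ⟨l, l1, l2, l3, l4⟩ := pa_four h4 h3 hP hT hd G hG hdet
    exact ⟨l, l1, l2, l3, l4 t hR⟩
  · -- a single cubic
    obtain ⟨g, rfl⟩ : ∃ g, L = [g] := by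
      match L, h3, h, hL with
      | [], h3, _, _ => simp [sz] at h3
      | [g], _, _, _ => exact ⟨g, rfl⟩
      | a :: b :: M, _, h, hL =>
        exfalso
        obtain ⟨-, -, ha⟩ := hL a (by simp)
        obtain ⟨-, -, hb⟩ := hL b (by simp)
        have ha' : 2 ≤ a.natDegree := by rcases ha with ha | ⟨ha, -⟩ <;> omega
        have hb' : 2 ≤ b.natDegree := by rcases hb with hb | ⟨hb, -⟩ <;> omega
        simp [sz] at h
        omega
    have hg : g.natDegree = 3 := by simp [sz] at h h3; omega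
    obtain ⟨c, -, hs, hc⟩ := exists_comp (hL g (by simp)).1 hg
    have hc0 : c 0 ≠ 0 := by rw [hc 0]; exact (hL g (by simp)).2.1
    have hsim : Sim (CfsgLib.Ore.comp c) (blk [g]) := ((blk_single g).trans hs).symm
    refine Lad.congr (fun m hm => ?_) hsim
    simp at hm
    exact pa_extend (hsim.det_eq ▸ hd.isUnit) (Nonscalar.of_sim hsim hns) (fun G hG hdet => pa_three h4 c hc0 ht G hG hdet) m hm

/-- the blocks and the repeated eigenvalue -/
theorem lad_blk [Fintype F] (h4 : 4 ≤ Fintype.card F) {t : F} (ht : t ≠ 0) {L : List F[X]}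
    (hL : ∀ g ∈ L, Admiss t g) (h3 : 3 ≤ sz L) (hns : Nonscalar (blk L)) :
    ∀ j, Lad t (blk (L ++ List.replicate j (Polynomial.X - C t))) ∧
      Nonscalar (blk (L ++ List.replicate j (Polynomial.X - C t)))
  | 0 => by
    rw [List.replicate_zero, List.append_nil]
    exact ⟨lad_base h4 ht hL h3 hns, hns⟩
  | j + 1 => by
    obtain ⟨h, hn⟩ := lad_blk h4 ht hL h3 hns j
    have hsim : Sim (fromBlocks (t • (1 : Matrix (Fin 1) (Fin 1) F)) 0 0
        (blk (L ++ List.replicate j (Polynomial.X - C t))))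
        (blk (L ++ List.replicate (j + 1) (Polynomial.X - C t))) := by
      refine ((((blk_single _).symm.trans (blk_linear_one t)).symm.blocks (Sim.refl _)).trans (blk_cons _ _).symm).trans
        (blk_perm ?_)
      rw [List.replicate_succ]
      exact List.perm_middle.symm
    have hd : (blk (L ++ List.replicate j (Polynomial.X - C t))).det ≠ 0 := by
      refine det_blk_ne fun g hg => ?_
      rcases List.mem_append.1 hg with hg | hg
      · exact ⟨(hL g hg).1, (hL g hg).2.1⟩
      · rw [List.eq_of_mem_replicate hg]; exact ⟨monic_X_sub_C t, by simpa using ht⟩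
    have hc : 2 ≤ Fintype.card (Fin (sz (L ++ List.replicate j (Polynomial.X - C t)))) := by
      simp only [Fintype.card_fin, sz_eq_sum, List.map_append, List.sum_append] at h3 ⊢
      omega
    refine ⟨(h.step ht hd hc hn).congr hsim, Nonscalar.of_sim hsim.symm fun c hc => ?_⟩
    refine hn c ?_
    have := congrArg Matrix.toBlocks₂₂ hc
    rw [Matrix.toBlocks_fromBlocks₂₂] at this
    rw [this]
    ext i k
    simp [Matrix.toBlocks₂₂, Matrix.one_apply, Matrix.smul_apply]

end CfsgLib.Known.CoverPSL
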