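import Cfsg.Agent.Lib.Known.CoverPSL.Basic

/-!
# Prescribing linear maps; matrices which differ from one by a rank one matrix
-/

set_option autoImplicit false
set_option linter.unusedSectionVars false
set_option linter.style.haveILetI false

open Matrix CfsgLib.Ore

namespace CfsgLib.Known.CoverPSL

variable {F : Type*} [Field F]
variable {ι κ σ : Type*} [Fintype ι] [DecidableEq ι] [Fintype κ] [DecidableEq κ] [Fintype σ] [DecidableEq σ]

/-- an independent family can be moved to any other -/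
theorem exists_inv_map (hc : Fintype.card κ = Fintype.card ι) {a : σ → κ → F} {b : σ → ι → F}
    (ha : LinearIndependent F a) (hb : LinearIndependent F b) :
    ∃ (P : Matrix ι κ F) (Q : Matrix κ ι F), P * Q = 1 ∧ Q * P = 1 ∧ ∀ i, P *ᵥ a i = b i := by
  classical
  let Ba := Module.Basis.sumExtend ha
  let Bb := Module.Basis.sumExtend hb
  haveI := Module.Finite.finite_basis Ba
  haveI : Finite ↑(Module.Basis.sumExtendIndex ha) := Finite.sum_right σ
  letI : Fintype ↑(Module.Basis.sumExtendIndex ha) := Fintype.ofFinite _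
  haveI := Module.Finite.finite_basis Bb
  haveI : Finite ↑(Module.Basis.sumExtendIndex hb) := Finite.sum_right σ
  letI : Fintype ↑(Module.Basis.sumExtendIndex hb) := Fintype.ofFinite _
  have h1 := Module.finrank_eq_card_basis Ba
  have h2 := Module.finrank_eq_card_basis Bb
  rw [Module.finrank_fintype_fun_eq_card, Fintype.card_sum] at h1 h2
  obtain ⟨e⟩ : Nonempty (↑(Module.Basis.sumExtendIndex ha) ≃ ↑(Module.Basis.sumExtendIndex hb)) :=
    ⟨Fintype.equivOfCardEq (by omega)⟩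
  let f : (κ → F) ≃ₗ[F] (ι → F) := Ba.equiv Bb (Equiv.sumCongr (Equiv.refl σ) e)
  refine ⟨LinearMap.toMatrix' f.toLinearMap, LinearMap.toMatrix' f.symm.toLinearMap, ?_, ?_, fun i => ?_⟩
  · rw [← LinearMap.toMatrix'_comp, f.comp_symm, LinearMap.toMatrix'_id]
  · rw [← LinearMap.toMatrix'_comp, f.symm_comp, LinearMap.toMatrix'_id]
  · rw [LinearMap.toMatrix'_mulVec]
    have ea : Ba (Sum.inl i) = a i := by
      simp [Ba, Module.Basis.sumExtend, Equiv.Set.sumDiffSubset]
      rfl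
    have eb : Bb (Sum.inl i) = b i := by
      simp [Bb, Module.Basis.sumExtend, Equiv.Set.sumDiffSubset]
      rfl
    show f (a i) = b i
    rw [← ea, Module.Basis.equiv_apply]
    exact eb

/-- a functional with prescribed values on an independent family -/
theorem exists_dot {a : σ → ι → F} (ha : LinearIndependent F a) (c : σ → F) :
    ∃ y : ι → F, ∀ i, y ⬝ᵥ a i = c i := by
  classical
  let T : (σ → F) →ₗ[F] (ι → F) := Fintype.linearCombination F a
  obtain ⟨g, hg⟩ := T.exists_leftInverse_of_injective (LinearMap.ker_eq_bot.2 ha.fintypeLinearCombination_injective)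
  refine ⟨c ᵥ* LinearMap.toMatrix' g, fun i => ?_⟩
  rw [← Matrix.dotProduct_mulVec, LinearMap.toMatrix'_mulVec]
  have := congrArg (fun f : (σ → F) →ₗ[F] (σ → F) => f (Pi.single i 1)) hg
  simp only [LinearMap.coe_comp, Function.comp_apply, LinearMap.id_coe, id_eq] at this
  rw [show a i = T (Pi.single i 1) by simp [T, Fintype.linearCombination_apply_single], this]
  simp

theorem det_one_add_outer (u v : ι → F) : (1 + vecMulVec u v).det = 1 + v ⬝ᵥ u := by
  rw [← Matrix.det_one_add_replicateCol_mul_replicateRow (ι := Unit) u v]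
  congr 1
  ext i j
  simp [Matrix.vecMulVec_apply, Matrix.mul_apply]

theorem exists_one_of_ne_zero {u v : ι → F} (hu : u ≠ 0) (hv : v ≠ 0) :
    ∃ z : ι → F, u ⬝ᵥ z = 1 ∧ v ⬝ᵥ z ≠ 0 := by
  classical
  obtain ⟨i, hi⟩ := Function.ne_iff.1 hu
  obtain ⟨j, hj⟩ := Function.ne_iff.1 hv
  simp only [Pi.zero_apply] at hi hj
  have key : ∃ z : ι → F, u ⬝ᵥ z ≠ 0 ∧ v ⬝ᵥ z ≠ 0 := by
    by_cases hvi : v i = 0
    · by_cases huj : u j = 0
      · exact ⟨Pi.single i 1 + Pi.single j 1, by simp [dotProduct_add, huj, hi], by simp [dotProduct_add, hvi, hj]⟩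
      · exact ⟨Pi.single j 1, by simp [huj], by simp [hj]⟩
    · exact ⟨Pi.single i 1, by simp [hi], by simp [hvi]⟩
  obtain ⟨z, hz1, hz2⟩ := key
  exact ⟨(u ⬝ᵥ z)⁻¹ • z, by simp [dotProduct_smul, inv_mul_cancel₀ hz1], by simp [dotProduct_smul, hz1, hz2]⟩

/-- a matrix one plus a rank one matrix is known up to similarity by the determinant -/
theorem sim_outer (hc : Fintype.card κ = Fintype.card ι) {x y : ι → F} {x' y' : κ → F} (hx : x ≠ 0)
    (hy : y ≠ 0) (hx' : x' ≠ 0) (hy' : y' ≠ 0) (h : y ⬝ᵥ x = y' ⬝ᵥ x') :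
    Sim (1 + vecMulVec x y) (1 + vecMulVec x' y') := by
  obtain ⟨P, Q, hPQ, hQP, hP⟩ := exists_inv_map (σ := Unit) hc
    (a := fun _ : Unit => x') (LinearIndependent.of_subsingleton () hx')
    (b := fun _ : Unit => x) (LinearIndependent.of_subsingleton () hx)
  have hPx : P *ᵥ x' = x := hP ()
  obtain ⟨w, hw_def⟩ : ∃ w, w = y ᵥ* P := ⟨_, rfl⟩
  have hwx : w ⬝ᵥ x' = y' ⬝ᵥ x' := by rw [hw_def, ← Matrix.dotProduct_mulVec, hPx, h]
  have hw : w ≠ 0 := by
    intro e
    apply hy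
    have := congrArg (· ᵥ* Q) (hw_def.symm.trans e)
    simpa [Matrix.vecMul_vecMul, hPQ] using this
  -- a map fixing `x'` which carries `w` to `y'`
  obtain ⟨G, hGd, hGx, hGw⟩ : ∃ G : Matrix κ κ F, G.det ≠ 0 ∧ G *ᵥ x' = x' ∧ w ᵥ* G = y' := by
    by_cases hs : y' ⬝ᵥ x' = 0
    · obtain ⟨z, hz, hz'⟩ := exists_one_of_ne_zero hw hy'
      refine ⟨1 + vecMulVec z (y' - w), ?_, ?_, ?_⟩
      · rw [det_one_add_outer, sub_dotProduct, hz]
        simpa using hz'
      · rw [Matrix.add_mulVec, Matrix.one_mulVec, Matrix.vecMulVec_mulVec, sub_dotProduct, hwx, hs]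
        simp
      · rw [Matrix.vecMul_add, Matrix.vecMul_one, Matrix.vecMul_vecMulVec, hz]
        simp
    · refine ⟨1 + vecMulVec ((y' ⬝ᵥ x')⁻¹ • x') (y' - w), ?_, ?_, ?_⟩
      · rw [det_one_add_outer, dotProduct_smul, sub_dotProduct, hwx]
        simp
      · rw [Matrix.add_mulVec, Matrix.one_mulVec, Matrix.vecMulVec_mulVec, sub_dotProduct, hwx]
        simp
      · rw [Matrix.vecMul_add, Matrix.vecMul_one, Matrix.vecMul_vecMulVec, dotProduct_smul, hwx, smul_eq_mul,
          inv_mul_cancel₀ hs]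
        simp
  have hGu : IsUnit G.det := isUnit_iff_ne_zero.2 hGd
  refine ⟨P * G, G⁻¹ * Q, ?_, ?_, ?_⟩
  · rw [Matrix.mul_assoc, ← Matrix.mul_assoc G, Matrix.mul_nonsing_inv _ hGu, Matrix.one_mul, hPQ]
  · rw [Matrix.mul_assoc, ← Matrix.mul_assoc Q, hQP, Matrix.one_mul, Matrix.nonsing_inv_mul _ hGu]
  · rw [Matrix.add_mul, Matrix.one_mul, Matrix.mul_add, Matrix.mul_one, Matrix.vecMulVec_mul, Matrix.mul_vecMulVec]
    congr 2
    · rw [← Matrix.mulVec_mulVec, hGx, hPx]
    · rw [← Matrix.vecMul_vecMul, ← hw_def, hGw]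

end CfsgLib.Known.CoverPSL
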