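import Cfsg.Agent.Lib.Known.CoverPSL.Pair

/-!
# Linking two pairs

If the common eigenvectors of the first pair and the common left eigenvectors of the second are
incompatible, an off-diagonal perturbation of the sum of two pairs has a product with one-dimensional
eigenspaces again.
-/

set_option autoImplicit false
set_option linter.unusedSectionVars false
set_option linter.style.haveILetI false

open Matrix Polynomial CfsgLib.Ore

namespace CfsgLib.Known.CoverPSL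

universe u

variable {F : Type u} [Field F]
variable {ι κ μ α β : Type*} [Fintype ι] [DecidableEq ι] [Fintype κ] [DecidableEq κ] [Fintype μ] [DecidableEq μ]
  [Fintype α] [DecidableEq α] [Fintype β] [DecidableEq β]

/-- reindexing as a conjugation -/
theorem reindex_conj (e : ι ≃ κ) :
    ∃ (S : Matrix ι κ F) (S' : Matrix κ ι F), S * S' = 1 ∧ S' * S = 1 ∧
      ∀ M : Matrix κ κ F, S * M * S' = M.submatrix e e := by
  refine ⟨(1 : Matrix κ κ F).submatrix e id, (1 : Matrix κ κ F).submatrix id e, ?_, ?_, fun M => ?_⟩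
  · rw [← Matrix.submatrix_mul _ _ e id e Function.bijective_id, Matrix.mul_one, Matrix.submatrix_one_equiv]
  · rw [Matrix.submatrix_mul_equiv (1 : Matrix κ κ F) 1 id e id, Matrix.mul_one, Matrix.submatrix_id_id]
  · ext i j
    simp [Matrix.mul_apply, Matrix.one_apply]

/-- a functional of a perturbation vanishes identically only for common eigenvectors -/
theorem exists_perturb {A₁ H₁ : Matrix α α F} {A₂ H₂ : Matrix β β F} {k : α → F} {f : β → F} {v : F}
    (hk : k ≠ 0) (hf : f ≠ 0) (hv : v ≠ 0) (h1 : (A₁ * H₁) *ᵥ k = v • k) (h2 : f ᵥ* (A₂ * H₂) = v • f)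
    (hall : ∀ R : Matrix β α F, f ⬝ᵥ (A₂ * (R * H₁ - H₂ * R)) *ᵥ k = 0) :
    ∃ a b : F, A₁ *ᵥ k = a • k ∧ H₁ *ᵥ k = b • k ∧ f ᵥ* A₂ = a • f ∧ f ᵥ* H₂ = b • f := by
  classical
  obtain ⟨g, hg⟩ : ∃ g, g = f ᵥ* A₂ := ⟨_, rfl⟩
  have hgH : g ᵥ* H₂ = v • f := by rw [hg, Matrix.vecMul_vecMul, h2]
  have key : ∀ (x : β → F) (y : α → F), (g ⬝ᵥ x) * (y ⬝ᵥ (H₁ *ᵥ k)) = ((g ᵥ* H₂) ⬝ᵥ x) * (y ⬝ᵥ k) := by
    intro x y
    have := hall (vecMulVec x y)
    rw [Matrix.dotProduct_mulVec, ← Matrix.vecMul_vecMul, ← hg, Matrix.vecMul_sub, ← Matrix.vecMul_vecMul,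
      ← Matrix.vecMul_vecMul, Matrix.vecMul_vecMulVec, Matrix.vecMul_vecMulVec, sub_dotProduct, Matrix.smul_vecMul,
      smul_dotProduct, smul_dotProduct, ← Matrix.dotProduct_mulVec] at this
    simpa [sub_eq_zero] using this
  have hg0 : g ≠ 0 := by
    intro e
    rw [e, Matrix.zero_vecMul, eq_comm, smul_eq_zero] at hgH
    exact hgH.elim hv hf
  obtain ⟨i, hi⟩ := Function.ne_iff.1 hg0
  obtain ⟨j, hj⟩ := Function.ne_iff.1 hk
  simp only [Pi.zero_apply] at hi hj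
  obtain ⟨b, hb⟩ : ∃ b, b = (g ᵥ* H₂) i / g i := ⟨_, rfl⟩
  have hH1 : H₁ *ᵥ k = b • k := by
    funext l
    have := key (Pi.single i 1) (Pi.single l 1)
    simp at this
    rw [Pi.smul_apply, smul_eq_mul, hb]
    field_simp
    linear_combination this
  have hgb : g ᵥ* H₂ = b • g := by
    funext l
    have := key (Pi.single l 1) (Pi.single j 1)
    simp [hH1] at this
    refine mul_right_cancel₀ hj ?_
    rw [Pi.smul_apply, smul_eq_mul]
    linear_combination -this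
  have hAk : b • (A₁ *ᵥ k) = v • k := by rw [← Matrix.mulVec_smul, ← hH1, Matrix.mulVec_mulVec, h1]
  have hb0 : b ≠ 0 := by
    intro e
    rw [e, zero_smul, eq_comm, smul_eq_zero] at hAk
    exact hAk.elim hv hk
  refine ⟨v / b, b, ?_, hH1, ?_, ?_⟩
  · rw [div_eq_inv_mul, ← smul_smul, ← hAk, smul_smul, inv_mul_cancel₀ hb0, one_smul]
  · rw [← hg, div_eq_inv_mul, ← smul_smul, ← hgH, hgb, smul_smul, inv_mul_cancel₀ hb0, one_smul]
  · have : f = (b / v) • g := by
      rw [div_eq_inv_mul, ← smul_smul, ← hgb, hgH, smul_smul, inv_mul_cancel₀ hv, one_smul]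
    rw [this, Matrix.smul_vecMul, hgb, smul_comm]

/-- the link -/
theorem link [Fintype F] {d n : ℕ} {A₁ H₁ : Matrix (Fin d) (Fin d) F} {A₂ H₂ : Matrix (Fin n) (Fin n) F}
    {X₁ : Matrix κ κ F} {X₂ : Matrix μ μ F} {ρ₁ ρ₂ : F} {β₁ : Fin d → F} {β₂ : Fin n → F}
    (hP₁ : HasPair X₁ ρ₁ A₁ H₁) (hP₂ : HasPair X₂ ρ₂ A₂ H₂) (T₁ : TPair A₁ H₁ β₁) (T₂ : TPair A₂ H₂ β₂)
    (hd₁ : X₁.det ≠ 0)
    (hno : ∀ (a b : F) (w : Fin d → F) (f : Fin n → F), w ≠ 0 → A₁ *ᵥ w = a • w → H₁ *ᵥ w = b • w → f ≠ 0 → f ᵥ* A₂ = a • f →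
      f ᵥ* H₂ = b • f → False) :
    ∃ A H : Matrix (Fin (d + n)) (Fin (d + n)) F, HasPair (fromBlocks X₁ 0 0 X₂) (ρ₁ * ρ₂) A H ∧
      TPair A H (Fin.append β₁ β₂) ∧ (∀ t, NoR t A₁ H₁ → NoR t A₂ H₂ → NoR t A H) ∧
      (∀ t, LeftIn t A₁ H₁ → LeftIn t A₂ H₂ → LeftIn t A H) := by
  classical
  have hdet1 : (A₁ * H₁).det ≠ 0 := by
    obtain ⟨e1, e2⟩ := hP₁.sim
    rw [det_mul, e1.det_eq, e2.det_eq]
    exact mul_ne_zero hd₁ hd₁
  have ev1 : ∀ (w : Fin d → F) (v : F), w ≠ 0 → (A₁ * H₁) *ᵥ w = v • w → v ≠ 0 := by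
    intro w v hw h e
    rw [e, zero_smul] at h
    exact hdet1 (Matrix.exists_mulVec_eq_zero_iff.1 ⟨w, hw, h⟩)
  -- the perturbation
  let Idx := {v : F // v ≠ 0 ∧ (∃ k, k ≠ 0 ∧ (A₁ * H₁) *ᵥ k = v • k) ∧ ∃ f, f ≠ 0 ∧ f ᵥ* (A₂ * H₂) = v • f}
  have hk : ∀ v : Idx, ∃ k, k ≠ 0 ∧ (A₁ * H₁) *ᵥ k = v.1 • k := fun v => v.2.2.1
  have hf : ∀ v : Idx, ∃ f, f ≠ 0 ∧ f ᵥ* (A₂ * H₂) = v.1 • f := fun v => v.2.2.2
  choose k hk0 hk1 using hk
  choose f hf0 hf1 using hf
  let φ : Idx → (Matrix (Fin n) (Fin d) F →ₗ[F] F) := fun v =>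
    { toFun := fun R => f v ⬝ᵥ (A₂ * (R * H₁ - H₂ * R)) *ᵥ k v
      map_add' := fun R S => by
        rw [Matrix.add_mul, Matrix.mul_add, add_sub_add_comm, Matrix.mul_add, Matrix.add_mulVec, dotProduct_add]
      map_smul' := fun c R => by
        rw [Matrix.smul_mul, Matrix.mul_smul, ← smul_sub, Matrix.mul_smul, Matrix.smul_mulVec, dotProduct_smul]
        rfl }
  have hne : ∀ v, LinearMap.ker (φ v) ≠ ⊤ := by
    intro v hv
    have hall : ∀ R : Matrix (Fin n) (Fin d) F, f v ⬝ᵥ (A₂ * (R * H₁ - H₂ * R)) *ᵥ k v = 0 := fun R => by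
      have : R ∈ LinearMap.ker (φ v) := by rw [hv]; exact Submodule.mem_top
      simpa [φ] using this
    obtain ⟨a, b, e1, e2, e3, e4⟩ := exists_perturb (hk0 v) (hf0 v) v.2.1 (hk1 v) (hf1 v) hall
    exact hno a b _ _ (hk0 v) e1 e2 (hf0 v) e3 e4
  haveI : Fintype Idx := Fintype.ofFinite _
  have hcard : (Finset.univ : Finset Idx).card < ENat.card F := by
    rw [ENat.card_eq_coe_fintype_card, Nat.cast_lt, Finset.card_univ]
    refine Fintype.card_lt_of_injective_of_notMem (fun v : Idx => v.1) Subtype.val_injective (b := 0) ?_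
    rintro ⟨v, hv⟩
    exact v.2.1 hv
  have huniv := Submodule.iUnion_ssubset_of_forall_ne_top_of_card_lt (Finset.univ : Finset Idx)
    (fun v => LinearMap.ker (φ v)) hne hcard
  obtain ⟨R, -, hR⟩ := Set.exists_of_ssubset huniv
  simp only [Finset.mem_univ, Set.iUnion_true, Set.mem_iUnion, not_exists, SetLike.mem_coe, LinearMap.mem_ker] at hR
  let M := R * H₁ - H₂ * R
  have hφ : ∀ v : Idx, f v ⬝ᵥ (A₂ * M) *ᵥ k v ≠ 0 := fun v => hR v
  -- on the sum type
  let U : Matrix (Fin d ⊕ Fin n) (Fin d ⊕ Fin n) F := fromBlocks 1 0 R 1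
  let U' : Matrix (Fin d ⊕ Fin n) (Fin d ⊕ Fin n) F := fromBlocks 1 0 (-R) 1
  let A₀ := fromBlocks A₁ 0 0 A₂
  let H₀ := fromBlocks H₁ 0 M H₂
  have hU1 : U * U' = 1 := by simp [U, U', fromBlocks_multiply, ← fromBlocks_one]
  have hU2 : U' * U = 1 := by simp [U, U', fromBlocks_multiply, ← fromBlocks_one]
  have hH0 : H₀ = U * fromBlocks H₁ 0 0 H₂ * U' := by
    simp [H₀, U, U', M, fromBlocks_multiply, Matrix.mul_neg, sub_eq_add_neg]
  have hP0 : HasPair (fromBlocks X₁ 0 0 X₂) (ρ₁ * ρ₂) A₀ H₀ := by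
    obtain ⟨P₁, P₁', R₁, R₁', a1, a2, a3, a4, a5, a6, a7⟩ := hP₁
    obtain ⟨P₂, P₂', R₂, R₂', b1, b2, b3, b4, b5, b6, b7⟩ := hP₂
    refine ⟨fromBlocks P₁ 0 0 P₂, fromBlocks P₁' 0 0 P₂', U * fromBlocks R₁ 0 0 R₂, fromBlocks R₁' 0 0 R₂' * U',
      ?_, ?_, ?_, ?_, ?_, ?_, ?_⟩
    · simp [fromBlocks_multiply, a1, b1, fromBlocks_one]
    · simp [fromBlocks_multiply, a2, b2, fromBlocks_one]
    · have : fromBlocks R₁ 0 0 R₂ * fromBlocks R₁' 0 0 R₂' = 1 := by
        simp [fromBlocks_multiply, a3, b3, fromBlocks_one]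
      rw [Matrix.mul_assoc, ← Matrix.mul_assoc (fromBlocks R₁ 0 0 R₂), this, Matrix.one_mul, hU1]
    · have : fromBlocks R₁' 0 0 R₂' * fromBlocks R₁ 0 0 R₂ = 1 := by
        simp [fromBlocks_multiply, a4, b4, fromBlocks_one]
      rw [Matrix.mul_assoc, ← Matrix.mul_assoc U', hU2, Matrix.one_mul, this]
    · simp [A₀, fromBlocks_multiply, a5, b5]
    · have : fromBlocks H₁ 0 0 H₂ * fromBlocks R₁ 0 0 R₂ = fromBlocks R₁ 0 0 R₂ * fromBlocks X₁ 0 0 X₂ := by
        simp [fromBlocks_multiply, a6, b6]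
      rw [hH0]
      calc U * fromBlocks H₁ 0 0 H₂ * U' * (U * fromBlocks R₁ 0 0 R₂)
          = U * (fromBlocks H₁ 0 0 H₂ * (U' * U) * fromBlocks R₁ 0 0 R₂) := by simp only [Matrix.mul_assoc]
        _ = U * fromBlocks R₁ 0 0 R₂ * fromBlocks X₁ 0 0 X₂ := by
            rw [hU2, Matrix.mul_one, this, Matrix.mul_assoc]
    · rw [Matrix.mul_assoc, det_mul]
      simp [U, fromBlocks_multiply, a7, b7]
  have hZ : A₀ * H₀ = fromBlocks (A₁ * H₁) 0 (A₂ * M) (A₂ * H₂) := by simp [A₀, H₀, fromBlocks_multiply]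
  have hthin : Thin (A₀ * H₀) := by
    rw [hZ]
    intro v
    obtain ⟨k₁, hk₁⟩ := T₁.thin v
    obtain ⟨k₂, hk₂⟩ := T₂.thin v
    have split : ∀ w : Fin d ⊕ Fin n → F, fromBlocks (A₁ * H₁) 0 (A₂ * M) (A₂ * H₂) *ᵥ w = v • w →
        (A₁ * H₁) *ᵥ (w ∘ Sum.inl) = v • (w ∘ Sum.inl) ∧
        (A₂ * M) *ᵥ (w ∘ Sum.inl) + (A₂ * H₂) *ᵥ (w ∘ Sum.inr) = v • (w ∘ Sum.inr) := fun w hw => by
      rw [fromBlocks_mulVec] at hw
      constructor <;> funext i
      · simpa using congrFun hw (Sum.inl i)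
      · simpa using congrFun hw (Sum.inr i)
    have tail : ∀ w : Fin d ⊕ Fin n → F, fromBlocks (A₁ * H₁) 0 (A₂ * M) (A₂ * H₂) *ᵥ w = v • w →
        w ∘ Sum.inl = 0 → ∃ c : F, w = c • Sum.elim (0 : Fin d → F) k₂ := fun w hw h0 => by
      obtain ⟨-, h2⟩ := split w hw
      rw [h0, Matrix.mulVec_zero, zero_add] at h2
      obtain ⟨c, hc⟩ := hk₂ _ h2
      refine ⟨c, funext fun i => ?_⟩
      rcases i with i | i
      · simpa using congrFun h0 i
      · simpa using congrFun hc i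
    by_cases hz2 : ∃ g, g ≠ 0 ∧ g ᵥ* (A₂ * H₂) = v • g
    · refine ⟨Sum.elim (0 : Fin d → F) k₂, fun w hw => tail w hw ?_⟩
      obtain ⟨h1, h2⟩ := split w hw
      by_contra hw1
      let vv : Idx := ⟨v, ev1 _ _ hw1 h1, ⟨_, hw1, h1⟩, hz2⟩
      obtain ⟨c, hc⟩ := hk₁ _ h1
      obtain ⟨c', hc'⟩ := hk₁ _ (hk1 vv)
      have hc'0 : c' ≠ 0 := fun e => hk0 vv (by rw [hc', e, zero_smul])
      have hprop : w ∘ Sum.inl = (c / c') • k vv := by
        rw [hc, hc', smul_smul, div_mul_cancel₀ _ hc'0]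
      have hd := congrArg (f vv ⬝ᵥ ·) h2
      have hswap : f vv ⬝ᵥ ((A₂ * H₂) *ᵥ (w ∘ Sum.inr)) = v * (f vv ⬝ᵥ (w ∘ Sum.inr)) := by
        rw [Matrix.dotProduct_mulVec, hf1 vv, smul_dotProduct, smul_eq_mul]
      simp only [dotProduct_add, hswap, dotProduct_smul, smul_eq_mul, add_eq_right] at hd
      rw [hprop, Matrix.mulVec_smul, dotProduct_smul, smul_eq_mul] at hd
      have := (mul_eq_zero.1 hd).resolve_right (hφ vv)
      exact hw1 (by rw [hprop, this, zero_smul])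
    · have hinj : ∀ x, (A₂ * H₂) *ᵥ x = v • x → x = 0 := fun x hx => by
        by_contra hx0
        refine hz2 ?_
        obtain ⟨g, hg, hg'⟩ := Matrix.exists_vecMul_eq_zero_iff.2
          (Matrix.exists_mulVec_eq_zero_iff.1 ⟨x, hx0, show (A₂ * H₂ - v • (1 : Matrix _ _ F)) *ᵥ x = 0 by
            rw [Matrix.sub_mulVec, hx, Matrix.smul_mulVec, Matrix.one_mulVec, sub_self]⟩)
        refine ⟨g, hg, ?_⟩
        rw [Matrix.vecMul_sub, Matrix.vecMul_smul, Matrix.vecMul_one, sub_eq_zero] at hg'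
        exact hg'
      by_cases hz1 : k₁ = 0
      · refine ⟨Sum.elim (0 : Fin d → F) k₂, fun w hw => tail w hw ?_⟩
        obtain ⟨c, hc⟩ := hk₁ _ (split w hw).1
        rw [hc, hz1, smul_zero]
      · obtain ⟨p, hp⟩ := Function.ne_iff.1 hz1
        refine thin_at (Sum.inl p) fun w hw hwp => ?_
        obtain ⟨h1, h2⟩ := split w hw
        obtain ⟨c, hc⟩ := hk₁ _ h1
        have hc0 : c = 0 := by
          have := congrFun hc p
          simp only [Function.comp_apply, hwp, Pi.smul_apply, smul_eq_mul] at this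
          exact (mul_eq_zero.1 this.symm).resolve_right hp
        rw [hc0, zero_smul] at hc
        rw [hc, Matrix.mulVec_zero, zero_add] at h2
        funext i
        rcases i with i | i
        · exact congrFun hc i
        · exact congrFun (hinj _ h2) i
  -- back to one index type
  obtain ⟨S, S', hS1, hS2, hS⟩ := reindex_conj (F := F) (finSumFinEquiv (m := d) (n := n)).symm
  have hprod : S * A₀ * S' * (S * H₀ * S') = S * (A₀ * H₀) * S' := by
    calc S * A₀ * S' * (S * H₀ * S') = S * A₀ * (S' * S) * H₀ * S' := by simp only [Matrix.mul_assoc]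
      _ = S * (A₀ * H₀) * S' := by rw [hS2, Matrix.mul_one, Matrix.mul_assoc S A₀ H₀]
  refine ⟨S * A₀ * S', S * H₀ * S', hP0.conj hS1 hS2, ⟨?_, ?_, ?_⟩, ?_, ?_⟩
  · intro i j hij
    rw [hprod, hS, hZ]
    induction i using Fin.addCases with
    | left i =>
      induction j using Fin.addCases with
      | left j => simp only [Matrix.submatrix_apply, finSumFinEquiv_symm_apply_castAdd, fromBlocks_apply₁₁]
                  exact T₁.low i j hij
      | right j => simp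
    | right i =>
      induction j using Fin.addCases with
      | left j => exact absurd hij (not_lt.2 (Fin.le_def.2 (by simp; omega)))
      | right j => simp only [Matrix.submatrix_apply, finSumFinEquiv_symm_apply_natAdd, fromBlocks_apply₂₂]
                   exact T₂.low i j (by simpa using hij)
  · intro i
    rw [hprod, hS, hZ]
    induction i using Fin.addCases with
    | left i => simpa using T₁.diag i
    | right i => simpa using T₂.diag i
  · rw [hprod]
    exact hthin.of_sim (sim_conj hS1 hS2 _)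
  · intro t h₁ h₂ w hA hH
    have eA := right_conj hS2 hA
    have eH := right_conj hS2 hH
    set x := S' *ᵥ w with hx
    have h0 : x ∘ Sum.inl = 0 := by
      refine h₁ _ (funext fun i => ?_) (funext fun i => ?_)
      · simpa [A₀, fromBlocks_mulVec] using congrFun eA (Sum.inl i)
      · simpa [H₀, fromBlocks_mulVec] using congrFun eH (Sum.inl i)
    have h0' : x ∘ Sum.inr = 0 := by
      refine h₂ _ (funext fun i => ?_) (funext fun i => ?_)
      · simpa [A₀, fromBlocks_mulVec] using congrFun eA (Sum.inr i)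
      · simpa [H₀, fromBlocks_mulVec, h0] using congrFun eH (Sum.inr i)
    have hx0 : x = 0 := funext fun i => by
      rcases i with i | i
      · exact congrFun h0 i
      · exact congrFun h0' i
    have := congrArg (S *ᵥ ·) (hx.symm.trans hx0)
    simpa [Matrix.mulVec_mulVec, hS1] using this
  · intro t h₁ h₂ a b g hg hA hH
    have eA := left_conj hS2 hS1 hA
    have eH := left_conj hS2 hS1 hH
    set x := g ᵥ* S with hx
    have hA2 : (x ∘ Sum.inr) ᵥ* A₂ = a • (x ∘ Sum.inr) :=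
      funext fun i => by simpa [A₀, vecMul_fromBlocks] using congrFun eA (Sum.inr i)
    have hH2 : (x ∘ Sum.inr) ᵥ* H₂ = b • (x ∘ Sum.inr) :=
      funext fun i => by simpa [H₀, vecMul_fromBlocks] using congrFun eH (Sum.inr i)
    by_cases hx2 : x ∘ Sum.inr = 0
    · refine h₁ a b (x ∘ Sum.inl) (fun e => hg ?_)
        (funext fun i => by simpa [A₀, vecMul_fromBlocks] using congrFun eA (Sum.inl i))
        (funext fun i => by simpa [H₀, vecMul_fromBlocks, hx2] using congrFun eH (Sum.inl i))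
      have hx0 : x = 0 := funext fun i => by
        rcases i with i | i
        · exact congrFun e i
        · exact congrFun hx2 i
      have := congrArg (· ᵥ* S') (hx.symm.trans hx0)
      simpa [Matrix.vecMul_vecMul, hS1] using this
    · exact h₂ a b _ hx2 hA2 hH2

end CfsgLib.Known.CoverPSL
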