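import Cfsg.Agent.Lib.Known.CoverPSL.Cyclic

/-!
# Pairs of similar matrices with a triangular product: one cyclic block

For a companion matrix `A` and prescribed nonzero `s j`, some `H` similar to `A` makes `A * H` lower
triangular with diagonal `c 0 ^ 2 / ∏ s, s 0, s 1, …`. The common eigenvectors of `A` and `H` are controlled.
-/

set_option autoImplicit false
set_option linter.unusedSectionVars false
set_option linter.style.haveILetI false

open Matrix Polynomial CfsgLib.Ore

namespace CfsgLib.Known.CoverPSL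

universe u

variable {F : Type u} [Field F]
variable {ι κ μ : Type*} [Fintype ι] [DecidableEq ι] [Fintype κ] [DecidableEq κ] [Fintype μ] [DecidableEq μ]

/-- two matrices similar to `X`; `ρ` is the quotient of the determinants of the conjugators -/
def HasPair (X : Matrix κ κ F) (ρ : F) (A H : Matrix ι ι F) : Prop :=
  ∃ (P : Matrix ι κ F) (P' : Matrix κ ι F) (R : Matrix ι κ F) (R' : Matrix κ ι F),
    P * P' = 1 ∧ P' * P = 1 ∧ R * R' = 1 ∧ R' * R = 1 ∧ A * P = P * X ∧ H * R = R * X ∧ (R * P').det = ρ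

/-- no common eigenvector with both eigenvalues `t` -/
def NoR (t : F) (A H : Matrix ι ι F) : Prop := ∀ w : ι → F, A *ᵥ w = t • w → H *ᵥ w = t • w → w = 0

/-- common eigenvectors from the left have both eigenvalues `t` -/
def LeftIn (t : F) (A H : Matrix ι ι F) : Prop :=
  ∀ (a b : F) (f : ι → F), f ≠ 0 → f ᵥ* A = a • f → f ᵥ* H = b • f → a = t ∧ b = t

/-- a triangular product with one-dimensional eigenspaces -/
structure TPair {n : ℕ} (A H : Matrix (Fin n) (Fin n) F) (β : Fin n → F) : Prop where
  low : ∀ i j, i < j → (A * H) i j = 0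
  diag : ∀ i, (A * H) i i = β i
  thin : Thin (A * H)

theorem HasPair.congr {X : Matrix κ κ F} {Y : Matrix μ μ F} {ρ : F} {A H : Matrix ι ι F} (h : HasPair X ρ A H)
    (e : Sim X Y) : HasPair Y ρ A H := by
  obtain ⟨P, P', R, R', a1, a2, a3, a4, a5, a6, a7⟩ := h
  obtain ⟨S, S', b1, b2, b3⟩ := e
  refine ⟨P * S, S' * P', R * S, S' * R', ?_, ?_, ?_, ?_, ?_, ?_, ?_⟩
  · rw [Matrix.mul_assoc, ← Matrix.mul_assoc S, b1, Matrix.one_mul, a1]
  · rw [Matrix.mul_assoc, ← Matrix.mul_assoc P', a2, Matrix.one_mul, b2]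
  · rw [Matrix.mul_assoc, ← Matrix.mul_assoc S, b1, Matrix.one_mul, a3]
  · rw [Matrix.mul_assoc, ← Matrix.mul_assoc R', a4, Matrix.one_mul, b2]
  · rw [← Matrix.mul_assoc, a5, Matrix.mul_assoc, b3, Matrix.mul_assoc]
  · rw [← Matrix.mul_assoc, a6, Matrix.mul_assoc, b3, Matrix.mul_assoc]
  · rw [Matrix.mul_assoc, ← Matrix.mul_assoc S, b1, Matrix.one_mul, a7]

theorem HasPair.sim {X : Matrix κ κ F} {ρ : F} {A H : Matrix ι ι F} (h : HasPair X ρ A H) :
    Sim A X ∧ Sim H X := by
  obtain ⟨P, P', R, R', a1, a2, a3, a4, a5, a6, -⟩ := h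
  exact ⟨⟨P, P', a1, a2, a5⟩, ⟨R, R', a3, a4, a6⟩⟩

theorem HasPair.det_ne {X : Matrix κ κ F} {ρ : F} {A H : Matrix ι ι F} (h : HasPair X ρ A H) : ρ ≠ 0 := by
  obtain ⟨P, P', R, R', a1, a2, a3, a4, -, -, rfl⟩ := h
  intro h0
  have hi : R * P' * (P * R') = 1 := by
    rw [Matrix.mul_assoc, ← Matrix.mul_assoc P', a2, Matrix.one_mul, a3]
  have := congrArg Matrix.det hi
  rw [det_mul, h0, zero_mul, det_one] at this
  exact zero_ne_one this

theorem HasPair.conj {X : Matrix κ κ F} {ρ : F} {A H : Matrix ι ι F} (h : HasPair X ρ A H) {S : Matrix μ ι F}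
    {S' : Matrix ι μ F} (b1 : S * S' = 1) (b2 : S' * S = 1) : HasPair X ρ (S * A * S') (S * H * S') := by
  obtain ⟨P, P', R, R', a1, a2, a3, a4, a5, a6, a7⟩ := h
  refine ⟨S * P, P' * S', S * R, R' * S', ?_, ?_, ?_, ?_, ?_, ?_, ?_⟩
  · rw [Matrix.mul_assoc, ← Matrix.mul_assoc P, a1, Matrix.one_mul, b1]
  · rw [Matrix.mul_assoc, ← Matrix.mul_assoc S', b2, Matrix.one_mul, a2]
  · rw [Matrix.mul_assoc, ← Matrix.mul_assoc R, a3, Matrix.one_mul, b1]
  · rw [Matrix.mul_assoc, ← Matrix.mul_assoc S', b2, Matrix.one_mul, a4]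
  · rw [Matrix.mul_assoc, ← Matrix.mul_assoc S', b2, Matrix.one_mul, Matrix.mul_assoc, a5, Matrix.mul_assoc]
  · rw [Matrix.mul_assoc, ← Matrix.mul_assoc S', b2, Matrix.one_mul, Matrix.mul_assoc, a6, Matrix.mul_assoc]
  · rw [← a7, Matrix.mul_assoc S R, ← Matrix.mul_assoc R P' S', ← Matrix.mul_assoc]
    exact det_conj_rect b1 b2 _

theorem aeval_mulVec_eigen {A : Matrix ι ι F} {w : ι → F} {a : F} (h : A *ᵥ w = a • w) (p : F[X]) :
    aeval A p *ᵥ w = p.eval a • w := by
  induction p using Polynomial.induction_on' with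
  | add p q hp hq => rw [map_add, Matrix.add_mulVec, hp, hq, eval_add, add_smul]
  | monomial k b =>
    have hk : A ^ k *ᵥ w = a ^ k • w := by
      induction k with
      | zero => simp
      | succ k ih => rw [pow_succ, ← Matrix.mulVec_mulVec, h, Matrix.mulVec_smul, ih, smul_smul, pow_succ']
    rw [aeval_monomial, ← Algebra.smul_def, Matrix.smul_mulVec, hk, eval_monomial, smul_smul]

theorem root_of_eigvec {m : ℕ} {c : Fin m → F} {w : Fin m → F} (hw : w ≠ 0) {a : F}
    (h : comp c *ᵥ w = a • w) : (cpoly c).eval a = 0 := by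
  have := aeval_mulVec_eigen h (cpoly c)
  rw [CfsgLib.Ore.aeval_comp, Matrix.zero_mulVec, eq_comm, smul_eq_zero] at this
  exact this.resolve_right hw

theorem comp_mulVec_zero {m : ℕ} (c : Fin (m + 2) → F) (x : Fin (m + 2) → F) :
    (comp c *ᵥ x) 0 = -c 0 * x (Fin.last _) := by
  rw [Matrix.mulVec, dotProduct, Finset.sum_eq_single (Fin.last _)]
  · simp [CfsgLib.Ore.comp]
  · intro j _ hj
    have : (j : ℕ) ≠ m + 1 := fun e => hj (Fin.ext (by simp; omega))
    simp [CfsgLib.Ore.comp, this]
  · simp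

theorem comp_mulVec_succ {m : ℕ} (c : Fin (m + 2) → F) (x : Fin (m + 2) → F) (i : Fin (m + 1)) :
    (comp c *ᵥ x) i.succ = x i.castSucc - c i.succ * x (Fin.last _) := by
  have hne : i.castSucc ≠ Fin.last (m + 1) := (Fin.castSucc_lt_last i).ne
  rw [Matrix.mulVec, dotProduct, Finset.sum_eq_add i.castSucc (Fin.last _) hne]
  · have : (i : ℕ) ≠ m + 1 := by have := i.2; omega
    simp [CfsgLib.Ore.comp, this, sub_eq_add_neg]
  · intro j _ hj
    have h1 : (j : ℕ) ≠ m + 1 := fun e => hj.2 (Fin.ext (by simp; omega))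
    have h2 : (i : ℕ) ≠ j := fun e => hj.1 (Fin.ext (by simp; omega))
    simp [CfsgLib.Ore.comp, h1, h2]
  · simp
  · simp

theorem prod_range_prod_range (σ : ℕ → F) :
    ∀ M : ℕ, ∏ k ∈ Finset.range (M + 1), ∏ i ∈ Finset.range k, σ i = ∏ i ∈ Finset.range M, σ i ^ (M - i)
  | 0 => by simp
  | M + 1 => by
    rw [Finset.prod_range_succ, prod_range_prod_range σ M,
      Finset.prod_range_succ (fun i => σ i ^ (M + 1 - i)) M, Finset.prod_range_succ σ M, ← mul_assoc,
      ← Finset.prod_mul_distrib, Nat.add_sub_cancel_left, pow_one]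
    congr 1
    refine Finset.prod_congr rfl fun i hi => ?_
    rw [← pow_succ]
    congr 1
    have := Finset.mem_range.1 hi
    omega

/-- the sign of the order reversal -/
noncomputable def revSign (F : Type u) [Field F] (n : ℕ) : F :=
  ((Equiv.Perm.sign (Fin.revPerm (n := n)) : ℤ) : F)

/-- the matrix similar to a companion matrix with prescribed columns -/
theorem exists_hess {m : ℕ} (c : Fin (m + 2) → F) (s h : Fin (m + 1) → F) (hs : ∀ j, s j ≠ 0)
    (hh : h (Fin.last m) = 0) :
    ∃ H R R' : Matrix (Fin (m + 2)) (Fin (m + 2)) F, R * R' = 1 ∧ R' * R = 1 ∧ comp c * R = R * H ∧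
      R.det = revSign F (m + 2) * ∏ j, (s j)⁻¹ ^ ((j : ℕ) + 1) ∧
      (∀ j, H *ᵥ Pi.single j.succ 1 = s j • Pi.single j.castSucc 1 + h j • Pi.single j.succ 1) ∧
      H 0 0 = -(∑ j, h j) - c (Fin.last _) ∧ H (Fin.last _) 0 = -c 0 * ∏ j, (s j)⁻¹ := by
  classical
  let A := comp c
  let σ : ℕ → F := fun k => if hk : m - k < m + 1 then (s ⟨m - k, hk⟩)⁻¹ else 1
  let η : ℕ → F := fun k => if hk : m - k < m + 1 then h ⟨m - k, hk⟩ else 0
  let u : ℕ → Fin (m + 2) → F := fun k => Nat.rec (ev F (m + 2) 0) (fun k v => σ k • (A *ᵥ v - η k • v)) k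
  have hu : ∀ k, u (k + 1) = σ k • (A *ᵥ u k - η k • u k) := fun k => rfl
  have hσ : ∀ k, σ k ≠ 0 := fun k => by
    simp only [σ]; split_ifs
    · exact inv_ne_zero (hs _)
    · exact one_ne_zero
  have hη0 : η 0 = 0 := by
    simp only [η]
    rw [dif_pos (by omega)]
    rw [← hh]; congr 1
  have props : ∀ k, k ≤ m + 1 → (∀ i : Fin (m + 2), k < (i : ℕ) → u k i = 0) ∧
      (∀ i : Fin (m + 2), (i : ℕ) = k → u k i = ∏ l ∈ Finset.range k, σ l) ∧
      (∀ i : Fin (m + 2), (i : ℕ) + 1 = k → u k i = -(∏ l ∈ Finset.range k, σ l) * ∑ l ∈ Finset.range k, η l) ∧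
      (1 ≤ k → u k 0 = 0) := by
    intro k
    induction k with
    | zero =>
      intro _
      refine ⟨fun i hi => ?_, fun i hi => ?_, fun i hi => absurd hi (Nat.succ_ne_zero _), by omega⟩
      · show ev F (m + 2) 0 i = 0
        simp [ev, hi.ne']
      · show ev F (m + 2) 0 i = _
        simp [ev, hi]
    | succ k ih =>
      intro hk
      obtain ⟨p1, p2, p3, p4⟩ := ih (by omega)
      have hlast : u k (Fin.last (m + 1)) = 0 := p1 _ (by simp; omega)
      have hA0 : (A *ᵥ u k) 0 = 0 := by rw [comp_mulVec_zero, hlast, mul_zero]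
      have hAs : ∀ i : Fin (m + 1), (A *ᵥ u k) i.succ = u k i.castSucc := fun i => by
        rw [comp_mulVec_succ, hlast, mul_zero, sub_zero]
      refine ⟨fun i hi => ?_, fun i hi => ?_, fun i hi => ?_, fun _ => ?_⟩
      · obtain ⟨j, rfl⟩ := Fin.exists_succ_eq.2 (show i ≠ 0 from fun e => by subst e; simp at hi)
        simp only [Fin.val_succ] at hi
        rw [hu, Pi.smul_apply, Pi.sub_apply, Pi.smul_apply, hAs, p1 _ (by simp; omega), p1 _ (by simp; omega)]
        simp
      · obtain ⟨j, rfl⟩ := Fin.exists_succ_eq.2 (show i ≠ 0 from fun e => by subst e; simp at hi)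
        simp only [Fin.val_succ] at hi
        rw [hu, Pi.smul_apply, Pi.sub_apply, Pi.smul_apply, hAs, p2 _ (by simp; omega), p1 j.succ (by simp; omega),
          Finset.prod_range_succ]
        simp [mul_comm]
      · rcases Fin.eq_zero_or_eq_succ i with rfl | ⟨j, rfl⟩
        · obtain rfl : k = 0 := by simpa using hi.symm
          rw [hu, Pi.smul_apply, Pi.sub_apply, Pi.smul_apply, hA0, hη0]
          simp [hη0]
        · simp only [Fin.val_succ] at hi
          rw [hu, Pi.smul_apply, Pi.sub_apply, Pi.smul_apply, hAs, p3 _ (by simp; omega), p2 j.succ (by simp; omega),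
            Finset.prod_range_succ, Finset.sum_range_succ]
          simp only [smul_eq_mul]
          ring
      · rw [hu, Pi.smul_apply, Pi.sub_apply, Pi.smul_apply, hA0]
        rcases Nat.eq_zero_or_pos k with rfl | hk'
        · simp [hη0]
        · simp [p4 hk']
  let P : Matrix (Fin (m + 2)) (Fin (m + 2)) F := of fun i j => u j i
  let R : Matrix (Fin (m + 2)) (Fin (m + 2)) F := P.submatrix id (Fin.revPerm (n := m + 2))
  have hR : ∀ i j, R i j = u (Fin.rev j : Fin (m + 2)) i := fun i j => rfl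
  have hdetR : R.det = revSign F (m + 2) * ∏ j, (s j)⁻¹ ^ ((j : ℕ) + 1) := by
    rw [show R = P.submatrix id (Fin.revPerm (n := m + 2)) from rfl, Matrix.det_permute', revSign,
      Matrix.det_of_isUpperTriangular (M := P) (fun i j (hij : j < i) =>
        (props j (by have := j.2; omega)).1 i hij)]
    congr 1
    simp only [P, Matrix.of_apply]
    rw [Finset.prod_congr rfl fun (i : Fin (m + 2)) _ => (props i (by have := i.2; omega)).2.1 i rfl,
      Fin.prod_univ_eq_prod_range (fun k => ∏ l ∈ Finset.range k, σ l) (m + 2), prod_range_prod_range,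
      ← Finset.prod_range_reflect, ← Fin.prod_univ_eq_prod_range]
    refine Finset.prod_congr rfl fun j _ => ?_
    have hj := j.2
    simp only [σ]
    rw [dif_pos (by omega), show m + 1 - (m + 1 - 1 - (j : ℕ)) = (j : ℕ) + 1 by omega]
    congr 3
    ext
    simp only
    omega
  have hRne : R.det ≠ 0 := by
    rw [hdetR]
    refine mul_ne_zero ?_ (Finset.prod_ne_zero_iff.2 fun j _ => pow_ne_zero _ (inv_ne_zero (hs j)))
    rcases Int.units_eq_one_or (Equiv.Perm.sign (Fin.revPerm (n := m + 2))) with e | e <;> simp [revSign, e]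
  have hRu : IsUnit R.det := isUnit_iff_ne_zero.2 hRne
  let H := R⁻¹ * (A * R)
  have hint : A * R = R * H := by rw [← Matrix.mul_assoc, Matrix.mul_nonsing_inv _ hRu, Matrix.one_mul]
  have hcol : ∀ j, R *ᵥ (H *ᵥ Pi.single j 1) = A *ᵥ u (Fin.rev j : Fin (m + 2)) := fun j => by
    rw [Matrix.mulVec_mulVec, ← hint, ← Matrix.mulVec_mulVec, Matrix.mulVec_single_one]
    rfl
  have hRs : ∀ j, R *ᵥ Pi.single j 1 = u (Fin.rev j : Fin (m + 2)) := fun j => by
    rw [Matrix.mulVec_single_one]; rfl
  have hinj : ∀ x y, R *ᵥ x = R *ᵥ y → x = y := fun x y e => by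
    have := congrArg (R⁻¹ *ᵥ ·) e
    simpa [Matrix.mulVec_mulVec, Matrix.nonsing_inv_mul _ hRu] using this
  refine ⟨H, R, R⁻¹, Matrix.mul_nonsing_inv _ hRu, Matrix.nonsing_inv_mul _ hRu, hint, hdetR, fun j => ?_, ?_, ?_⟩
  · refine hinj _ _ ?_
    rw [hcol, Matrix.mulVec_add, Matrix.mulVec_smul, Matrix.mulVec_smul, hRs, hRs]
    have hj := j.2
    have e1 : ((Fin.rev j.succ : Fin (m + 2)) : ℕ) = m - j := by simp [Fin.val_rev]
    have e2 : ((Fin.rev j.castSucc : Fin (m + 2)) : ℕ) = m - j + 1 := by simp [Fin.val_rev]; omega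
    rw [e1, e2, hu]
    have eσ : σ (m - j) = (s j)⁻¹ := by
      simp only [σ]; rw [dif_pos (by omega)]; congr 2; ext; simp only; omega
    have eη : η (m - j) = h j := by
      simp only [η]; rw [dif_pos (by omega)]; congr 1; ext; simp only; omega
    rw [eσ, eη, smul_smul, mul_inv_cancel₀ (hs j), one_smul, sub_add_cancel]
  all_goals
    obtain ⟨p1, p2, p3, -⟩ := props (m + 1) le_rfl
    have htop := congrFun (hcol 0) (Fin.last (m + 1))
    have hbot := congrFun (hcol 0) 0
    have e0 : ((Fin.rev (0 : Fin (m + 2)) : Fin (m + 2)) : ℕ) = m + 1 := by simp [Fin.val_rev]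
    rw [e0] at htop hbot
    rw [Matrix.mulVec, dotProduct, Finset.sum_eq_single 0 (fun j _ hj => ?_) (by simp)] at htop
    rotate_left
    · rw [hR, (props _ (by omega)).1 _ ?_, zero_mul]
      have : (j : ℕ) ≠ 0 := fun e => hj (Fin.ext e)
      simp [Fin.val_rev]; omega
    rw [Matrix.mulVec, dotProduct, Finset.sum_eq_single (Fin.last (m + 1)) (fun j _ hj => ?_) (by simp)] at hbot
    rotate_left
    · rw [hR, (props _ (by omega)).2.2.2 ?_, zero_mul]
      have : (j : ℕ) ≠ m + 1 := fun e => hj (Fin.ext e)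
      simp [Fin.val_rev]; omega
    simp only [hR, Matrix.mulVec_single_one, Matrix.col_apply] at htop hbot
    rw [e0, p2 _ rfl] at htop
    have e3 : ((Fin.rev (Fin.last (m + 1)) : Fin (m + 2)) : ℕ) = 0 := by simp
    rw [e3, show u 0 0 = 1 by show ev F (m + 2) 0 0 = 1; simp [ev], one_mul, comp_mulVec_zero, p2 _ rfl] at hbot
    rw [show (Fin.last (m + 1)) = (Fin.last m).succ from rfl, comp_mulVec_succ, p3 _ (by simp), ← Fin.succ_last,
      p2 _ rfl] at htop
  · have hL : ∏ l ∈ Finset.range (m + 1), σ l ≠ 0 := Finset.prod_ne_zero_iff.2 fun l _ => hσ l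
    have hsum : ∑ l ∈ Finset.range (m + 1), η l = ∑ j, h j := by
      rw [← Finset.sum_range_reflect, ← Fin.sum_univ_eq_sum_range]
      refine Finset.sum_congr rfl fun j _ => ?_
      have hj := j.2
      simp only [η]; rw [dif_pos (by omega)]; congr 1; ext; simp only; omega
    rw [← hsum]
    refine mul_left_cancel₀ hL (htop.trans ?_)
    simp only [Fin.succ_last]
    ring
  · have hprod : ∏ l ∈ Finset.range (m + 1), σ l = ∏ j, (s j)⁻¹ := by
      rw [← Finset.prod_range_reflect, ← Fin.prod_univ_eq_prod_range]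
      refine Finset.prod_congr rfl fun j _ => ?_
      have hj := j.2
      simp only [σ]; rw [dif_pos (by omega)]; congr 2; ext; simp only; omega
    rw [hbot, hprod]

/-- the pair of one block, before the choice of the free entries -/
theorem exists_raw {m : ℕ} (c : Fin (m + 2) → F) (hc : c 0 ≠ 0) (s h : Fin (m + 1) → F) (hs : ∀ j, s j ≠ 0)
    (hh : h (Fin.last m) = 0) :
    ∃ H, HasPair (comp c) (revSign F (m + 2) * ∏ j, s j ^ ((j : ℕ) + 1)) (comp c) H ∧
      (∀ i j, i < j → (comp c * H) i j = 0) ∧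
      (∀ i, (comp c * H) i i = (Fin.cons (c 0 ^ 2 * ∏ j, (s j)⁻¹) s : Fin (m + 2) → F) i) ∧
      (∀ j : Fin m, (comp c * H) j.succ.succ j.castSucc.succ = h j.castSucc) ∧
      (comp c * H) (Fin.succ 0) 0 = -(∑ j, h j) - c (Fin.last _) + c (Fin.succ 0) * (c 0 * ∏ j, (s j)⁻¹) ∧
      (∀ a b w, w ≠ 0 → comp c *ᵥ w = a • w → H *ᵥ w = b • w → c 0 ^ 2 * ∏ j, (s j)⁻¹ = a * b) ∧
      (∀ a b f, f ≠ 0 → f ᵥ* comp c = a • f → f ᵥ* H = b • f →
        (∀ j, s j + a * h j = a * b) ∧ H 0 0 + ∑ j : Fin (m + 1), a ^ ((j : ℕ) + 1) * H j.succ 0 = b) ∧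
      (∀ i j : Fin (m + 2), j ≠ 0 → (i : ℕ) ≠ j → (i : ℕ) ≠ j + 1 → (comp c * H) i j = 0) := by
  obtain ⟨H, R, R', h1, h2, h3, h4, hcols, h00, hl0⟩ := exists_hess c s h hs hh
  have hHe : ∀ (j : Fin (m + 1)) (i : Fin (m + 2)),
      H i j.succ = (if i = j.castSucc then s j else 0) + (if i = j.succ then h j else 0) := fun j i => by
    have := congrFun (hcols j) i
    simpa [Matrix.mulVec_single_one, Pi.single_apply] using this
  have hH1 : H * R' = R' * comp c := by
    calc H * R' = R' * (R * H) * R' := by rw [← Matrix.mul_assoc R', h2, Matrix.one_mul]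
      _ = R' * comp c * (R * R') := by rw [← h3]; simp only [Matrix.mul_assoc]
      _ = R' * comp c := by rw [h1, Matrix.mul_one]
  have hAe : ∀ (j : Fin (m + 1)) (i : Fin (m + 2)), comp c i j.castSucc = if i = j.succ then 1 else 0 := fun j i => by
    have : (j : ℕ) ≠ m + 1 := by have := j.2; omega
    simp [CfsgLib.Ore.comp, this, Fin.ext_iff]
  have hZ : ∀ (j : Fin (m + 1)) (i : Fin (m + 2)),
      (comp c * H) i j.succ = (if i = j.succ then s j else 0) + comp c i j.succ * h j := fun j i => by
    rw [Matrix.mul_apply]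
    simp only [hHe, mul_add, Finset.sum_add_distrib, mul_ite, mul_zero, Finset.sum_ite_eq', Finset.mem_univ,
      if_true, hAe]
    split_ifs <;> ring
  have hZ' : ∀ (j : Fin (m + 1)) (i : Fin (m + 2)),
      (comp c * H) i j.succ = (if i = j.succ then s j else 0) + (if (i : ℕ) = j + 2 then h j else 0) := fun j i => by
    rw [hZ]
    congr 1
    rcases Fin.eq_castSucc_or_eq_last j with ⟨k, rfl⟩ | rfl
    · rw [← Fin.castSucc_succ, hAe]
      simp only [Fin.val_castSucc, Fin.ext_iff, Fin.val_succ, ite_mul, one_mul, zero_mul]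
    · simp [hh]
  have hZ00 : (comp c * H) 0 0 = c 0 ^ 2 * ∏ j, (s j)⁻¹ := by
    have := comp_mulVec_zero c (H *ᵥ Pi.single 0 1)
    rw [Matrix.mulVec_mulVec, Matrix.mulVec_single_one, Matrix.mulVec_single_one] at this
    simp only [Matrix.col_apply] at this
    rw [this, hl0]; ring
  refine ⟨H, ⟨1, 1, R', R, Matrix.one_mul _, Matrix.one_mul _, h2, h1, by simp, hH1, ?_⟩, ?_, ?_, ?_, ?_, ?_, ?_,
    fun i j hj h1' h2' => ?band⟩
  case band =>
    obtain ⟨j, rfl⟩ := Fin.exists_succ_eq.2 hj
    simp only [Fin.val_succ] at h1' h2'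
    rw [hZ', if_neg (fun e => h1' (by rw [e]; simp)), if_neg (by omega), add_zero]
  rotate_left
  · intro i j hij
    obtain ⟨j, rfl⟩ := Fin.exists_succ_eq.2 (show j ≠ 0 from fun e => by subst e; simp at hij)
    have : (i : ℕ) < j + 1 := hij
    rw [hZ', if_neg hij.ne, if_neg (by omega), add_zero]
  · intro i
    refine Fin.cases ?_ (fun j => ?_) i
    · rw [Fin.cons_zero, hZ00]
    · rw [Fin.cons_succ, hZ', if_pos rfl, if_neg (by simp), add_zero]
  · intro j
    rw [hZ', if_neg (fun e => by simp [Fin.ext_iff] at e), if_pos (by simp), zero_add]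
  · have := comp_mulVec_succ c (H *ᵥ Pi.single 0 1) 0
    rw [Matrix.mulVec_mulVec, Matrix.mulVec_single_one, Matrix.mulVec_single_one] at this
    simp only [Matrix.col_apply, Fin.castSucc_zero] at this
    rw [this, h00, hl0]; ring
  · intro a b w hw hA hH
    have hwl : w (Fin.last _) ≠ 0 := by
      intro e
      refine hw (funext fun i => ?_)
      have key : ∀ k, ∀ i : Fin (m + 2), (i : ℕ) + k = m + 1 → w i = 0 := by
        intro k
        induction k with
        | zero => intro i hi; rw [show i = Fin.last _ from Fin.ext (by simpa using hi), e]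
        | succ k ih =>
          intro i hi
          obtain ⟨j, rfl⟩ : ∃ j : Fin (m + 1), j.castSucc = i := ⟨⟨i, by omega⟩, rfl⟩
          have := congrFun hA j.succ
          rw [comp_mulVec_succ, e, mul_zero, sub_zero, Pi.smul_apply] at this
          rw [this, ih j.succ (by simp at hi ⊢; omega), smul_zero]
      exact key (m + 1 - i) i (by have := i.2; omega)
    have r1 := congrFun hA 0
    rw [comp_mulVec_zero, Pi.smul_apply, smul_eq_mul] at r1
    have r2 := congrFun hH (Fin.last _)
    rw [Matrix.mulVec, dotProduct, Fin.sum_univ_succ, Finset.sum_eq_zero, hl0, add_zero, Pi.smul_apply,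
      smul_eq_mul] at r2
    · refine mul_right_cancel₀ hwl ?_
      linear_combination (-c 0 * ∏ j, (s j)⁻¹) * r1 + a * r2
    · intro j _
      rw [hHe, if_neg (Fin.castSucc_lt_last j).ne']
      rcases Fin.eq_castSucc_or_eq_last j with ⟨k, rfl⟩ | rfl
      · rw [if_neg (by simp [Fin.ext_iff]; omega)]; simp
      · simp [hh]
  · intro a b f hf hA hH
    have hstep : ∀ j : Fin (m + 1), f j.succ = a * f j.castSucc := fun j => by
      have := congrFun hA j.castSucc
      simpa [Matrix.vecMul, dotProduct, hAe] using this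
    have hpow : ∀ k, ∀ i : Fin (m + 2), (i : ℕ) = k → f i = a ^ k * f 0 := by
      intro k
      induction k with
      | zero => intro i hi; rw [show i = 0 from Fin.ext hi]; simp
      | succ k ih =>
        intro i hi
        obtain ⟨j, rfl⟩ := Fin.exists_succ_eq.2 (show i ≠ 0 from fun e => by subst e; simp at hi)
        rw [hstep, ih j.castSucc (by simp at hi ⊢; omega), pow_succ]; ring
    have hf0 : f 0 ≠ 0 := fun e => hf (funext fun i => by rw [hpow _ i rfl, e]; simp)
    have ha : a ≠ 0 := by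
      intro e
      have := congrFun hA (Fin.last _)
      rw [e] at this hstep
      have hsum : ∑ i, f i * comp c i (Fin.last _) = -(c 0 * f 0) := by
        rw [Finset.sum_eq_single 0]
        · simp [CfsgLib.Ore.comp, mul_comm]
        · intro i _ hi
          obtain ⟨j, rfl⟩ := Fin.exists_succ_eq.2 hi
          simp [hstep]
        · simp
      simp only [Matrix.vecMul, dotProduct, Pi.smul_apply, zero_smul, hsum, neg_eq_zero, mul_eq_zero] at this
      exact this.elim hc hf0
    refine ⟨fun j => ?_, ?_⟩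
    · have := congrFun hH j.succ
      simp only [Matrix.vecMul, dotProduct, hHe, mul_add, Finset.sum_add_distrib, mul_ite, mul_zero,
        Finset.sum_ite_eq', Finset.mem_univ, if_true, Pi.smul_apply, smul_eq_mul, hstep] at this
      refine mul_left_cancel₀ (show f j.castSucc ≠ 0 from ?_) (by linear_combination this)
      rw [hpow _ _ rfl]
      exact mul_ne_zero (pow_ne_zero _ ha) hf0
    · have := congrFun hH 0
      rw [Matrix.vecMul, dotProduct, Fin.sum_univ_succ, Pi.smul_apply, smul_eq_mul] at this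
      refine mul_left_cancel₀ hf0 ?_
      rw [mul_add, Finset.mul_sum, mul_comm (f 0) b, ← this]
      congr 1
      refine Finset.sum_congr rfl fun j _ => ?_
      rw [hpow _ j.succ rfl, Fin.val_succ]
      ring
  rw [Matrix.mul_one]
  -- the determinant of the inverse conjugator
  have e1 : revSign F (m + 2) * revSign F (m + 2) = 1 := by
    rw [revSign]
    rcases Int.units_eq_one_or (Equiv.Perm.sign (Fin.revPerm (n := m + 2))) with e | e <;> simp [e]
  have e2 : R.det * R'.det = 1 := by rw [← det_mul, h1, det_one]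
  refine mul_left_cancel₀ (a := R.det) (fun e => by simp [e] at e2) (e2.trans ?_)
  rw [h4, mul_mul_mul_comm, e1, one_mul, ← Finset.prod_mul_distrib]
  exact (Finset.prod_eq_one fun j _ => by rw [← mul_pow, inv_mul_cancel₀ (hs j), one_pow]).symm

/-- conjugation moves the common eigenvectors along -/
theorem left_conj {S : Matrix μ ι F} {S' : Matrix ι μ F} (h2 : S' * S = 1) (_h1 : S * S' = 1) {M : Matrix ι ι F}
    {f : μ → F} {a : F}
    (h : f ᵥ* (S * M * S') = a • f) : (f ᵥ* S) ᵥ* M = a • (f ᵥ* S) := by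
  have := congrArg (· ᵥ* S) h
  simp only [Matrix.vecMul_vecMul, Matrix.smul_vecMul] at this
  rw [Matrix.mul_assoc, h2, Matrix.mul_one] at this
  rwa [Matrix.vecMul_vecMul]

theorem right_conj {S : Matrix μ ι F} {S' : Matrix ι μ F} (h2 : S' * S = 1) {M : Matrix ι ι F} {w : μ → F} {a : F}
    (h : (S * M * S') *ᵥ w = a • w) : M *ᵥ (S' *ᵥ w) = a • (S' *ᵥ w) := by
  have := congrArg (S' *ᵥ ·) h
  simp only [Matrix.mulVec_mulVec, Matrix.mulVec_smul] at this
  rw [← Matrix.mul_assoc, ← Matrix.mul_assoc, h2, Matrix.one_mul, ← Matrix.mulVec_mulVec] at this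
  exact this

/-- lower bidiagonal outside the first column, with a first diagonal entry which does not return -/
theorem thin_band {n : ℕ} {Z : Matrix (Fin (n + 1)) (Fin (n + 1)) F} {β : Fin (n + 1) → F} (h : LTN Z β)
    (hb : ∀ i j : Fin (n + 1), j ≠ 0 → (i : ℕ) ≠ j → (i : ℕ) ≠ j + 1 → Z i j = 0)
    (hne : ∀ i, i ≠ 0 → β i ≠ β 0) : Thin Z := by
  intro v
  by_cases hv : v = β 0
  · refine thin_at 0 fun w hw hw0 => funext fun i => ?_
    have key : ∀ k, ∀ i : Fin (n + 1), (i : ℕ) = k → w i = 0 := by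
      intro k
      induction k using Nat.strong_induction_on with
      | _ k ih =>
        intro i hik
        by_cases hi : i = 0
        · rw [hi]; exact hw0
        have := congrFun hw i
        rw [Matrix.mulVec, dotProduct, Finset.sum_eq_single i, h.diag, Pi.smul_apply, smul_eq_mul] at this
        · exact (mul_eq_mul_right_iff.1 this).resolve_left (hv ▸ hne i hi)
        · intro j _ hj
          rcases lt_or_gt_of_ne hj with hj' | hj'
          · rw [ih j (hik ▸ hj') j rfl, mul_zero]
          · rw [h.low i j hj', zero_mul]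
        · simp
    exact key _ i rfl
  · refine thin_at (Fin.last n) fun w hw hl => funext fun i => ?_
    have hw0 : w 0 = 0 := by
      have := congrFun hw 0
      rw [Matrix.mulVec, dotProduct, Finset.sum_eq_single 0, h.diag, Pi.smul_apply, smul_eq_mul] at this
      · exact (mul_eq_mul_right_iff.1 this).resolve_left (Ne.symm hv)
      · intro j _ hj
        rw [h.low 0 j (Fin.pos_iff_ne_zero.2 hj), zero_mul]
      · simp
    have key : ∀ k, ∀ i : Fin (n + 1), (i : ℕ) + k = n → w i = 0 := by
      intro k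
      induction k with
      | zero => intro i hi; rw [show i = Fin.last n from Fin.ext (by simpa using hi)]; exact hl
      | succ k ih =>
        intro i hi
        by_cases hi0 : i = 0
        · rw [hi0]; exact hw0
        obtain ⟨j, hj⟩ : ∃ j : Fin (n + 1), (j : ℕ) = i + 1 := ⟨⟨i + 1, by omega⟩, rfl⟩
        have hjw : w j = 0 := ih j (by omega)
        have := congrFun hw j
        rw [Matrix.mulVec, dotProduct, Finset.sum_eq_single i, Pi.smul_apply, hjw, smul_zero] at this
        · exact (mul_eq_zero.1 this).resolve_left (h.sub j i hj.symm)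
        · intro l _ hl
          by_cases hl0 : l = 0
          · rw [hl0, hw0, mul_zero]
          by_cases hlj : l = j
          · rw [hlj, hjw, mul_zero]
          · rw [hb j l hl0 (fun e => hlj (Fin.ext e.symm)) (fun e => hl (Fin.ext (by omega))), zero_mul]
        · simp
    exact key (n - i) i (by have := i.2; omega)

/-- the diagonal of the product for one block -/
noncomputable def blockVals {m : ℕ} (c : Fin (m + 2) → F) (s : Fin (m + 1) → F) : Fin (m + 2) → F :=
  Fin.cons (c 0 ^ 2 * ∏ j, (s j)⁻¹) s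

/-- the quotient of conjugator determinants for one block -/
noncomputable def blockRatio {m : ℕ} (s : Fin (m + 1) → F) : F := revSign F (m + 2) * ∏ j, s j ^ ((j : ℕ) + 1)

/-- the pair of one block -/
theorem exists_block [Fintype F] (h3 : 3 ≤ Fintype.card F) {m : ℕ} (c : Fin (m + 2) → F) (hc : c 0 ≠ 0)
    (s : Fin (m + 1) → F) (hs : ∀ j, s j ≠ 0) (hcon : Contig (blockVals c s) ∨ ∀ j, s j ≠ blockVals c s 0)
    (h2 : m = 0 → s 0 ^ 2 ≠ c 0 ^ 2) :
    ∃ A H : Matrix (Fin (m + 2)) (Fin (m + 2)) F, HasPair (comp c) (blockRatio s) A H ∧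
      TPair A H (blockVals c s) ∧
      (∀ a b w, w ≠ 0 → A *ᵥ w = a • w → H *ᵥ w = b • w → blockVals c s 0 = a * b) ∧
      (∀ a b f, f ≠ 0 → f ᵥ* A = a • f → f ᵥ* H = b • f →
        (∀ j : Fin (m + 1), j ≠ Fin.last m → s j ≠ s (Fin.last m)) ∧ s (Fin.last m) = a * b ∧
        (m = 0 → a ^ 2 + c (Fin.last _) * a + c 0 = 0 ∧ s 0 = a ^ 2 ∧ b = a)) := by
  classical
  -- the free entries
  let K : F := c (Fin.succ 0) * (c 0 * ∏ j, (s j)⁻¹) - c (Fin.last _)
  let f0 : F → Fin (m + 1) → F := fun x j => if j = Fin.last m then 0 else if j = 0 then x else 1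
  obtain ⟨x, hx0, hxK⟩ : ∃ x : F, x ≠ 0 ∧ x ≠ K - ∑ j, f0 0 j := by
    by_contra hno
    push Not at hno
    have : Fintype.card F ≤ 2 := by
      rw [← Finset.card_univ]
      refine (Finset.card_le_card (t := {0, K - ∑ j, f0 0 j}) fun a _ => ?_).trans Finset.card_le_two
      by_cases ha : a = 0
      · simp [ha]
      · simp [hno a ha]
    omega
  obtain ⟨H, hP, hlow, hdiag, hsub, h10, hR, hL, hband⟩ := exists_raw c hc s (f0 x) hs (by simp [f0])
  have hf0 : ∀ j, j ≠ Fin.last m → f0 x j ≠ 0 := fun j hj => by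
    simp only [f0, if_neg hj]; split_ifs
    · exact hx0
    · exact one_ne_zero
  have hleft : ∀ a b f, f ≠ 0 → f ᵥ* comp c = a • f → f ᵥ* H = b • f →
      (∀ j : Fin (m + 1), j ≠ Fin.last m → s j ≠ s (Fin.last m)) ∧ s (Fin.last m) = a * b ∧
      (m = 0 → a ^ 2 + c (Fin.last _) * a + c 0 = 0 ∧ s 0 = a ^ 2 ∧ b = a) := by
    intro a b f hf hA hH
    obtain ⟨h1, h2'⟩ := hL a b f hf hA hH
    have hl : s (Fin.last m) = a * b := by simpa [f0] using h1 (Fin.last m)
    have ha : a ≠ 0 := fun e => hs (Fin.last m) (by rw [hl, e, zero_mul])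
    refine ⟨fun j hj e => ?_, hl, ?_⟩
    · have := h1 j
      rw [e, hl] at this
      exact mul_ne_zero ha (hf0 j hj) (by linear_combination this)
    · rintro rfl
      have hroot : a ^ 2 + c (Fin.last 1) * a + c 0 = 0 := by
        have e0 := congrFun hA 0
        have e1 := congrFun hA 1
        simp [Matrix.vecMul, dotProduct, Fin.sum_univ_two, CfsgLib.Ore.comp] at e0 e1
        have hf0' : f 0 ≠ 0 := fun e => hf (funext fun i => by fin_cases i <;> simp [e, e0])
        rw [e0] at e1
        refine mul_left_cancel₀ hf0' ?_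
        rw [show Fin.last 1 = (1 : Fin 2) from rfl]
        linear_combination (-1 : F) * e1
      have hl' : s 0 = a * b := hl
      have hH00 : H 0 0 = -c (Fin.last 1) + 0 := by
        have := h10
        have hZ : (comp c * H) (Fin.succ 0) 0 = H 0 0 - c (Fin.succ 0) * H (Fin.last 1) 0 := by
          have e := comp_mulVec_succ c (H *ᵥ Pi.single 0 1) 0
          rw [Matrix.mulVec_mulVec, Matrix.mulVec_single_one, Matrix.mulVec_single_one] at e
          simpa using e
        obtain ⟨P, P', R, R', a1, a2, a3, a4, a5, a6, -⟩ := hP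
        have htr : H.trace = (comp c).trace := by
          have : H = R * comp c * R' := by rw [← a6, Matrix.mul_assoc, a3, Matrix.mul_one]
          rw [this, Matrix.trace_mul_comm, ← Matrix.mul_assoc, a4, Matrix.one_mul]
        rw [Matrix.trace_fin_two, Matrix.trace_fin_two] at htr
        have h11 : H 1 1 = 0 := by
          have := hdiag 1
          have e := comp_mulVec_succ c (H *ᵥ Pi.single 1 1) 0
          rw [Matrix.mulVec_mulVec, Matrix.mulVec_single_one, Matrix.mulVec_single_one] at e
          have e' := comp_mulVec_zero c (H *ᵥ Pi.single 1 1)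
          rw [Matrix.mulVec_mulVec, Matrix.mulVec_single_one, Matrix.mulVec_single_one] at e'
          have := hlow 0 1 (by decide)
          simp only [Matrix.col_apply] at e'
          rw [this] at e'
          exact (mul_eq_zero.1 e'.symm).resolve_left (neg_ne_zero.2 hc)
        rw [h11] at htr
        simp [CfsgLib.Ore.comp] at htr
        rw [htr, add_zero]
        rfl
      have hH10 : H (Fin.succ 0) 0 = -c 0 * (s 0)⁻¹ := by
        have h00 := hdiag 0
        have e := comp_mulVec_zero c (H *ᵥ Pi.single 0 1)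
        rw [Matrix.mulVec_mulVec, Matrix.mulVec_single_one, Matrix.mulVec_single_one] at e
        simp only [Matrix.col_apply] at e
        rw [h00, Fin.cons_zero] at e
        refine mul_left_cancel₀ (neg_ne_zero.2 hc) ?_
        rw [show (Fin.succ 0 : Fin 2) = Fin.last 1 from rfl, ← e, Fin.prod_univ_one]
        ring
      rw [Fin.sum_univ_one, hH00, hH10] at h2'
      simp only [Fin.val_zero, zero_add, pow_one] at h2'
      have key : (a ^ 2 - s 0) * (s 0 - c 0) = 0 := by
        have : s 0 * (a * b) = -c (Fin.last 1) * a * s 0 - a ^ 2 * c 0 := by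
          rw [← h2']; field_simp [hs 0]; ring
        rw [← hl'] at this
        linear_combination s 0 * hroot - this
      have hne : s 0 - c 0 ≠ 0 := fun e => h2 rfl (by rw [sub_eq_zero.1 e])
      have hsa : s 0 = a ^ 2 := (sub_eq_zero.1 ((mul_eq_zero.1 key).resolve_right hne)).symm
      refine ⟨hroot, hsa, mul_left_cancel₀ ha ?_⟩
      rw [← hl', hsa, pow_two]
  by_cases hz : (comp c * H) (Fin.succ 0) 0 = 0
  · -- only possible for blocks of size two with trace zero
    rcases Nat.eq_zero_or_pos m with rfl | hm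
    · let S : Matrix (Fin 2) (Fin 2) F := !![1, 0; 1, 1]
      let S' : Matrix (Fin 2) (Fin 2) F := !![1, 0; -1, 1]
      have b1 : S * S' = 1 := by ext i j; fin_cases i <;> fin_cases j <;> simp [S, S', Matrix.mul_apply, Fin.sum_univ_two]
      have b2 : S' * S = 1 := by ext i j; fin_cases i <;> fin_cases j <;> simp [S, S', Matrix.mul_apply, Fin.sum_univ_two]
      have hprod : S * comp c * S' * (S * H * S') = S * (comp c * H) * S' := by
        calc S * comp c * S' * (S * H * S') = S * comp c * (S' * S) * H * S' := by simp only [Matrix.mul_assoc]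
          _ = S * (comp c * H) * S' := by rw [b2, Matrix.mul_one, Matrix.mul_assoc S (comp c) H]
      have hne : blockVals c s 0 - blockVals c s 1 ≠ 0 := by
        intro e
        refine h2 rfl ?_
        have : c 0 ^ 2 * (s 0)⁻¹ - s 0 = 0 := by
          simpa [blockVals, Fin.prod_univ_one] using e
        field_simp [hs 0] at this
        linear_combination -this
      have hz' : (comp c * H) 1 0 = 0 := hz
      have hLT : LTN (S * comp c * S' * (S * H * S')) (blockVals c s) := by
        have e00 : (comp c * H) 0 0 = blockVals c s 0 := hdiag 0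
        have e11 : (comp c * H) 1 1 = blockVals c s 1 := hdiag 1
        have e01 : (comp c * H) 0 1 = 0 := hlow 0 1 (by decide)
        have entry : ∀ i j, (S * (comp c * H) * S') i j =
            !![blockVals c s 0, 0; blockVals c s 0 - blockVals c s 1, blockVals c s 1] i j := by
          generalize comp c * H = Z at e00 e11 e01 hz' ⊢
          intro i j
          fin_cases i <;> fin_cases j <;>
            simp [S, S', Matrix.mul_apply, Matrix.vecMul, dotProduct, Fin.sum_univ_two, e00, e11, e01, hz', sub_eq_add_neg]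
        rw [hprod]
        refine ⟨fun i j h => ?_, fun i j h => ?_, fun i => ?_⟩ <;> rw [entry]
        · fin_cases i <;> fin_cases j <;> simp at h ⊢
        · fin_cases i <;> fin_cases j <;> simp at h ⊢
          exact hne
        · fin_cases i <;> simp
      refine ⟨S * comp c * S', S * H * S', hP.conj b1 b2, ⟨hLT.low, hLT.diag, hLT.thin fun i j k hij hjk e => ?_⟩,
        ?_, ?_⟩
      · have h1 : (i : ℕ) ≤ j := hij
        have h2 : (j : ℕ) ≤ k := hjk
        by_cases hik : (j : ℕ) = i
        · rw [Fin.ext hik]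
        · rw [show j = k from Fin.ext (by omega), e]
      · intro a b w hw hA hH
        refine hR a b (S' *ᵥ w) (fun e => hw ?_) (right_conj b2 hA) (right_conj b2 hH)
        have := congrArg (S *ᵥ ·) e
        simp only [Matrix.mulVec_mulVec, b1, Matrix.one_mulVec, Matrix.mulVec_zero] at this
        exact this
      · intro a b f hf hA hH
        refine hleft a b (f ᵥ* S) (fun e => hf ?_) (left_conj b2 b1 hA) (left_conj b2 b1 hH)
        have := congrArg (· ᵥ* S') e
        simp only [Matrix.vecMul_vecMul, b1, Matrix.vecMul_one, Matrix.zero_vecMul] at this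
        exact this
    · exfalso
      apply hxK
      rw [h10] at hz
      have hsum : ∑ j, f0 x j = x + ∑ j, f0 0 j := by
        have : ∀ j, f0 x j = (if j = 0 then x else 0) + f0 0 j := fun j => by
          have h0 : (0 : Fin (m + 1)) ≠ Fin.last m := fun e => by have := congrArg Fin.val e; simp at this; omega
          simp only [f0]
          by_cases hj : j = Fin.last m
          · subst hj; rw [if_pos rfl, if_pos rfl, if_neg h0.symm, add_zero]
          · by_cases hj0 : j = 0 <;> simp [hj, hj0, hm.ne']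
        simp [this, Finset.sum_add_distrib]
      rw [hsum] at hz
      simp only [K]
      linear_combination -hz
  · refine ⟨comp c, H, hP, ?_, hR, hleft⟩
    have hLT : LTN (comp c * H) (blockVals c s) := by
      refine ⟨hlow, fun i j hij => ?_, hdiag⟩
      obtain ⟨i, rfl⟩ := Fin.exists_succ_eq.2 (show i ≠ 0 from fun e => by subst e; simp at hij)
      rcases Fin.eq_zero_or_eq_succ j with rfl | ⟨j, rfl⟩
      · obtain rfl : i = 0 := Fin.ext (by simp at hij ⊢; omega)
        exact hz
      · simp at hij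
        obtain ⟨k, rfl⟩ : ∃ k : Fin m, k.castSucc = j := ⟨⟨j, by have := i.2; omega⟩, rfl⟩
        obtain rfl : i = k.succ := Fin.ext (by simp at hij ⊢; omega)
        rw [hsub]
        exact hf0 _ (Fin.castSucc_lt_last k).ne
    refine ⟨hLT.low, hLT.diag, hcon.elim hLT.thin fun hne => thin_band hLT hband ?_⟩
    intro i hi
    obtain ⟨j, rfl⟩ := Fin.exists_succ_eq.2 hi
    simpa [blockVals] using hne j

end CfsgLib.Known.CoverPSL
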