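import Cfsg.Agent.Lib.Known.CoverPSL.Sourour
import Cfsg.Agent.Lib.Known.CoverPSL.Link

/-!
# Products of two split cyclic classes

For `n ≥ 3` every nonscalar matrix with the right determinant is a product of two thin matrices with
prescribed eigenvalues.
-/

set_option autoImplicit false
set_option linter.unusedSectionVars false
set_option linter.style.haveILetI false

open Matrix Polynomial CfsgLib.Ore

namespace CfsgLib.Known.CoverPSL

universe u

variable {F : Type u} [Field F]
variable {ι κ : Type*} [Fintype ι] [DecidableEq ι] [Fintype κ] [DecidableEq κ]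

theorem charpoly_low {n : ℕ} {Z : Matrix (Fin n) (Fin n) F} {β : Fin n → F} (h : ∀ i j, i < j → Z i j = 0)
    (hd : ∀ i, Z i i = β i) : Z.charpoly = ∏ i, (X - C (β i)) := by
  rw [← Matrix.charpoly_transpose, Matrix.charpoly_of_isUpperTriangular _ (show Zᵀ.IsUpperTriangular from fun i j hij => h j i hij)]
  simp [hd]

theorem TPair.spl {n : ℕ} {A H : Matrix (Fin n) (Fin n) F} {β : Fin n → F} (h : TPair A H β) : Spl (A * H) β :=
  ⟨h.thin, charpoly_low h.low h.diag⟩

/-- a companion matrix is thin -/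
theorem thin_comp {m : ℕ} (c : Fin (m + 1) → F) : Thin (CfsgLib.Ore.comp c) := by
  intro v
  refine thin_at (Fin.last m) fun w hw hl => funext fun i => ?_
  have key : ∀ k, ∀ i : Fin (m + 1), (i : ℕ) + k = m → w i = 0 := by
    intro k
    induction k with
    | zero => intro i hi; rw [show i = Fin.last m from Fin.ext (by simpa using hi)]; exact hl
    | succ k ih =>
      intro i hi
      have hlt : (i : ℕ) + 1 < m + 1 := by omega
      obtain ⟨j, hj⟩ : ∃ j : Fin (m + 1), (j : ℕ) = i + 1 := ⟨⟨i + 1, hlt⟩, rfl⟩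
      have := congrFun hw j
      rw [Matrix.mulVec, dotProduct, Finset.sum_eq_single i, Pi.smul_apply, ih j (by omega), smul_zero] at this
      · have h1 : (i : ℕ) ≠ m := by omega
        simpa [CfsgLib.Ore.comp, hj, h1] using this
      · intro l _ hl'
        by_cases e : (l : ℕ) = m
        · rw [show l = Fin.last m from Fin.ext (by simpa using e), hl, mul_zero]
        · have h2 : (i : ℕ) ≠ l := fun h => hl' (Fin.ext h.symm)
          simp [CfsgLib.Ore.comp, hj, e, h2]
      · simp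
  exact key (m - i) i (by have := i.2; omega)

theorem spl_comp {m : ℕ} {c : Fin (m + 1) → F} {β : Fin (m + 1) → F} (h : cpoly c = ∏ i, (X - C (β i))) :
    Spl (CfsgLib.Ore.comp c) β := by
  refine ⟨thin_comp c, ?_⟩
  rw [← h]
  refine Polynomial.eq_of_monic_of_dvd_of_natDegree_le (cpoly_monic c) (Matrix.charpoly_monic _)
    (dvd_of_aeval_ev c (by rw [Matrix.aeval_self_charpoly, Matrix.zero_mulVec])) ?_
  rw [Matrix.charpoly_natDegree_eq_dim, cpoly_natDegree, Fintype.card_fin]

theorem exists_cof {m : ℕ} (β : Fin m → F) : ∃ c : Fin m → F, cpoly c = ∏ i, (X - C (β i)) := by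
  obtain ⟨p, hp⟩ : ∃ p, p = ∏ i, (X - C (β i)) := ⟨_, rfl⟩
  have hm : p.Monic := hp ▸ monic_prod_of_monic _ _ fun i _ => monic_X_sub_C _
  have hd : p.natDegree = m := by
    rw [hp, natDegree_prod_of_monic _ _ fun i _ => monic_X_sub_C _]
    simp
  refine ⟨fun i => p.coeff i, ?_⟩
  rw [← hp]
  conv_rhs => rw [hm.as_sum, hd]
  rw [cpoly, ← Fin.sum_univ_eq_sum_range (fun i => C (p.coeff i) * X ^ i) m]

/-- the standard lower bidiagonal matrix -/
def bidiag {n : ℕ} (β : Fin n → F) : Matrix (Fin n) (Fin n) F :=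
  Matrix.of fun i j => if i = j then β i else if (j : ℕ) + 1 = i then 1 else 0

theorem bidiag_ltn {n : ℕ} (β : Fin n → F) : LTN (bidiag β) β where
  low i j h := by
    have h1 : (i : ℕ) < j := h
    simp [bidiag, h.ne]
    omega
  sub i j h := by
    have : i ≠ j := fun e => by subst e; omega
    simp [bidiag, this, h]
  diag i := by simp [bidiag]

/-- the scaled inverse of a lower triangular thin matrix -/
theorem spl_smul_inv {n : ℕ} {W : Matrix (Fin n) (Fin n) F} {β : Fin n → F} (hlow : ∀ i j, i < j → W i j = 0)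
    (hd : ∀ i, W i i = β i) (hthin : Thin W) (hβ : ∀ i, β i ≠ 0) {t : F} (ht : t ≠ 0) :
    Spl (t • W⁻¹) (fun i => t / β i) := by
  have hu : IsUnit W.det := by
    rw [← Matrix.det_transpose, Matrix.det_of_isUpperTriangular (show Wᵀ.IsUpperTriangular from
      fun i j hij => hlow j i hij), isUnit_iff_ne_zero]
    exact Finset.prod_ne_zero_iff.2 fun i _ => by simpa [hd] using hβ i
  haveI := W.invertibleOfIsUnitDet hu
  have hb : Matrix.BlockTriangular W OrderDual.toDual := fun i j h => hlow i j h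
  have hlow' : ∀ i j, i < j → W⁻¹ i j = 0 := fun i j h => Matrix.blockTriangular_inv_of_blockTriangular hb h
  have hdiag : ∀ i, W⁻¹ i i = (β i)⁻¹ := fun i => by
    have := congrFun (congrFun (Matrix.mul_nonsing_inv W hu) i) i
    rw [Matrix.mul_apply, Finset.sum_eq_single i, hd, Matrix.one_apply_eq] at this
    · exact eq_inv_of_mul_eq_one_right this
    · intro j _ hj
      rcases lt_or_gt_of_ne hj with h | h
      · rw [hlow' j i h, mul_zero]
      · rw [hlow i j h, zero_mul]
    · simp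
  refine ⟨fun v => ?_, charpoly_low (fun i j h => by simp [hlow' i j h]) (fun i => by simp [hdiag, div_eq_mul_inv])⟩
  rcases eq_or_ne v 0 with rfl | hv
  · refine ⟨0, fun w hw => ⟨0, ?_⟩⟩
    have := congrArg (W *ᵥ ·) hw
    simpa [Matrix.smul_mulVec, Matrix.mulVec_smul, Matrix.mulVec_mulVec, Matrix.mul_nonsing_inv _ hu, ht] using this
  · obtain ⟨k, hk⟩ := hthin (t / v)
    refine ⟨k, fun w hw => hk w ?_⟩
    have h1 := congrArg (W *ᵥ ·) hw
    simp only [Matrix.smul_mulVec, Matrix.mulVec_smul, Matrix.mulVec_mulVec, Matrix.mul_nonsing_inv _ hu,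
      Matrix.one_mulVec] at h1
    rw [div_eq_inv_mul, ← smul_smul, h1, smul_smul, inv_mul_cancel₀ hv, one_smul]

/-- `L * U` with prescribed classes, in a conjugate -/
theorem mem_of_sim {n : ℕ} {G L U : Matrix (Fin n) (Fin n) F} {β γ : Fin n → F} (h : Sim G (L * U))
    (hL : Spl L β) (hU : Spl U γ) : ∃ L' U', Spl L' β ∧ Spl U' γ ∧ G = L' * U' := by
  obtain ⟨P, Q, h1, h2, rfl⟩ := sim_exists h
  refine ⟨P * L * Q, P * U * Q, hL.of_sim (sim_conj h1 h2 L), hU.of_sim (sim_conj h1 h2 U), ?_⟩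
  calc P * (L * U) * Q = P * L * (Q * P) * U * Q := by rw [h2, Matrix.mul_one, Matrix.mul_assoc P L U]
    _ = P * L * Q * (P * U * Q) := by simp only [Matrix.mul_assoc]

/-- a scalar plus rank one -/
theorem mem_rankone {n : ℕ} (hn : 3 ≤ n) (G : Matrix (Fin n) (Fin n) F) (β γ : Fin n → F)
    (hβ : ∀ i, β i ≠ 0) (hγ : ∀ i, γ i ≠ 0) (hdet : G.det = (∏ i, β i) * ∏ i, γ i) (hns : Nonscalar G)
    {t : F} {x y : Fin n → F} (hG : G = t • 1 + vecMulVec x y) [Finite F] :
    ∃ L U, Spl L β ∧ Spl U γ ∧ G = L * U := by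
  obtain ⟨m, rfl⟩ : ∃ m, n = m + 3 := ⟨n - 3, by omega⟩
  have ht : t ≠ 0 := by
    intro e
    rw [hG, e, zero_smul, zero_add, Matrix.det_vecMulVec, eq_comm, mul_eq_zero] at hdet
    exact hdet.elim (Finset.prod_ne_zero_iff.2 fun i _ => hβ i) (Finset.prod_ne_zero_iff.2 fun i _ => hγ i)
  have hx : x ≠ 0 := fun e => hns t (by rw [hG, e, Matrix.zero_vecMulVec, add_zero])
  have hy : y ≠ 0 := fun e => hns t (by rw [hG, e, Matrix.vecMulVec_zero, add_zero])
  have hG' : G = t • (1 + vecMulVec x (t⁻¹ • y)) := by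
    rw [hG, smul_add, Matrix.vecMulVec_smul, smul_smul, mul_inv_cancel₀ ht, one_smul]
  -- it is enough to get the deviation from one of the right determinant
  suffices key : ∃ (C B : Matrix (Fin (m + 3)) (Fin (m + 3)) F) (a b : Fin (m + 3) → F), IsUnit B.det ∧
      Spl C β ∧ Spl (t • B⁻¹) γ ∧ a ≠ 0 ∧ b ≠ 0 ∧ C * B⁻¹ = 1 + vecMulVec a b by
    obtain ⟨C, B, a, b, hBu, hC, hB, ha, hb, hCB⟩ := key
    have hdd : (C * (t • B⁻¹)).det = G.det := by
      rw [det_mul, hC.det_eq, hB.det_eq, hdet]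
    rw [Matrix.mul_smul, hCB, hG', det_smul, det_smul, det_one_add_outer, det_one_add_outer] at hdd
    have hyx : (t⁻¹ • y) ⬝ᵥ x = b ⬝ᵥ a := by
      have := mul_left_cancel₀ (pow_ne_zero _ ht) hdd
      linear_combination -this
    have hs : Sim G (C * (t • B⁻¹)) := by
      rw [hG', Matrix.mul_smul, hCB]
      exact Sim.smul (sim_outer rfl hx (smul_ne_zero (inv_ne_zero ht) hy) ha hb hyx) t
    exact mem_of_sim hs hC hB
  obtain ⟨e, he⟩ := exists_contig (fun i => t / γ i)
  obtain ⟨γ', hγ'⟩ : ∃ γ' : Fin (m + 3) → F, γ' = fun i => t / γ (e i) := ⟨_, rfl⟩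
  have hγ'0 : ∀ i, γ' i ≠ 0 := fun i => by rw [hγ']; exact div_ne_zero ht (hγ _)
  have hcon : Contig γ' := by rw [hγ']; exact he
  let W := bidiag γ'
  have hW : Spl W γ' := (bidiag_ltn γ').spl hcon
  have hWu : IsUnit W.det := by
    rw [isUnit_iff_ne_zero, hW.det_eq]; exact Finset.prod_ne_zero_iff.2 fun i _ => hγ'0 i
  have hWinv : Spl (t • W⁻¹) γ := by
    have h := spl_smul_inv (bidiag_ltn γ').low (bidiag_ltn γ').diag hW.1 hγ'0 ht
    have h' := h.perm e.symm
    have e2 : (fun i => t / γ' i) ∘ e.symm = γ := by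
      funext i
      simp only [Function.comp_apply, hγ', Equiv.apply_symm_apply]
      rw [div_div_cancel₀ ht]
    rwa [e2] at h'
  by_cases hpq : ∏ i, (X - C (β i)) = ∏ i, (X - C (γ' i))
  · -- a transvection
    let C := W + vecMulVec (Pi.single (Fin.last (m + 2)) 1) (Pi.single 0 1)
    have hC : LTN C γ' := by
      constructor
      · intro i j hij
        have h1 : (i : ℕ) < j := hij
        have : j ≠ 0 := fun e => by subst e; simp at h1
        simp [C, (bidiag_ltn γ').low i j hij, W, Matrix.vecMulVec_apply, Pi.single_apply, this]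
      · intro i j hij
        by_cases hj : j = 0
        · subst hj
          have : i ≠ Fin.last (m + 2) := fun e => by subst e; simp at hij
          simpa [C, W, Matrix.vecMulVec_apply, Pi.single_apply, this] using (bidiag_ltn γ').sub i 0 hij
        · simpa [C, W, Matrix.vecMulVec_apply, Pi.single_apply, hj] using (bidiag_ltn γ').sub i j hij
      · intro i
        by_cases hi : i = 0
        · subst hi
          have : (0 : Fin (m + 3)) ≠ Fin.last (m + 2) := fun e => by simp [Fin.ext_iff] at e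
          simpa [C, W, Matrix.vecMulVec_apply, Pi.single_apply, this] using (bidiag_ltn γ').diag 0
        · simpa [C, W, Matrix.vecMulVec_apply, Pi.single_apply, hi] using (bidiag_ltn γ').diag i
    refine ⟨C, W, Pi.single (Fin.last (m + 2)) 1, Pi.single 0 1 ᵥ* W⁻¹, hWu, ⟨(hC.spl hcon).1, ?_⟩, hWinv,
      by simp, ?_, ?_⟩
    · rw [hpq]; exact (hC.spl hcon).2
    · intro h0
      have := congrArg (· ᵥ* W) h0
      simp only [Matrix.vecMul_vecMul, Matrix.nonsing_inv_mul _ hWu, Matrix.vecMul_one, Matrix.zero_vecMul] at this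
      exact one_ne_zero (α := F) (by simpa using congrFun this 0)
    · simp only [C]
      rw [Matrix.add_mul, Matrix.mul_nonsing_inv _ hWu, Matrix.vecMulVec_mul]
  · -- two companion matrices
    obtain ⟨cp, hcp⟩ := exists_cof β
    obtain ⟨cq, hcq⟩ := exists_cof γ'
    have hBu : IsUnit (CfsgLib.Ore.comp cq).det := by
      rw [isUnit_iff_ne_zero, (spl_comp hcq).det_eq]; exact Finset.prod_ne_zero_iff.2 fun i _ => hγ'0 i
    have hsimW : Sim (CfsgLib.Ore.comp cq) W := Spl.sim (spl_comp hcq) hW hBu.ne_zero hWu.ne_zero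
    refine ⟨CfsgLib.Ore.comp cp, CfsgLib.Ore.comp cq, cq - cp,
      Pi.single (Fin.last (m + 2)) 1 ᵥ* (CfsgLib.Ore.comp cq)⁻¹, hBu, spl_comp hcp,
      hWinv.of_sim (Sim.smul (hsimW.inv hBu) t), ?_, ?_, ?_⟩
    · intro h
      refine hpq ?_
      rw [← hcp, ← hcq, sub_eq_zero.1 h]
    · intro h0
      have := congrArg (· ᵥ* CfsgLib.Ore.comp cq) h0
      simp only [Matrix.vecMul_vecMul, Matrix.nonsing_inv_mul _ hBu, Matrix.vecMul_one, Matrix.zero_vecMul] at this
      exact one_ne_zero (α := F) (by simpa using congrFun this (Fin.last (m + 2)))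
    · have : CfsgLib.Ore.comp cp =
          CfsgLib.Ore.comp cq + vecMulVec (cq - cp) (Pi.single (Fin.last (m + 2)) 1) := by
        ext i j
        by_cases hj : (j : ℕ) = m + 2
        · have : j = Fin.last (m + 2) := Fin.ext (by simpa using hj)
          subst this
          simp [CfsgLib.Ore.comp, Matrix.vecMulVec_apply]
          ring
        · have : j ≠ Fin.last (m + 2) := fun e => hj (by subst e; simp)
          simp [CfsgLib.Ore.comp, Matrix.vecMulVec_apply, hj, this]
      rw [this, Matrix.add_mul, Matrix.mul_nonsing_inv _ hBu, Matrix.vecMulVec_mul]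

/-- products of two split cyclic classes -/
theorem exists_split_mul [Fintype F] (h4 : 4 ≤ Fintype.card F) {n : ℕ} (hn : 3 ≤ n)
    (G : Matrix (Fin n) (Fin n) F) (β γ : Fin n → F) (hβ : ∀ i, β i ≠ 0) (hγ : ∀ i, γ i ≠ 0)
    (hdet : G.det = (∏ i, β i) * ∏ i, γ i) (hns : Nonscalar G) :
    ∃ L U, Spl L β ∧ Spl U γ ∧ G = L * U := by
  by_cases hr : ∃ (t : F) (x y : Fin n → F), G = t • 1 + vecMulVec x y
  · obtain ⟨t, x, y, h⟩ := hr
    exact mem_rankone hn G β γ hβ hγ hdet hns h
  push Not at hr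
  obtain ⟨e₁, he₁⟩ := exists_contig β
  obtain ⟨e₂, he₂⟩ := exists_contig γ
  obtain ⟨P, Q, L, U, hPQ, hG, hL, hU⟩ := exists_lu h4 hn G (β ∘ e₁) (γ ∘ e₂) (fun i => hβ _) (fun i => hγ _)
    (by rw [hdet]; simp only [Function.comp_apply]; rw [e₁.prod_comp β, e₂.prod_comp γ]) hr
  have hQP : Q * P = 1 := mul_eq_one_comm.1 hPQ
  have hs : Sim G (L * U) := hG ▸ sim_conj hPQ hQP (L * U)
  have h1 := (hL.spl he₁).perm e₁.symm
  have h2 := (hU.spl he₂).perm e₂.symm
  simp only [Function.comp_assoc, Equiv.self_comp_symm, Function.comp_id] at h1 h2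
  exact mem_of_sim hs h1 h2

/-- two conjugates of a pair -/
theorem pa_four [Fintype F] (h4 : 4 ≤ Fintype.card F) {n : ℕ} (hn : 3 ≤ n) {X : Matrix κ κ F} {ρ : F}
    {A H : Matrix (Fin n) (Fin n) F} {β : Fin n → F} (hP : HasPair X ρ A H) (hT : TPair A H β) (hX : X.det ≠ 0)
    (G : Matrix (Fin n) (Fin n) F) (hns : Nonscalar G) (hdet : G.det = X.det ^ 4) :
    ∃ l, l.length = 4 ∧ (∀ Y ∈ l, Sim Y X) ∧ l.prod = G ∧ ∀ t, NoR t A H → Avoid t l := by
  obtain ⟨sA, sH⟩ := hP.sim
  have hdZ : (A * H).det = X.det ^ 2 := by rw [det_mul, sA.det_eq, sH.det_eq, pow_two]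
  have hdZ0 : (A * H).det ≠ 0 := by rw [hdZ]; exact pow_ne_zero _ hX
  have hβ : ∏ i, β i = X.det ^ 2 := hT.spl.det_eq ▸ hdZ
  have hβ0 : ∀ i, β i ≠ 0 := fun i => Finset.prod_ne_zero_iff.1 (hβ ▸ pow_ne_zero 2 hX) i (Finset.mem_univ i)
  obtain ⟨L, U, hL, hU, rfl⟩ := exists_split_mul h4 hn G β β hβ0 hβ0 (by rw [hdet, hβ]; ring) hns
  have hdL : L.det ≠ 0 := by rw [hL.det_eq, hβ]; exact pow_ne_zero 2 hX
  have hdU : U.det ≠ 0 := by rw [hU.det_eq, hβ]; exact pow_ne_zero 2 hX
  obtain ⟨P, Q, p1, p2, eL⟩ := sim_exists (Spl.sim hL hT.spl hdL hdZ0)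
  obtain ⟨R, S, r1, r2, eU⟩ := sim_exists (Spl.sim hU hT.spl hdU hdZ0)
  refine ⟨([A, H].map fun Y => P * Y * Q) ++ ([A, H].map fun Y => R * Y * S), rfl, ?_, ?_, fun t ht => ?_⟩
  · intro Y hY
    simp only [List.map_cons, List.map_nil, List.cons_append, List.nil_append, List.mem_cons, List.not_mem_nil,
      or_false] at hY
    rcases hY with rfl | rfl | rfl | rfl
    · exact (sim_conj p1 p2 A).trans sA
    · exact (sim_conj p1 p2 H).trans sH
    · exact (sim_conj r1 r2 A).trans sA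
    · exact (sim_conj r1 r2 H).trans sH
  · rw [List.prod_append, prod_map_conj p1 p2, prod_map_conj r1 r2, eL, eU]
    simp
  · refine (avoid_map_conj p1 p2 (l := [A, H]) fun w hw => ?_).mono fun Y hY => List.mem_append_left _ hY
    exact ht w (hw A (by simp)) (hw H (by simp))

end CfsgLib.Known.CoverPSL
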