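import Cfsg.Agent.Lib.Known.CoverPSL.LU

/-!
# The recursion for the triangular factorisation
-/

set_option autoImplicit false
set_option linter.unusedSectionVars false
set_option linter.style.haveILetI false

open Matrix Polynomial CfsgLib.Ore

namespace CfsgLib.Known.CoverPSL

universe u

variable {F : Type u} [Field F]

/-- a matrix given by its first row, first column and the rest -/
def cblock {n : ℕ} (a : F) (u l : Fin n → F) (M : Matrix (Fin n) (Fin n) F) : Matrix (Fin (n + 1)) (Fin (n + 1)) F :=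
  Matrix.of (Fin.cons (Fin.cons a u) fun i => Fin.cons (l i) (M i))

section CBlock

variable {n : ℕ} (a : F) (u l : Fin n → F) (M : Matrix (Fin n) (Fin n) F)

@[simp] theorem cblock_zero_zero : cblock a u l M 0 0 = a := rfl
@[simp] theorem cblock_zero_succ (j : Fin n) : cblock a u l M 0 j.succ = u j := rfl
@[simp] theorem cblock_succ_zero (i : Fin n) : cblock a u l M i.succ 0 = l i := rfl
@[simp] theorem cblock_succ_succ (i j : Fin n) : cblock a u l M i.succ j.succ = M i j := rfl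

theorem cblock_eta (G : Matrix (Fin (n + 1)) (Fin (n + 1)) F) :
    cblock (G 0 0) (fun j => G 0 j.succ) (fun i => G i.succ 0) (G.submatrix Fin.succ Fin.succ) = G := by
  ext i j
  refine Fin.cases ?_ (fun i => ?_) i <;> refine Fin.cases ?_ (fun j => ?_) j <;> simp

theorem cblock_mul (a' : F) (u' l' : Fin n → F) (M' : Matrix (Fin n) (Fin n) F) :
    cblock a u l M * cblock a' u' l' M' =
      cblock (a * a' + u ⬝ᵥ l') (a • u' + u ᵥ* M') (a' • l + M *ᵥ l') (vecMulVec l u' + M * M') := by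
  ext i j
  refine Fin.cases ?_ (fun i => ?_) i <;> refine Fin.cases ?_ (fun j => ?_) j <;>
    simp [Matrix.mul_apply, Fin.sum_univ_succ, dotProduct, Matrix.vecMul, Matrix.mulVec, Matrix.vecMulVec_apply,
      mul_comm]

theorem cblock_mulVec (x : F) (y : Fin n → F) :
    cblock a u l M *ᵥ Fin.cons x y = Fin.cons (a * x + u ⬝ᵥ y) (x • l + M *ᵥ y) := by
  funext i
  refine Fin.cases ?_ (fun i => ?_) i <;>
    simp [Matrix.mulVec, dotProduct, Fin.sum_univ_succ, mul_comm]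

theorem det_cblock_low : (cblock a 0 l M).det = a * M.det := by
  rw [Matrix.det_succ_row_zero, Fin.sum_univ_succ, Finset.sum_eq_zero fun j _ => by simp, add_zero]
  simp only [Fin.val_zero, pow_zero, one_mul, cblock_zero_zero, Fin.succAbove_zero]
  rfl

theorem det_cblock_upp : (cblock a u 0 M).det = a * M.det := by
  rw [Matrix.det_succ_column_zero, Fin.sum_univ_succ, Finset.sum_eq_zero fun j _ => by simp, add_zero]
  simp only [Fin.val_zero, pow_zero, one_mul, cblock_zero_zero, Fin.succAbove_zero]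
  rfl

theorem cblock_one_inv {P Q : Matrix (Fin n) (Fin n) F} (h : P * Q = 1) :
    cblock 1 0 0 P * cblock 1 0 0 Q = (1 : Matrix (Fin (n + 1)) (Fin (n + 1)) F) := by
  rw [cblock_mul, h]
  ext i j
  refine Fin.cases ?_ (fun i => ?_) i <;> refine Fin.cases ?_ (fun j => ?_) j <;>
    simp [Matrix.one_apply, Fin.succ_ne_zero, (Fin.succ_ne_zero _).symm]

end CBlock

/-- the Schur complement of the corner -/
def schur {n : ℕ} (a : F) (u l : Fin n → F) (M : Matrix (Fin n) (Fin n) F) : Matrix (Fin n) (Fin n) F :=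
  M - a⁻¹ • vecMulVec l u

theorem det_schur {n : ℕ} {a : F} (ha : a ≠ 0) (u l : Fin n → F) (M : Matrix (Fin n) (Fin n) F) :
    (cblock a u l M).det = a * (schur a u l M).det := by
  have : cblock a u l M = cblock a 0 l 1 * cblock 1 (a⁻¹ • u) 0 (schur a u l M) := by
    rw [cblock_mul, Matrix.one_mul, Matrix.vecMulVec_smul, schur, add_sub_cancel]
    simp [ha]
  rw [this, det_mul, det_cblock_low, det_cblock_upp]
  simp

/-- a factorisation into triangular matrices, with two side conditions -/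
def LUForm {n : ℕ} (G : Matrix (Fin (n + 1)) (Fin (n + 1)) F) (β γ : Fin (n + 1) → F) (ξ φ : Fin (n + 1) → F) :
    Prop :=
  ∃ P Q L U : Matrix (Fin (n + 1)) (Fin (n + 1)) F, P * Q = 1 ∧ G = P * (L * U) * Q ∧ LTN L β ∧ UTN U γ ∧
    (Q *ᵥ ξ) 0 ≠ 0 ∧ (φ ᵥ* P) 0 ≠ 0

/-- one step -/
theorem LUForm.cons {n : ℕ} {G P Q : Matrix (Fin (n + 2)) (Fin (n + 2)) F} {β γ ξ φ : Fin (n + 2) → F}
    {u l : Fin (n + 1) → F} {M : Matrix (Fin (n + 1)) (Fin (n + 1)) F} (hβ : β 0 ≠ 0) (hγ : γ 0 ≠ 0)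
    (hPQ : P * Q = 1) (hG : Q * G * P = cblock (β 0 * γ 0) u l M) (hξ : (Q *ᵥ ξ) 0 ≠ 0) (hφ : (φ ᵥ* P) 0 ≠ 0)
    (h : LUForm (schur (β 0 * γ 0) u l M) (Fin.tail β) (Fin.tail γ) l u) : LUForm G β γ ξ φ := by
  obtain ⟨P₁, Q₁, L₁, U₁, h1, hT, hL, hU, hl, hu⟩ := h
  have h1' : Q₁ * P₁ = 1 := mul_eq_one_comm.1 h1
  refine ⟨P * cblock 1 0 0 P₁, cblock 1 0 0 Q₁ * Q, cblock (β 0) 0 ((γ 0)⁻¹ • (Q₁ *ᵥ l)) L₁,
    cblock (γ 0) ((β 0)⁻¹ • (u ᵥ* P₁)) 0 U₁, ?_, ?_, ⟨?_, ?_, ?_⟩, ⟨?_, ?_, ?_⟩, ?_, ?_⟩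
  · rw [Matrix.mul_assoc, ← Matrix.mul_assoc (cblock 1 0 0 P₁), cblock_one_inv h1, Matrix.one_mul, hPQ]
  · have hQP : Q * P = 1 := mul_eq_one_comm.1 hPQ
    have eG : G = P * cblock (β 0 * γ 0) u l M * Q := by
      rw [← hG]
      calc G = P * Q * G * (P * Q) := by rw [hPQ, Matrix.one_mul, Matrix.mul_one]
        _ = P * (Q * G * P) * Q := by simp only [Matrix.mul_assoc]
    rw [eG]
    have key : cblock 1 0 0 P₁ * (cblock (β 0) 0 ((γ 0)⁻¹ • (Q₁ *ᵥ l)) L₁ *
        cblock (γ 0) ((β 0)⁻¹ • (u ᵥ* P₁)) 0 U₁) * cblock 1 0 0 Q₁ = cblock (β 0 * γ 0) u l M := by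
      rw [cblock_mul, cblock_mul, cblock_mul]
      congr 1
      · simp
      · funext j
        simp [Matrix.vecMul_smul, Matrix.smul_vecMul, Matrix.vecMul_vecMul, h1, smul_smul, hβ]
      · funext i
        simp [Matrix.mulVec_smul, Matrix.mulVec_mulVec, h1, smul_smul, hγ]
      · simp only [Matrix.vecMulVec_zero, Matrix.zero_vecMulVec, zero_add, Matrix.mulVec_zero, smul_zero,
          add_zero, Matrix.zero_mulVec, Matrix.smul_vecMulVec, Matrix.vecMulVec_smul, smul_smul]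
        have e1 : P₁ * vecMulVec (Q₁ *ᵥ l) (u ᵥ* P₁) * Q₁ = vecMulVec l u := by
          rw [Matrix.mul_vecMulVec, Matrix.vecMulVec_mul, Matrix.mulVec_mulVec, Matrix.vecMul_vecMul, h1,
            Matrix.one_mulVec, Matrix.vecMul_one]
        rw [Matrix.mul_add, Matrix.add_mul, Matrix.mul_smul, Matrix.smul_mul, e1, ← hT, schur, mul_inv]
        rw [add_sub_cancel]
    rw [← key]
    simp only [Matrix.mul_assoc]
  · intro i j hij
    refine Fin.cases (fun hij => ?_) (fun i hij => ?_) i hij <;> refine Fin.cases (fun hij => ?_) (fun j hij => ?_) j hij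
    · exact absurd hij (lt_irrefl _)
    · rfl
    · exact absurd hij (Fin.not_lt_zero _)
    · exact hL.low i j (Fin.succ_lt_succ_iff.1 hij)
  · intro i j hij
    refine Fin.cases (fun hij => ?_) (fun i hij => ?_) i hij <;> refine Fin.cases (fun hij => ?_) (fun j hij => ?_) j hij
    · simp at hij
    · simp at hij
    · have : i = 0 := Fin.ext (by simp at hij ⊢; omega)
      subst this
      rw [cblock_succ_zero, Pi.smul_apply, smul_eq_mul]
      exact mul_ne_zero (inv_ne_zero hγ) hl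
    · exact hL.sub i j (by simpa using hij)
  · intro i
    refine Fin.cases ?_ (fun i => ?_) i
    · rfl
    · exact hL.diag i
  · intro i j hij
    refine Fin.cases (fun hij => ?_) (fun i hij => ?_) i hij <;> refine Fin.cases (fun hij => ?_) (fun j hij => ?_) j hij
    · exact absurd hij (lt_irrefl _)
    · exact absurd hij (Fin.not_lt_zero _)
    · rfl
    · exact hU.upp i j (Fin.succ_lt_succ_iff.1 hij)
  · intro i j hij
    refine Fin.cases (fun hij => ?_) (fun i hij => ?_) i hij <;> refine Fin.cases (fun hij => ?_) (fun j hij => ?_) j hij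
    · simp at hij
    · have : j = 0 := Fin.ext (by simp at hij ⊢; omega)
      subst this
      rw [cblock_zero_succ, Pi.smul_apply, smul_eq_mul]
      exact mul_ne_zero (inv_ne_zero hβ) hu
    · simp at hij
    · exact hU.sup i j (by simpa using hij)
  · intro i
    refine Fin.cases ?_ (fun i => ?_) i
    · rfl
    · exact hU.diag i
  · rw [← Matrix.mulVec_mulVec, ← Fin.cons_self_tail (Q *ᵥ ξ), cblock_mulVec, Fin.cons_zero]
    simpa using hξ
  · rw [← Matrix.vecMul_vecMul, Matrix.vecMul, dotProduct, Fin.sum_univ_succ]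
    simpa using hφ

/-- the last step, of size two -/
theorem lu_two [Fintype F] (h4 : 4 ≤ Fintype.card F) (T : Matrix (Fin 2) (Fin 2) F) (β γ ξ φ : Fin 2 → F)
    (hβ : ∀ i, β i ≠ 0) (hγ : ∀ i, γ i ≠ 0) (h10 : T 1 0 ≠ 0) (hdet : T.det = β 0 * γ 0 * (β 1 * γ 1))
    (htr : T.trace ≠ β 0 * γ 0 + β 1 * γ 1) (hξ : ξ ≠ 0) (hφ : φ ≠ 0) : LUForm T β γ ξ φ := by
  classical
  obtain ⟨c₁, hc₁⟩ : ∃ c, c = β 0 * γ 0 := ⟨_, rfl⟩
  obtain ⟨c₂, hc₂⟩ : ∃ c, c = β 1 * γ 1 := ⟨_, rfl⟩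
  have hc₁0 : c₁ ≠ 0 := hc₁ ▸ mul_ne_zero (hβ 0) (hγ 0)
  rw [← hc₁, ← hc₂, Matrix.det_fin_two] at hdet
  rw [← hc₁, ← hc₂, Matrix.trace_fin_two] at htr
  let w0 := fun v0 v1 : F => (T 0 0 - c₁) * v0 + T 0 1 * v1
  let w1 := fun v0 v1 : F => T 1 0 * v0 + (T 1 1 - c₁) * v1
  let lξ := fun v0 v1 : F => w0 v0 v1 * ξ 1 - w1 v0 v1 * ξ 0
  let lφ := fun v0 v1 : F => φ 0 * v0 + φ 1 * v1
  let q := fun v0 v1 : F => v0 * w1 v0 v1 - v1 * w0 v0 v1
  have hl0 : lξ 1 0 ≠ 0 ∨ lξ 0 1 ≠ 0 := by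
    by_contra h
    push Not at h
    obtain ⟨h1, h2⟩ := h
    simp only [lξ, w0, w1] at h1 h2
    have hd : (T 0 0 - c₁) * (T 1 1 - c₁) - T 0 1 * T 1 0 ≠ 0 := by
      intro e
      refine htr ?_
      have : c₁ * (c₁ + c₂ - (T 0 0 + T 1 1)) = 0 := by linear_combination e - hdet
      linear_combination -((mul_eq_zero.1 this).resolve_left hc₁0)
    refine hξ (funext fun i => ?_)
    fin_cases i
    · exact (mul_eq_zero.1 (show ((T 0 0 - c₁) * (T 1 1 - c₁) - T 0 1 * T 1 0) * ξ 0 = 0 by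
        linear_combination T 0 1 * h1 - (T 0 0 - c₁) * h2)).resolve_left hd
    · exact (mul_eq_zero.1 (show ((T 0 0 - c₁) * (T 1 1 - c₁) - T 0 1 * T 1 0) * ξ 1 = 0 by
        linear_combination (T 1 1 - c₁) * h1 - T 1 0 * h2)).resolve_left hd
  obtain ⟨v0, v1, hq, hlξ, hlφ⟩ : ∃ v0 v1, q v0 v1 ≠ 0 ∧ lξ v0 v1 ≠ 0 ∧ lφ v0 v1 ≠ 0 := by
    by_cases hA : lξ 1 0 ≠ 0 ∧ lφ 1 0 ≠ 0
    · exact ⟨1, 0, by simp [q, w1, h10], hA.1, hA.2⟩
    -- otherwise there are at most three bad points on the affine line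
    let root : F := if h : ∃ s, q s 1 = 0 then h.choose else 0
    let root' : F := -(T 1 1 - T 0 0) / T 1 0 - root
    have hroot : ∀ s, q s 1 = 0 → s = root ∨ s = root' := by
      intro s hs
      have hex : ∃ s, q s 1 = 0 := ⟨s, hs⟩
      have hr : q root 1 = 0 := by simp only [root, dif_pos hex]; exact hex.choose_spec
      by_cases e : s = root
      · exact Or.inl e
      refine Or.inr ?_
      have : (s - root) * (T 1 0 * (s + root) + (T 1 1 - T 0 0)) = 0 := by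
        simp only [q, w0, w1] at hs hr
        linear_combination hs - hr
      have h2 := (mul_eq_zero.1 this).resolve_left (sub_ne_zero.2 e)
      simp only [root']
      field_simp
      linear_combination h2
    obtain ⟨x, hx⟩ : ∃ x, ∀ s, (lξ s 1 = 0 ∨ lφ s 1 = 0) → s = x := by
      rcases not_and_or.1 hA with h | h
      · push Not at h
        have hξ1 : lξ 0 1 ≠ 0 := hl0.resolve_left (not_not.2 h)
        refine ⟨-φ 1 / φ 0, fun s hs => ?_⟩
        rcases hs with hs | hs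
        · refine absurd ?_ hξ1
          simp only [lξ, w0, w1] at h hs ⊢
          linear_combination hs - s * h
        · simp only [lφ] at hs
          by_cases hφ0 : φ 0 = 0
          · refine absurd (funext fun i => ?_) hφ
            fin_cases i
            · exact hφ0
            · simpa [hφ0] using hs
          · field_simp
            linear_combination hs
      · push Not at h
        have hφ0 : φ 0 = 0 := by simpa [lφ] using h
        have hφ1 : φ 1 ≠ 0 := fun e => hφ (funext fun i => by fin_cases i <;> simp [hφ0, e])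
        refine ⟨-lξ 0 1 / lξ 1 0, fun s hs => ?_⟩
        rcases hs with hs | hs
        · by_cases h10' : lξ 1 0 = 0
          · refine absurd ?_ (hl0.resolve_left (not_not.2 h10'))
            simp only [lξ, w0, w1] at h10' hs ⊢
            linear_combination hs - s * h10'
          · field_simp
            simp only [lξ, w0, w1] at hs ⊢
            linear_combination hs
        · simp [lφ, hφ0, hφ1] at hs
    obtain ⟨s, hs⟩ := exists_avoid_list [root, root', x] (by simp; omega)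
    simp only [List.mem_cons, List.not_mem_nil, or_false, not_or] at hs
    refine ⟨s, 1, fun e => ?_, fun e => hs.2.2 (hx s (Or.inl e)), fun e => hs.2.2 (hx s (Or.inr e))⟩
    exact (hroot s e).elim hs.1 hs.2.1
  let P : Matrix (Fin 2) (Fin 2) F := !![v0, w0 v0 v1; v1, w1 v0 v1]
  have hPu : IsUnit P.det := by
    rw [isUnit_iff_ne_zero, Matrix.det_fin_two]
    simp only [P, Matrix.of_apply, Matrix.cons_val_zero, Matrix.cons_val_one, Matrix.head_cons]
    intro e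
    apply hq
    simp only [q]
    linear_combination e
  obtain ⟨x', hx'⟩ : ∃ x', x' = c₁ * (T 0 0 + T 1 1 - c₁ - c₂) := ⟨_, rfl⟩
  have hx0 : x' ≠ 0 := by
    rw [hx']
    refine mul_ne_zero hc₁0 fun e => htr ?_
    linear_combination e
  let L : Matrix (Fin 2) (Fin 2) F := !![β 0, 0; (γ 0)⁻¹, β 1]
  let U : Matrix (Fin 2) (Fin 2) F := !![γ 0, x' / β 0; 0, γ 1]
  have hint : T * P = P * (L * U) := by
    have hLU : L * U = !![c₁, x'; 1, T 0 0 + T 1 1 - c₁] := by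
      ext i j
      fin_cases i <;> fin_cases j <;> simp [L, U, Matrix.mul_apply, Fin.sum_univ_two, hc₁, hc₂, hx', hβ 0, hγ 0]
      · field_simp [hβ 0]
      · field_simp [hβ 0, hγ 0]
        ring
    rw [hLU]
    ext i j
    fin_cases i <;> fin_cases j <;> simp [P, Matrix.mul_apply, Fin.sum_univ_two, w0, w1]
    · ring
    · rw [hx']; linear_combination (-v0) * hdet
    · ring
    · rw [hx']; linear_combination (-v1) * hdet
  refine ⟨P, P⁻¹, L, U, Matrix.mul_nonsing_inv _ hPu, ?_, ⟨?_, ?_, ?_⟩, ⟨?_, ?_, ?_⟩, ?_, ?_⟩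
  · rw [← hint, Matrix.mul_assoc, Matrix.mul_nonsing_inv _ hPu, Matrix.mul_one]
  · intro i j h; fin_cases i <;> fin_cases j <;> simp [L] at h ⊢
  · intro i j h; fin_cases i <;> fin_cases j <;> simp [L] at h ⊢
    exact hγ 0
  · intro i; fin_cases i <;> simp [L]
  · intro i j h; fin_cases i <;> fin_cases j <;> simp [U] at h ⊢
  · intro i j h; fin_cases i <;> fin_cases j <;> simp [U] at h ⊢
    exact ⟨hx0, hβ 0⟩
  · intro i; fin_cases i <;> simp [U]
  · intro e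
    apply hlξ
    have h2 : P *ᵥ (P⁻¹ *ᵥ ξ) = ξ := by rw [Matrix.mulVec_mulVec, Matrix.mul_nonsing_inv _ hPu, Matrix.one_mulVec]
    have e0 := congrFun h2 0
    have e1 := congrFun h2 1
    generalize P⁻¹ *ᵥ ξ = z at e e0 e1
    simp [P, Matrix.mulVec, dotProduct, Fin.sum_univ_two, e] at e0 e1
    simp only [lξ]
    rw [← e0, ← e1]
    ring
  · intro e
    apply hlφ
    simpa [P, lφ, Matrix.vecMul, dotProduct, Fin.sum_univ_two] using e

/-- the step from three to two -/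
theorem lu_three [Fintype F] (h4 : 4 ≤ Fintype.card F) (G : Matrix (Fin 3) (Fin 3) F) (β γ ξ φ : Fin 3 → F)
    (hβ : ∀ i, β i ≠ 0) (hγ : ∀ i, γ i ≠ 0) (hdet : G.det = (∏ i, β i) * ∏ i, γ i) {v : Fin 3 → F}
    (hv : LinearIndependent F ![v, G *ᵥ v, G *ᵥ (G *ᵥ v)]) (hξ : LinearIndependent F ![v, G *ᵥ v, ξ])
    (hφ : φ ⬝ᵥ v ≠ 0) : LUForm G β γ ξ φ := by
  classical
  obtain ⟨a, ha⟩ : ∃ a, a = β 0 * γ 0 := ⟨_, rfl⟩
  have ha0 : a ≠ 0 := ha ▸ mul_ne_zero (hβ 0) (hγ 0)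
  have htop := hv.span_eq_top_of_card_eq_finrank (by simp)
  have hbasis : ∀ y, ∃ r s t : F, r • v + s • (G *ᵥ v) + t • (G *ᵥ (G *ᵥ v)) = y := fun y =>
    mem_span3.1 (by rw [htop]; exact Submodule.mem_top)
  obtain ⟨d0, d1, d2, hd⟩ := hbasis (G *ᵥ (G *ᵥ (G *ᵥ v)))
  obtain ⟨k1, k2, k3, hk⟩ := hbasis ξ
  have hk3 : k3 ≠ 0 := by
    intro e
    rw [e, zero_smul, add_zero] at hk
    obtain ⟨-, -, h1⟩ := indep3_iff.1 hξ k1 k2 (-1) (by rw [hk]; module)
    exact one_ne_zero (neg_eq_zero.1 h1)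
  obtain ⟨μ, hμ⟩ := exists_avoid_list [-(k1 + a * k2) / k3, a ^ 2, a * (d2 - (β 1 * γ 1 + β 2 * γ 2))] (by simp; omega)
  simp only [List.mem_cons, List.not_mem_nil, or_false, not_or] at hμ
  obtain ⟨hμ1, hμ2, hμ3⟩ := hμ
  obtain ⟨e₁, he₁⟩ : ∃ e, e = G *ᵥ v - a • v := ⟨_, rfl⟩
  obtain ⟨e₂, he₂⟩ : ∃ e, e = G *ᵥ (G *ᵥ v) - μ • v := ⟨_, rfl⟩
  let P : Matrix (Fin 3) (Fin 3) F := (Matrix.of ![v, e₁, e₂])ᵀ
  have hPu : IsUnit P.det := by
    rw [← Matrix.isUnit_iff_isUnit_det, ← Matrix.linearIndependent_cols_iff_isUnit]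
    show LinearIndependent F ![v, e₁, e₂]
    refine indep3_iff.2 fun p q r e => ?_
    obtain ⟨h1, h2, h3⟩ := indep3_iff.1 hv (p - a * q - μ * r) q r (by
      rw [he₁, he₂] at e; linear_combination (norm := module) e)
    rw [h2, h3] at h1
    exact ⟨by simpa using h1, h2, h3⟩
  have hcol : ∀ x y z : F, P *ᵥ ![x, y, z] = x • v + y • e₁ + z • e₂ := fun x y z => by
    funext i
    simp [P, Matrix.mulVec, dotProduct, Fin.sum_univ_three, mul_comm]
  let u : Fin 2 → F := ![μ - a ^ 2, d0 + d1 * a + d2 * μ - μ * a]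
  let l : Fin 2 → F := ![1, 0]
  let M : Matrix (Fin 2) (Fin 2) F := !![-a, d1 - μ; 1, d2]
  have hint : G * P = P * cblock a u l M := by
    refine Matrix.ext_iff_mulVec.2 fun x => ?_
    rw [show x = x 0 • ![1, 0, 0] + x 1 • ![0, 1, 0] + x 2 • (![0, 0, 1] : Fin 3 → F) by
      funext i; fin_cases i <;> simp]
    simp only [Matrix.mulVec_add, Matrix.mulVec_smul, ← Matrix.mulVec_mulVec]
    congr 1
    congr 1
    all_goals congr 1
    · rw [hcol, show cblock a u l M *ᵥ ![1, 0, 0] = ![a, 1, 0] by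
        rw [show (![1, 0, 0] : Fin 3 → F) = Fin.cons 1 ![0, 0] from rfl, cblock_mulVec]
        funext i
        refine Fin.cases ?_ (fun i => ?_) i
        · simp [u, l]
        · rw [Fin.cons_succ]
          fin_cases i <;> simp [l, Matrix.mulVec, dotProduct, Fin.sum_univ_succ], hcol]
      simp only [one_smul, zero_smul, add_zero, he₁]
      abel
    · rw [hcol, show cblock a u l M *ᵥ ![0, 1, 0] = ![μ - a ^ 2, -a, 1] by
        rw [show (![0, 1, 0] : Fin 3 → F) = Fin.cons 0 ![1, 0] from rfl, cblock_mulVec]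
        funext i
        refine Fin.cases ?_ (fun i => ?_) i
        · simp [u, l]
        · rw [Fin.cons_succ]
          fin_cases i <;> simp [u, M, Matrix.mulVec, dotProduct, Fin.sum_univ_succ], hcol]
      simp only [one_smul, zero_smul, add_zero, zero_add, he₁, he₂, Matrix.mulVec_sub, Matrix.mulVec_smul]
      module
    · rw [hcol, show cblock a u l M *ᵥ ![0, 0, 1] = ![d0 + d1 * a + d2 * μ - μ * a, d1 - μ, d2] by
        rw [show (![0, 0, 1] : Fin 3 → F) = Fin.cons 0 ![0, 1] from rfl, cblock_mulVec]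
        funext i
        refine Fin.cases ?_ (fun i => ?_) i
        · simp [u, l]
        · rw [Fin.cons_succ]
          fin_cases i <;> simp [u, M, Matrix.mulVec, dotProduct, Fin.sum_univ_succ], hcol]
      simp only [one_smul, zero_smul, add_zero, zero_add, he₁, he₂, Matrix.mulVec_sub, Matrix.mulVec_smul, ← hd]
      module
  have hQGP : P⁻¹ * G * P = cblock a u l M := by
    rw [Matrix.mul_assoc, hint, ← Matrix.mul_assoc, Matrix.nonsing_inv_mul _ hPu, Matrix.one_mul]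
  have hdetG : G.det = (cblock a u l M).det := by
    rw [← hQGP, det_mul, det_mul, mul_comm _ P.det, ← mul_assoc, ← det_mul, Matrix.mul_nonsing_inv _ hPu, det_one,
      one_mul]
  rw [det_schur ha0, hdet, Fin.prod_univ_three, Fin.prod_univ_three, ha] at hdetG
  rw [ha] at hQGP
  refine LUForm.cons (hβ 0) (hγ 0) (Matrix.mul_nonsing_inv _ hPu) hQGP ?_ ?_ ?_
  · have hz : P *ᵥ ![k1 + a * k2 + μ * k3, k2, k3] = ξ := by rw [hcol, ← hk, he₁, he₂]; module
    rw [← hz, Matrix.mulVec_mulVec, Matrix.nonsing_inv_mul _ hPu, Matrix.one_mulVec]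
    simp only [Matrix.cons_val_zero]
    intro e
    refine hμ1 ?_
    field_simp
    linear_combination e
  · have : (φ ᵥ* P) 0 = φ ⬝ᵥ v := by simp [P, Matrix.vecMul, dotProduct]
    rw [this]; exact hφ
  · refine lu_two h4 _ _ _ l u (fun i => hβ _) (fun i => hγ _) ?_ ?_ ?_ ?_ ?_
    · simp only [schur, Matrix.sub_apply, Matrix.smul_apply, Matrix.vecMulVec_apply]
      simp [M, l, u]
    · refine mul_left_cancel₀ (mul_ne_zero (hβ 0) (hγ 0)) ?_
      rw [← hdetG]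
      simp [Fin.tail]
      ring
    · intro e
      refine hμ3 ?_
      simp only [Matrix.trace_fin_two, schur, Matrix.sub_apply, Matrix.smul_apply, Matrix.vecMulVec_apply] at e
      simp [M, l, u, Fin.tail] at e
      rw [← mul_inv, mul_comm (γ 0) (β 0), ← ha] at e
      field_simp at e
      linear_combination -e
    · intro e; simpa [l] using congrFun e 0
    · intro e
      have := congrFun e 0
      simp [u, sub_eq_zero] at this
      exact hμ2 this

/-- the step in dimension at least four -/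
theorem lu_step [Fintype F] (h4 : 4 ≤ Fintype.card F) {n : ℕ} (G : Matrix (Fin (n + 4)) (Fin (n + 4)) F)
    (β γ ξ φ : Fin (n + 4) → F) (hβ : ∀ i, β i ≠ 0) (hγ : ∀ i, γ i ≠ 0) (hdet : G.det = (∏ i, β i) * ∏ i, γ i)
    {v x : Fin (n + 4) → F} (hq : LinearIndependent F ![v, G *ᵥ v, x, G *ᵥ x])
    (hξ : LinearIndependent F ![v, G *ᵥ v, ξ]) (hφ : φ ⬝ᵥ v ≠ 0)
    (ih : ∀ (T : Matrix (Fin (n + 3)) (Fin (n + 3)) F) (β' γ' ξ' φ' : Fin (n + 3) → F), (∀ i, β' i ≠ 0) →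
      (∀ i, γ' i ≠ 0) → T.det = (∏ i, β' i) * ∏ i, γ' i → ∀ w : Fin (n + 3) → F,
      LinearIndependent F ![w, T *ᵥ w, T *ᵥ (T *ᵥ w)] → LinearIndependent F ![w, T *ᵥ w, ξ'] → φ' ⬝ᵥ w ≠ 0 →
      LUForm T β' γ' ξ' φ') : LUForm G β γ ξ φ := by
  classical
  obtain ⟨a, ha⟩ : ∃ a, a = β 0 * γ 0 := ⟨_, rfl⟩
  have ha0 : a ≠ 0 := ha ▸ mul_ne_zero (hβ 0) (hγ 0)
  have hGdet : G.det ≠ 0 := by
    rw [hdet]
    exact mul_ne_zero (Finset.prod_ne_zero_iff.2 fun i _ => hβ i) (Finset.prod_ne_zero_iff.2 fun i _ => hγ i)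
  obtain ⟨f, hf⟩ := exists_dot hξ ![1, a, 1]
  have hfv : f ⬝ᵥ v = 1 := hf 0
  have hfGv : f ⬝ᵥ (G *ᵥ v) = a := hf 1
  have hfξ : f ⬝ᵥ ξ = 1 := hf 2
  obtain ⟨y, hy⟩ : ∃ y, y = x - (f ⬝ᵥ x) • v := ⟨_, rfl⟩
  have hfy : f ⬝ᵥ y = 0 := by rw [hy, dotProduct_sub, dotProduct_smul, hfv, smul_eq_mul, mul_one, sub_self]
  have hq' : LinearIndependent F ![v, G *ᵥ v, y, G *ᵥ y] := by
    refine indep4_iff.2 fun p q r s e => ?_
    rw [hy, Matrix.mulVec_sub, Matrix.mulVec_smul] at e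
    obtain ⟨h1, h2, h3, h4⟩ := indep4_iff.1 hq (p - r * (f ⬝ᵥ x)) (q - s * (f ⬝ᵥ x)) r s
      (by linear_combination (norm := module) e)
    rw [h3] at h1; rw [h4] at h2
    exact ⟨by simpa using h1, by simpa using h2, h3, h4⟩
  obtain ⟨δ, hδ⟩ := exists_dot hq' ![0, 0, 0, 1]
  -- the one bad value
  have hS3 : LinearIndependent F ![y, G *ᵥ y, G *ᵥ v] := by
    refine indep3_iff.2 fun p q r e => ?_
    obtain ⟨-, h2, h3, h4⟩ := indep4_iff.1 hq' 0 r p q (by linear_combination (norm := module) e)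
    exact ⟨h3, h4, h2⟩
  let S := Submodule.span F (Set.range ![y, G *ᵥ y, G *ᵥ v])
  let fμ := fun μ : F => G *ᵥ (G *ᵥ y - (μ / a) • (G *ᵥ v))
  obtain ⟨μb, hμb⟩ : ∃ μb, ∀ μ, fμ μ ∈ S → μ = μb := by
    by_cases hex : ∃ μ, fμ μ ∈ S
    · obtain ⟨μ₁, h₁⟩ := hex
      refine ⟨μ₁, fun μ₂ h₂ => ?_⟩
      by_contra hne
      have hGv2 : G *ᵥ (G *ᵥ v) ∈ S := by
        have := S.smul_mem (a / (μ₁ - μ₂)) (S.sub_mem h₂ h₁)
        convert this using 1
        simp only [fμ, Matrix.mulVec_sub, Matrix.mulVec_smul]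
        rw [sub_sub_sub_cancel_left, ← sub_smul, smul_smul]
        have hz : μ₁ - μ₂ ≠ 0 := sub_ne_zero.2 (Ne.symm hne)
        rw [show a / (μ₁ - μ₂) * (μ₁ / a - μ₂ / a) = 1 by field_simp, one_smul]
      have hGy2 : G *ᵥ (G *ᵥ y) ∈ S := by
        have := S.add_mem h₁ (S.smul_mem (μ₁ / a) hGv2)
        simpa [fμ, Matrix.mulVec_sub, Matrix.mulVec_smul] using this
      have hmap : S.map G.mulVecLin ≤ S := by
        rw [Submodule.map_le_iff_le_comap, Submodule.span_le]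
        rintro _ ⟨i, rfl⟩
        fin_cases i
        · exact Submodule.subset_span ⟨1, rfl⟩
        · exact hGy2
        · exact hGv2
      have hinj : Function.Injective G.mulVecLin := by
        intro p q e
        have := congrArg (G⁻¹ *ᵥ ·) e
        simpa [Matrix.mulVec_mulVec, Matrix.nonsing_inv_mul _ (isUnit_iff_ne_zero.2 hGdet)] using this
      have heq : S.map G.mulVecLin = S :=
        Submodule.eq_of_le_of_finrank_eq hmap (Submodule.equivMapOfInjective _ hinj S).finrank_eq.symm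
      have hGvS : G *ᵥ v ∈ S.map G.mulVecLin := by rw [heq]; exact Submodule.subset_span ⟨2, rfl⟩
      obtain ⟨z, hz, hzv⟩ := Submodule.mem_map.1 hGvS
      obtain rfl := hinj hzv
      obtain ⟨p, q, r, e⟩ := mem_span3.1 hz
      obtain ⟨h1, -, -, -⟩ := indep4_iff.1 hq' (-1) r p q (by linear_combination (norm := module) e)
      exact one_ne_zero (neg_eq_zero.1 h1)
    · exact ⟨0, fun μ hμ => absurd ⟨μ, hμ⟩ hex⟩
  obtain ⟨ε, hε⟩ := exists_avoid_list [-(δ ⬝ᵥ ξ)⁻¹, -(f ⬝ᵥ (G *ᵥ y)), μb - f ⬝ᵥ (G *ᵥ y)] (by simp; omega)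
  simp only [List.mem_cons, List.not_mem_nil, or_false, not_or] at hε
  obtain ⟨hε1, hε2, hε3⟩ := hε
  obtain ⟨g, hg⟩ : ∃ g, g = f + ε • δ := ⟨_, rfl⟩
  have hgv : g ⬝ᵥ v = 1 := by rw [hg, add_dotProduct, smul_dotProduct, hfv]; have := hδ 0; simp at this; simp [this]
  have hgGv : g ⬝ᵥ (G *ᵥ v) = a := by
    rw [hg, add_dotProduct, smul_dotProduct, hfGv]
    have := hδ 1; simp at this; simp [this]
  have hgy : g ⬝ᵥ y = 0 := by
    rw [hg, add_dotProduct, smul_dotProduct, hfy]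
    have := hδ 2; simp at this; simp [this]
  obtain ⟨μ, hμ⟩ : ∃ μ, μ = g ⬝ᵥ (G *ᵥ y) := ⟨_, rfl⟩
  have hμ' : μ = f ⬝ᵥ (G *ᵥ y) + ε := by
    rw [hμ, hg, add_dotProduct, smul_dotProduct]
    have := hδ 3; simp at this; simp [this]
  have hμ0 : μ ≠ 0 := by rw [hμ']; intro e; exact hε2 (by linear_combination e)
  have hgξ : g ⬝ᵥ ξ ≠ 0 := by
    rw [hg, add_dotProduct, smul_dotProduct, hfξ, smul_eq_mul]
    intro e
    by_cases h : δ ⬝ᵥ ξ = 0
    · rw [h, mul_zero, add_zero] at e; exact one_ne_zero e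
    · refine hε1 ?_
      field_simp
      linear_combination e
  -- the basis
  have hvy : LinearIndependent F ![v, y] := by
    rw [LinearIndependent.pair_iff]
    intro p q e
    obtain ⟨h1, -, h3, -⟩ := indep4_iff.1 hq' p 0 q 0 (by simpa using e)
    exact ⟨h1, h3⟩
  have hsingle : LinearIndependent F ![(Pi.single 0 1 : Fin (n + 4) → F), Pi.single 1 1] := by
    rw [LinearIndependent.pair_iff]
    intro p q e
    exact ⟨by simpa using congrFun e 0, by simpa using congrFun e 1⟩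
  obtain ⟨P₀, Q₀, hPQ₀, hQP₀, hmap₀⟩ := exists_inv_map rfl hsingle hvy
  have hP0v : P₀ *ᵥ Pi.single 0 1 = v := hmap₀ 0
  have hP0y : P₀ *ᵥ Pi.single 1 1 = y := hmap₀ 1
  obtain ⟨d, hd⟩ : ∃ d : Fin (n + 4) → F, d = Pi.single 0 1 - g ᵥ* P₀ := ⟨_, rfl⟩
  have hd0 : d 0 = 0 := by
    have : (g ᵥ* P₀) ⬝ᵥ Pi.single 0 1 = 1 := by rw [← Matrix.dotProduct_mulVec, hP0v, hgv]
    simp at this
    simp [hd, this]
  have hd1 : d 1 = 0 := by
    have : (g ᵥ* P₀) ⬝ᵥ Pi.single 1 1 = 0 := by rw [← Matrix.dotProduct_mulVec, hP0y, hgy]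
    simp at this
    simp [hd, this]
  let C : Matrix (Fin (n + 4)) (Fin (n + 4)) F := 1 + vecMulVec (Pi.single 0 1) d
  let C' : Matrix (Fin (n + 4)) (Fin (n + 4)) F := 1 - vecMulVec (Pi.single 0 1) d
  have hsq : vecMulVec (Pi.single (0 : Fin (n + 4)) (1 : F)) d * vecMulVec (Pi.single 0 1) d = 0 := by
    rw [Matrix.vecMulVec_mul_vecMulVec]; simp [hd0]
  have hCC : C * C' = 1 := by
    simp only [C, C']
    rw [Matrix.add_mul, Matrix.one_mul, Matrix.mul_sub, Matrix.mul_one, hsq, sub_zero, sub_add_cancel]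
  let P := P₀ * C
  let Q := C' * Q₀
  have hPQ : P * Q = 1 := by
    simp only [P, Q]
    rw [Matrix.mul_assoc, ← Matrix.mul_assoc C, hCC, Matrix.one_mul, hPQ₀]
  have hQP : Q * P = 1 := mul_eq_one_comm.1 hPQ
  have hP0 : P *ᵥ Pi.single 0 1 = v := by
    simp only [P, C]
    rw [← Matrix.mulVec_mulVec, Matrix.add_mulVec, Matrix.one_mulVec, Matrix.vecMulVec_mulVec]
    simp [hd0, hP0v, ← Matrix.mulVec_single_one P₀]
  have hP1 : P *ᵥ Pi.single 1 1 = y := by
    simp only [P, C]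
    rw [← Matrix.mulVec_mulVec, Matrix.add_mulVec, Matrix.one_mulVec, Matrix.vecMulVec_mulVec]
    simp [hd1, hP0y, ← Matrix.mulVec_single_one P₀]
  have hgP : g ᵥ* P = Pi.single 0 1 := by
    simp only [P, C]
    rw [← Matrix.vecMul_vecMul, Matrix.vecMul_add, Matrix.vecMul_one, Matrix.vecMul_vecMulVec]
    have : (g ᵥ* P₀) ⬝ᵥ Pi.single 0 1 = 1 := by rw [← Matrix.dotProduct_mulVec, hP0v, hgv]
    rw [this, one_smul, hd, add_sub_cancel]
  have hQrow : ∀ z, (Q *ᵥ z) 0 = g ⬝ᵥ z := fun z => by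
    have : g ⬝ᵥ z = (g ᵥ* P) ⬝ᵥ (Q *ᵥ z) := by
      rw [← Matrix.dotProduct_mulVec, Matrix.mulVec_mulVec, hPQ, Matrix.one_mulVec]
    rw [this, hgP]; simp
  obtain ⟨G', hG'⟩ : ∃ G', G' = Q * G * P := ⟨_, rfl⟩
  have hG'00 : G' 0 0 = a := by
    have : G' 0 0 = (Q *ᵥ (G *ᵥ (P *ᵥ Pi.single 0 1))) 0 := by
      rw [Matrix.mulVec_mulVec, Matrix.mulVec_mulVec, Matrix.mulVec_single_one, hG']
      rfl
    rw [this, hP0, hQrow, hgGv]
  obtain ⟨u, hu⟩ : ∃ u : Fin (n + 3) → F, u = fun j => G' 0 j.succ := ⟨_, rfl⟩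
  obtain ⟨l, hl⟩ : ∃ l : Fin (n + 3) → F, l = fun i => G' i.succ 0 := ⟨_, rfl⟩
  obtain ⟨M, hM⟩ : ∃ M, M = G'.submatrix Fin.succ Fin.succ := ⟨_, rfl⟩
  have hblock : Q * G * P = cblock a u l M := by rw [← hG', ← hG'00, hu, hl, hM, cblock_eta]
  let T := schur a u l M
  -- the embedding of the hyperplane
  let em := fun z : Fin (n + 3) → F => P *ᵥ Fin.cons 0 z
  have hem0 : em (Pi.single 0 1) = y := by
    rw [← hP1]
    simp only [em]
    congr 1
    funext i
    refine Fin.cases ?_ (fun i => ?_) i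
    · simp [Pi.single_apply]
    · rw [Fin.cons_succ]
      by_cases hi : i = 0
      · subst hi
        rw [Pi.single_eq_same, show (Fin.succ 0 : Fin (n + 4)) = 1 from rfl, Pi.single_eq_same]
      · rw [Pi.single_eq_of_ne hi, Pi.single_eq_of_ne (fun e => hi (Fin.ext (by
          have := congrArg Fin.val e; simpa using this)))]
  have hGP : ∀ z, G *ᵥ (P *ᵥ z) = P *ᵥ (cblock a u l M *ᵥ z) := fun z => by
    have : G * P = P * (Q * G * P) := by
      rw [Matrix.mul_assoc Q, ← Matrix.mul_assoc P, hPQ, Matrix.one_mul]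
    rw [← hblock, Matrix.mulVec_mulVec, Matrix.mulVec_mulVec, this]
  have hGv : G *ᵥ v = P *ᵥ Fin.cons a l := by
    rw [← hP0, hGP]
    congr 1
    funext i
    refine Fin.cases ?_ (fun i => ?_) i <;> simp [Matrix.mulVec_single_one]
  have hemT : ∀ z, em (T *ᵥ z) = G *ᵥ em z - ((u ⬝ᵥ z) / a) • (G *ᵥ v) := fun z => by
    simp only [em, hGP, hGv, cblock_mulVec, ← Matrix.mulVec_smul, ← Matrix.mulVec_sub]
    congr 1
    funext i
    refine Fin.cases ?_ (fun i => ?_) i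
    · simp; field_simp; ring
    · simp [T, schur, Matrix.sub_mulVec, Matrix.smul_mulVec, Matrix.vecMulVec_mulVec]
      ring
  have hu0 : u ⬝ᵥ Pi.single 0 1 = μ := by
    have h := congrArg (fun z => g ⬝ᵥ z) (hGP (Fin.cons 0 (Pi.single 0 1)))
    simp only [← hμ, show P *ᵥ Fin.cons 0 (Pi.single 0 1) = y from hem0, cblock_mulVec, Matrix.dotProduct_mulVec,
      hgP] at h
    simpa using h.symm
  have heml : em l = G *ᵥ v - a • v := by
    rw [hGv, ← hP0, ← Matrix.mulVec_smul, ← Matrix.mulVec_sub]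
    simp only [em]
    congr 1
    funext i
    refine Fin.cases ?_ (fun i => ?_) i <;> simp
  have hTw : em (T *ᵥ Pi.single 0 1) = G *ᵥ y - (μ / a) • (G *ᵥ v) := by rw [hemT, hem0, hu0]
  have hlin : ∀ (p q r : F) (z₁ z₂ z₃ : Fin (n + 3) → F), p • z₁ + q • z₂ + r • z₃ = 0 →
      p • em z₁ + q • em z₂ + r • em z₃ = 0 := fun p q r z₁ z₂ z₃ e => by
    simp only [em, ← Matrix.mulVec_smul, ← Matrix.mulVec_add]
    rw [show p • (Fin.cons 0 z₁ : Fin (n + 4) → F) + q • Fin.cons 0 z₂ + r • Fin.cons 0 z₃ = 0 from ?_,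
      Matrix.mulVec_zero]
    funext i
    refine Fin.cases ?_ (fun i => ?_) i
    · simp
    · simpa using congrFun e i
  have hdetT : T.det = (∏ i, Fin.tail β i) * ∏ i, Fin.tail γ i := by
    refine mul_left_cancel₀ ha0 ?_
    rw [← det_schur ha0, ← hblock, det_mul, det_mul, mul_comm _ P.det, ← mul_assoc, ← det_mul, hPQ, det_one,
      one_mul, hdet, Fin.prod_univ_succ β, Fin.prod_univ_succ γ, ha]
    simp only [Fin.tail]
    ring
  rw [ha] at hblock
  refine LUForm.cons (hβ 0) (hγ 0) hPQ hblock (by rw [hQrow]; exact hgξ) ?_ ?_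
  · have : (φ ᵥ* P) ⬝ᵥ Pi.single 0 1 = φ ⬝ᵥ v := by rw [← Matrix.dotProduct_mulVec, hP0]
    simp at this
    rw [this]; exact hφ
  · rw [← ha]
    have hμb' : fμ μ ∉ S := fun e => hε3 (by linear_combination (hμb μ e) - hμ')
    refine ih T _ _ l u (fun i => hβ _) (fun i => hγ _) hdetT (Pi.single 0 1) (indep3_iff.2 fun p q r e => ?_)
      (indep3_iff.2 fun p q r e => ?_) (by rw [hu0]; exact hμ0)
    · have e' := hlin _ _ _ _ _ _ e
      rw [hemT (T *ᵥ Pi.single 0 1), hTw, hem0] at e'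
      obtain ⟨ν, hν⟩ : ∃ ν, ν = u ⬝ᵥ (T *ᵥ Pi.single 0 1) / a := ⟨_, rfl⟩
      rw [← hν] at e'
      obtain ⟨h1, h2, h3, h4⟩ := indep4_iff.1 (indep_four hS3 hμb') p q (-(q * (μ / a)) - r * ν) r
        (by linear_combination (norm := module) e')
      exact ⟨h1, h2, h4⟩
    · have e' := hlin _ _ _ _ _ _ e
      rw [hTw, hem0, heml] at e'
      obtain ⟨h1, h2, h3, h4⟩ := indep4_iff.1 hq' (-(r * a)) (r - q * (μ / a)) p q
        (by linear_combination (norm := module) e')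
      have hr : r = 0 := (mul_eq_zero.1 (neg_eq_zero.1 h1)).resolve_right ha0
      exact ⟨h3, h4, hr⟩

/-- the recursion -/
theorem lu_main [Fintype F] (h4 : 4 ≤ Fintype.card F) :
    ∀ (n : ℕ) (G : Matrix (Fin (n + 3)) (Fin (n + 3)) F) (β γ ξ φ : Fin (n + 3) → F), (∀ i, β i ≠ 0) →
      (∀ i, γ i ≠ 0) → G.det = (∏ i, β i) * ∏ i, γ i → ∀ v : Fin (n + 3) → F,
      LinearIndependent F ![v, G *ᵥ v, G *ᵥ (G *ᵥ v)] → LinearIndependent F ![v, G *ᵥ v, ξ] → φ ⬝ᵥ v ≠ 0 →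
      LUForm G β γ ξ φ := by
  intro n
  induction n with
  | zero => exact fun G β γ ξ φ hβ hγ hd v hv hξ hφ => lu_three h4 G β γ ξ φ hβ hγ hd hv hξ hφ
  | succ n ih =>
    intro G β γ ξ φ hβ hγ hd v hv hξ hφ
    obtain ⟨x, hx⟩ := exists_quad_of_cyclic G (by simp) hv
    exact lu_step h4 G β γ ξ φ hβ hγ hd hx hξ hφ ih

/-- the factorisation -/
theorem exists_lu [Fintype F] (h4 : 4 ≤ Fintype.card F) {n : ℕ} (hn : 3 ≤ n) (G : Matrix (Fin n) (Fin n) F)
    (β γ : Fin n → F) (hβ : ∀ i, β i ≠ 0) (hγ : ∀ i, γ i ≠ 0) (hdet : G.det = (∏ i, β i) * ∏ i, γ i)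
    (hG : ∀ (t : F) (x y : Fin n → F), G ≠ t • 1 + vecMulVec x y) :
    ∃ P Q L U : Matrix (Fin n) (Fin n) F, P * Q = 1 ∧ G = P * (L * U) * Q ∧ LTN L β ∧ UTN U γ := by
  classical
  have done : ∀ {m : ℕ} {G : Matrix (Fin (m + 1)) (Fin (m + 1)) F} {β γ ξ φ : Fin (m + 1) → F},
      LUForm G β γ ξ φ → ∃ P Q L U : Matrix (Fin (m + 1)) (Fin (m + 1)) F,
        P * Q = 1 ∧ G = P * (L * U) * Q ∧ LTN L β ∧ UTN U γ :=
    fun ⟨P, Q, L, U, h1, h2, h3, h4, _, _⟩ => ⟨P, Q, L, U, h1, h2, h3, h4⟩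
  have hφex : ∀ {m : ℕ} {v : Fin m → F}, v ≠ 0 → ∃ φ : Fin m → F, φ ⬝ᵥ v ≠ 0 := fun {m v} hv => by
    obtain ⟨i, hi⟩ := Function.ne_iff.1 hv
    exact ⟨Pi.single i 1, by simpa using hi⟩
  obtain ⟨k, rfl⟩ : ∃ k, n = k + 3 := ⟨n - 3, by omega⟩
  rcases k with _ | k
  · rcases cyclic_or_rankone G (by simp) with ⟨v, hv⟩ | ⟨t, x, y, h⟩
    · obtain ⟨φ, hφ⟩ := hφex (hv.ne_zero 0)
      exact done (lu_main h4 0 G β γ _ φ hβ hγ hdet v hv hv hφ)
    · exact absurd h (hG t x y)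
  · rcases quad_or_rankone G (by simp) with ⟨v, x, hq⟩ | ⟨t, x, y, h⟩
    · obtain ⟨φ, hφ⟩ := hφex (hq.ne_zero 0)
      have hξ : LinearIndependent F ![v, G *ᵥ v, x] := by
        refine indep3_iff.2 fun p q r e => ?_
        obtain ⟨h1, h2, h3, -⟩ := indep4_iff.1 hq p q r 0 (by simpa using e)
        exact ⟨h1, h2, h3⟩
      exact done (lu_step h4 G β γ x φ hβ hγ hdet hq hξ hφ (lu_main h4 k))
    · exact absurd h (hG t x y)

end CfsgLib.Known.CoverPSL
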