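import Cfsg.Agent.Lib.Known.CoverPSL.FullMain
import Cfsg.Agent.Lib.Known.CoverPSL.Aligned
import Mathlib

/-!
# The covering number of the projective special linear groups
-/

set_option autoImplicit false
set_option linter.unusedSectionVars false
set_option linter.style.haveILetI false

open Matrix Polynomial CfsgLib.Ore
open scoped MatrixGroups

namespace CfsgLib.Known.CoverPSL

universe u

variable {F : Type u} [Field F]

local notation "SLn" n => Matrix.SpecialLinearGroup (Fin n) F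
local notation "PSLn" n => Matrix.ProjectiveSpecialLinearGroup (Fin n) F

/-- every nonscalar class is good -/
theorem good_all [Fintype F] (h4 : 4 ≤ Fintype.card F) {n : ℕ} (hn : 3 ≤ n) {X : Matrix (Fin n) (Fin n) F}
    (hX : X.det = 1) (hns : Nonscalar X) : Good X n ∧ GoodS X n :=
  (full_or_aligned h4 hn hX hns).elim (full_good h4 hn hX hns) id

/-- the quotient map -/
def projHom (n : ℕ) : (SLn n) →* (PSLn n) := QuotientGroup.mk' _

theorem projHom_surjective (n : ℕ) : Function.Surjective (projHom (F := F) n) := QuotientGroup.mk'_surjective _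

theorem projHom_eq_one {n : ℕ} (A : SLn n) : projHom n A = 1 ↔ ∃ r : F, (A : Matrix (Fin n) (Fin n) F) = r • 1 := by
  rw [projHom, QuotientGroup.mk'_apply, QuotientGroup.eq_one_iff, Matrix.SpecialLinearGroup.mem_center_iff]
  constructor
  · rintro ⟨r, -, h⟩
    exact ⟨r, by rw [← h, Matrix.scalar_apply, Matrix.smul_one_eq_diagonal]⟩
  · rintro ⟨r, h⟩
    refine ⟨r, ?_, by rw [h, Matrix.scalar_apply, Matrix.smul_one_eq_diagonal]⟩
    have := A.2
    rwa [h, det_smul, det_one, mul_one] at this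

theorem exists_ofFn {α : Type*} {n : ℕ} (l : List α) (h : l.length = n) : ∃ f : Fin n → α, List.ofFn f = l := by
  subst h
  exact ⟨fun i => l.get i, List.ofFn_get l⟩

/-- lifting the conjugators -/
theorem exists_conjugators {n : ℕ} (X : SLn n) :
    ∀ l : List (Matrix (Fin n) (Fin n) F), (∀ Y ∈ l, Conj1 (X : Matrix (Fin n) (Fin n) F) Y) →
      ∃ l' : List (SLn n), l'.length = l.length ∧
        ((l'.map fun P => P * X * P⁻¹).prod : SLn n).1 = l.prod
  | [], _ => ⟨[], rfl, by simp⟩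
  | Y :: l, h => by
    obtain ⟨l', h1, h2⟩ := exists_conjugators X l fun Z hZ => h Z (List.mem_cons_of_mem _ hZ)
    obtain ⟨P, hP, hY⟩ := h Y List.mem_cons_self
    obtain ⟨P', hP'⟩ : ∃ P' : SLn n, P'.1 = P := ⟨⟨P, hP⟩, rfl⟩
    refine ⟨P' :: l', by simp [h1], ?_⟩
    rw [List.map_cons, List.prod_cons, List.prod_cons, Matrix.SpecialLinearGroup.coe_mul, h2]
    congr 1
    rw [Matrix.SpecialLinearGroup.coe_mul, Matrix.SpecialLinearGroup.coe_mul, Matrix.SpecialLinearGroup.coe_inv]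
    rw [hP', ← hY, Matrix.mul_assoc, Matrix.mul_adjugate, hP, one_smul, Matrix.mul_one]

/-- every element is a product of `n` conjugates -/
theorem upper [Fintype F] (h4 : 4 ≤ Fintype.card F) {n : ℕ} (hn : 3 ≤ n) (x : PSLn n) (hx : x ≠ 1) (g : PSLn n) :
    ∃ f : Fin n → PSLn n, g = (List.ofFn fun i => f i * x * (f i)⁻¹).prod := by
  obtain ⟨X, rfl⟩ := projHom_surjective n x
  obtain ⟨G, rfl⟩ := projHom_surjective n g
  have hns : Nonscalar (X : Matrix (Fin n) (Fin n) F) := fun r hr => hx ((projHom_eq_one X).2 ⟨r, hr⟩)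
  obtain ⟨hg, hs⟩ := good_all h4 hn X.2 hns
  obtain ⟨G', hG', hgood⟩ : ∃ G' : Matrix (Fin n) (Fin n) F, SProds (X : Matrix (Fin n) (Fin n) F) n G' ∧
      (G' = (G : Matrix (Fin n) (Fin n) F) ∨ ((∃ r : F, G' = r • 1) ∧ ∃ r : F, (G : Matrix (Fin n) (Fin n) F) = r • 1)) := by
    by_cases hG : Nonscalar (G : Matrix (Fin n) (Fin n) F)
    · exact ⟨_, hg _ hG (by rw [G.2, X.2, one_pow]), Or.inl rfl⟩
    · simp only [Nonscalar, not_forall, not_not] at hG
      obtain ⟨z, hz⟩ := hs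
      exact ⟨_, hz, Or.inr ⟨⟨z, rfl⟩, hG⟩⟩
  obtain ⟨l, hl, hc, hp⟩ := hG'
  obtain ⟨l', hl', hp'⟩ := exists_conjugators X l hc
  obtain ⟨f, hf⟩ := exists_ofFn l' (hl'.trans hl)
  refine ⟨fun i => projHom n (f i), ?_⟩
  have e : (List.ofFn fun i => projHom n (f i) * projHom n X * (projHom n (f i))⁻¹).prod =
      projHom n (l'.map fun P => P * X * P⁻¹).prod := by
    rw [map_list_prod, ← hf, List.map_ofFn, List.map_ofFn]
    congr 2
  rw [e]
  rcases hgood with h | ⟨⟨r, hr⟩, hG⟩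
  · exact congrArg _ (Subtype.ext (hp'.trans (hp.trans h)).symm)
  · rw [(projHom_eq_one G).2 hG, (projHom_eq_one _).2 ⟨r, hp'.trans (hp.trans hr)⟩]

/-- a transvection needs `n` conjugates -/
theorem lower [Fintype F] {n : ℕ} (hn : 3 ≤ n) :
    ∃ x : PSLn n, x ≠ 1 ∧ ∃ g : PSLn n, ∀ f : Fin (n - 1) → PSLn n,
      g ≠ (List.ofFn fun i => f i * x * (f i)⁻¹).prod := by
  classical
  obtain ⟨m, rfl⟩ : ∃ m, n = m + 1 := ⟨n - 1, by omega⟩
  obtain ⟨i0, i1, h01⟩ : ∃ i0 i1 : Fin (m + 1), i0 ≠ i1 := ⟨0, 1, fun e => by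
    have := congrArg Fin.val e
    simp [Nat.mod_eq_of_lt (show 1 < m + 1 by omega)] at this⟩
  let T : SLn (m + 1) := ⟨Matrix.transvection i0 i1 1, Matrix.det_transvection_of_ne _ _ h01 _⟩
  -- no root
  obtain ⟨a, ha⟩ : ∃ a : F, ∀ r : F, r ≠ 0 → r ^ (m + 1) + a * r + (-1) ^ (m + 1) ≠ 0 := by
    by_contra hno
    push Not at hno
    choose r hr0 hr using hno
    have hinj : Function.Injective fun a => (⟨r a, hr0 a⟩ : {r : F // r ≠ 0}) := fun a b e => by
      have e' : r a = r b := congrArg Subtype.val e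
      have h1 := hr a
      have h2 := hr b
      rw [← e'] at h2
      exact mul_right_cancel₀ (hr0 a) (by linear_combination h1 - h2)
    have := Fintype.card_le_of_injective _ hinj
    rw [Fintype.card_subtype_compl, Fintype.card_subtype_eq] at this
    have := Fintype.card_pos (α := F)
    omega
  obtain ⟨c, hc⟩ : ∃ c : Fin (m + 1) → F, c = fun i : Fin (m + 1) =>
      if (i : ℕ) = 0 then (-1) ^ (m + 1) else if (i : ℕ) = 1 then a else 0 := ⟨_, rfl⟩
  have hdet : (CfsgLib.Ore.comp c).det = 1 := by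
    rw [det_comp, hc]
    simp only [Fin.val_zero, if_true]
    rw [← mul_pow, neg_one_mul, neg_neg, one_pow]
  obtain ⟨G, hGc⟩ : ∃ G : SLn (m + 1), G.1 = CfsgLib.Ore.comp c := ⟨⟨_, hdet⟩, rfl⟩
  refine ⟨projHom _ T, fun e => ?_, projHom _ G, fun f e => ?_⟩
  · obtain ⟨r, hr⟩ := (projHom_eq_one T).1 e
    have := congrFun (congrFun hr i0) i1
    simp [T, Matrix.transvection, h01] at this
  have hsurj := fun i => projHom_surjective (m + 1) (f i)
  choose P hP using hsurj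
  obtain ⟨Q, hQ⟩ : ∃ Q, Q = (List.ofFn fun i => P i * T * (P i)⁻¹).prod := ⟨_, rfl⟩
  have he : projHom (m + 1) (Q⁻¹ * G) = 1 := by
    rw [map_mul, map_inv, e, hQ, map_list_prod, List.map_ofFn]
    rw [show (⇑(projHom (m + 1)) ∘ fun i => P i * T * (P i)⁻¹) =
      fun i => f i * projHom (m + 1) T * (f i)⁻¹ from funext fun i => by simp [hP]]
    exact inv_mul_cancel _
  obtain ⟨r, hr⟩ := (projHom_eq_one _).1 he
  have hG : CfsgLib.Ore.comp c = r • (Q : Matrix (Fin (m + 1)) (Fin (m + 1)) F) := by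
    have h1 : ((Q * (Q⁻¹ * G) : SLn (m + 1)) : Matrix (Fin (m + 1)) (Fin (m + 1)) F) =
        CfsgLib.Ore.comp c := by rw [mul_inv_cancel_left]; exact hGc
    rw [← h1, Matrix.SpecialLinearGroup.coe_mul, hr, Matrix.mul_smul, Matrix.mul_one]
  -- a common fixed vector
  let φ : (Fin (m + 1) → F) →ₗ[F] (Fin (m + 1 - 1) → F) :=
    LinearMap.pi fun i => (LinearMap.proj i1).comp (Matrix.toLin' ((P i)⁻¹ : SLn (m + 1)).1)
  obtain ⟨w, hw0, hw⟩ : ∃ w, w ≠ 0 ∧ φ w = 0 := by
    have hker : LinearMap.ker φ ≠ ⊥ := by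
      intro hb
      have := LinearMap.finrank_le_finrank_of_injective (LinearMap.ker_eq_bot.1 hb)
      simp at this
    obtain ⟨w, hw, hw0⟩ := Submodule.exists_mem_ne_zero_of_ne_bot hker
    exact ⟨w, hw0, hw⟩
  have hfix : ∀ i, ((P i * T * (P i)⁻¹ : SLn (m + 1)) : Matrix (Fin (m + 1)) (Fin (m + 1)) F) *ᵥ w = w := by
    intro i
    have h1 : ((((P i)⁻¹ : SLn (m + 1)) : Matrix (Fin (m + 1)) (Fin (m + 1)) F) *ᵥ w) i1 = 0 := congrFun hw i
    have h2 : (T : Matrix (Fin (m + 1)) (Fin (m + 1)) F) *ᵥ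
        ((((P i)⁻¹ : SLn (m + 1)) : Matrix (Fin (m + 1)) (Fin (m + 1)) F) *ᵥ w) =
        (((P i)⁻¹ : SLn (m + 1)) : Matrix (Fin (m + 1)) (Fin (m + 1)) F) *ᵥ w := by
      simp only [T, Matrix.transvection, Matrix.add_mulVec, Matrix.one_mulVec]
      rw [Matrix.single_mulVec, h1]
      simp
    rw [Matrix.SpecialLinearGroup.coe_mul, Matrix.SpecialLinearGroup.coe_mul, ← Matrix.mulVec_mulVec,
      ← Matrix.mulVec_mulVec, h2, Matrix.mulVec_mulVec, ← Matrix.SpecialLinearGroup.coe_mul, mul_inv_cancel,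
      Matrix.SpecialLinearGroup.coe_one, Matrix.one_mulVec]
  have hQw : (Q : Matrix (Fin (m + 1)) (Fin (m + 1)) F) *ᵥ w = w := by
    rw [hQ]
    have : ∀ l : List (SLn (m + 1)), (∀ A ∈ l, (A : Matrix (Fin (m + 1)) (Fin (m + 1)) F) *ᵥ w = w) →
        (l.prod : Matrix (Fin (m + 1)) (Fin (m + 1)) F) *ᵥ w = w := fun l hl => by
      induction l with
      | nil => simp
      | cons A l ih =>
        rw [List.prod_cons, Matrix.SpecialLinearGroup.coe_mul, ← Matrix.mulVec_mulVec,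
          ih fun B hB => hl B (List.mem_cons_of_mem _ hB), hl A List.mem_cons_self]
    exact this _ fun A hA => by
      obtain ⟨i, rfl⟩ := List.mem_ofFn.1 hA
      exact hfix i
  have hev : CfsgLib.Ore.comp c *ᵥ w = r • w := by rw [hG, Matrix.smul_mulVec, hQw]
  have hr0 : r ≠ 0 := fun e0 => by
    rw [e0, zero_smul] at hG
    rw [hG, Matrix.det_zero] at hdet
    exact zero_ne_one hdet
  have hroot : (cpoly c).eval r = 0 := by
    rw [← charpoly_comp c, Matrix.eval_charpoly]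
    exact Matrix.exists_mulVec_eq_zero_iff.1 ⟨w, hw0, by
      rw [Matrix.sub_mulVec, hev, sub_eq_zero, Matrix.scalar_apply, ← Matrix.smul_one_eq_diagonal, Matrix.smul_mulVec,
        Matrix.one_mulVec]⟩
  refine ha r hr0 ?_
  rw [← hroot, hc, cpoly]
  simp only [eval_add, eval_pow, eval_X, eval_finsetSum, eval_mul, eval_C]
  obtain ⟨p, rfl⟩ : ∃ p, m = p + 1 := ⟨m - 1, by omega⟩
  rw [Fin.sum_univ_succ, Fin.sum_univ_succ]
  simp
  ring

end CfsgLib.Known.CoverPSL
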